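import Cfsg.Agent.AltNineThree.Final
import Cfsg.Agent.AltNineThree.Orbits

/-!
# Computed facts used for the centralisers in the recognition of `Alt 9`
-/

set_option autoImplicit false

namespace CfsgLib.AltNineRecog

open CfsgLib.AltNineThree (M IsE IsP cls eOne eMix eAll)

set_option maxRecDepth 100000
set_option synthInstance.maxHeartbeats 200000
set_option synthInstance.maxSize 1024

/-- Equal modulo the subgroup generated by `eMix`. -/
def ModD (u v : M) : Prop := u = v ∨ u = v * eMix ∨ u = v * (eMix * eMix)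

instance : DecidableRel ModD := fun _ _ => inferInstanceAs (Decidable (_ ∨ _))

/-- In the subgroup spanned by `eMix` and `eOne`. -/
def InLine (u : M) : Prop := ModD u 1 ∨ ModD u eOne ∨ ModD u (eOne * eOne)

instance : DecidablePred InLine := fun _ => inferInstanceAs (Decidable (_ ∨ _))

theorem model_special : IsE eMix ∧ IsE eAll ∧ IsE eOne ∧ eMix ≠ 1 ∧ eAll ≠ 1 ∧ ¬ ModD eOne 1 := by
  decide +kernel

theorem isP_of_isE : ∀ m, IsE m → IsP m := by decide +kernel

theorem isP_iff_comm : ∀ m : M, m * eAll = eAll * m ↔ IsP m := by decide +kernel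

theorem card_cent_pSub : ∀ x : M, IsP x → ¬ IsE x →
    (Finset.univ.filter fun y : M => IsP y ∧ x * y = y * x).card ≤ 9 := by decide +kernel

theorem centD_acts : ∀ m : M, m * eMix = eMix * m →
    (∀ a, IsE a → ModD (m * a * m⁻¹) a) ∨ ∀ a, IsE a → ModD (m * a * m⁻¹) (a * a) := by
  decide +kernel

theorem centD_inverts : ∃ m : M, m * eMix = eMix * m ∧
    ∀ a, IsE a → ModD (m * a * m⁻¹) (a * a) := by
  decide +kernel

theorem centD_fix : ∀ m : M, m * eMix = eMix * m → ∀ a, IsE a → ¬ InLine a →
    ModD (m * a * m⁻¹) a → IsE m := by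
  decide +kernel

theorem coset_classes : ∀ a : M, IsE a → ¬ InLine a →
    (cls a ≠ cls (a * eMix) ∨ cls a ≠ cls (a * (eMix * eMix))) ∧
    (cls a = 13 ∨ cls (a * eMix) = 13 ∨ cls (a * (eMix * eMix)) = 13) := by
  decide +kernel

end CfsgLib.AltNineRecog
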