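import Cfsg.Agent.AltNineRecog.NineTwoSimple

/-!
# The Sylow subgroup of order nine is normal
-/

set_option autoImplicit false
set_option linter.style.haveILetI false
set_option linter.unusedSectionVars false

namespace CfsgLib.AltNineRecog

universe u

variable {X : Type u} [Group X] [Finite X]

/-- A normal subgroup with a central-in-normaliser Sylow subgroup is that Sylow subgroup, in a
group without normal subgroup of order prime to three. -/
theorem sylow_eq_top_of_core (hcore : ∀ L : Subgroup X, L.Normal → ¬ 3 ∣ Nat.card L → L = ⊥)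
    (M : Subgroup X) [hM : M.Normal] (P : Sylow 3 M)
    (hle : Subgroup.normalizer ((P : Subgroup M) : Set M) ≤
      Subgroup.centralizer ((P : Subgroup M) : Set M)) : (P : Subgroup M) = ⊤ := by
  haveI : Fact (Nat.Prime 3) := ⟨Nat.prime_three⟩
  set φ := MonoidHom.transferSylow P hle
  have hc : Subgroup.IsComplement' φ.ker (P : Subgroup M) :=
    MonoidHom.ker_transferSylow_isComplement' P hle
  have hnd : ¬ 3 ∣ Nat.card φ.ker := MonoidHom.not_dvd_card_ker_transferSylow P hle
  have hchar : ∀ y : M, ¬ 3 ∣ orderOf y → φ y = 1 := fun y hy => by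
    obtain ⟨k, hk⟩ := IsPGroup.iff_card.1 P.2
    have h1 : orderOf (φ y) ∣ 3 ^ k := hk ▸ orderOf_dvd_natCard _
    have h2 : orderOf (φ y) ∣ orderOf y := orderOf_map_dvd φ y
    have hco : (3 ^ k).Coprime (orderOf y) :=
      Nat.Coprime.pow_left _ ((Nat.prime_three.coprime_iff_not_dvd).2 hy)
    exact orderOf_eq_one_iff.1 (Nat.eq_one_of_dvd_coprimes hco h1 h2)
  have hN : (φ.ker.map M.subtype).Normal := by
    refine ⟨?_⟩
    rintro _ ⟨y, hy, rfl⟩ g
    refine ⟨⟨g * y * g⁻¹, hM.conj_mem _ y.2 g⟩, MonoidHom.mem_ker.2 (hchar _ fun h => hnd ?_), rfl⟩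
    rw [← Subgroup.orderOf_coe] at h
    have e : orderOf (g * (y : X) * g⁻¹) = orderOf (y : X) :=
      (MulAut.conj g).orderOf_eq (y : X)
    rw [show ((⟨g * y * g⁻¹, hM.conj_mem _ y.2 g⟩ : M) : X) = g * (y : X) * g⁻¹ from rfl, e] at h
    exact h.trans (by rw [Subgroup.orderOf_coe]; exact Subgroup.orderOf_dvd_natCard _ hy)
  have hbot := hcore _ hN (by rwa [Subgroup.card_map_of_injective M.subtype_injective])
  rw [Subgroup.map_eq_bot_iff_of_injective _ M.subtype_injective] at hbot
  rw [hbot, Subgroup.isComplement'_bot_left] at hc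
  exact hc

namespace NineTwo

variable (c : NineTwo X)

theorem exists_conj_mem' {y : X} (hy : y ^ 3 = 1) : ∃ g : X, g * y * g⁻¹ ∈ c.S := by
  haveI : Fact (Nat.Prime 3) := ⟨Nat.prime_three⟩
  let P : Sylow 3 X := ⟨c.S, c.isPGroup, fun {Q} hQ hle => (Subgroup.eq_of_le_of_card_ge hle (by
    rw [c.card_eq]; exact c.card_le hQ)).symm⟩
  have hyp : IsPGroup 3 (Subgroup.zpowers y) := by
    obtain ⟨i, -, hi⟩ := (Nat.dvd_prime_pow Nat.prime_three).1
      (show orderOf y ∣ 3 ^ 1 by rw [pow_one]; exact orderOf_dvd_of_pow_eq_one hy)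
    exact IsPGroup.of_card (n := i) (by rw [Nat.card_zpowers, hi])
  obtain ⟨Q, hQ⟩ := hyp.exists_le_sylow
  obtain ⟨d, hd⟩ := MulAction.exists_smul_eq X Q P
  refine ⟨d, ?_⟩
  have h : d * y * d⁻¹ ∈ (P : Subgroup X) := by
    rw [← hd, Sylow.coe_subgroup_smul]
    exact ⟨y, hQ (Subgroup.mem_zpowers y), rfl⟩
  exact h

theorem centralizer_S_le : Subgroup.centralizer (c.S : Set X) ≤ c.S := by
  obtain ⟨b, hb, hba⟩ := c.exists_outside
  intro g hg
  rw [← c.cent b hb hba]
  exact Subgroup.mem_centralizer_singleton_iff.2 (Subgroup.mem_centralizer_iff.1 hg b hb).symm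

theorem mem_of_sq {M : Subgroup X} {s : X} (hs : s ∈ c.S) (h : s * s ∈ M) : s ∈ M := by
  have h2 := mul_mem h h
  rwa [← mul_assoc, show s * s * s = 1 from c.exp s hs, one_mul] at h2

/-- An inverting element of a normal subgroup forces the Sylow subgroup inside it. -/
theorem le_of_inverts_mem {M : Subgroup X} [M.Normal] {g : X} (hg : g ∈ M)
    (h : ∀ s ∈ c.S, g * s * g⁻¹ = s⁻¹) : c.S ≤ M := by
  intro s hs
  have h1 : g * (s * g⁻¹ * s⁻¹) ∈ M :=
    mul_mem hg ((inferInstance : M.Normal).conj_mem _ (inv_mem hg) s)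
  rw [← mul_assoc, ← mul_assoc, h s hs, ← mul_inv_rev] at h1
  exact c.mem_of_sq hs (by simpa using inv_mem h1)

theorem normal_of_le (hcore : ∀ L : Subgroup X, L.Normal → ¬ 3 ∣ Nat.card L → L = ⊥)
    {M : Subgroup X} [hM : M.Normal] (hSM : c.S ≤ M) (hne : M ≠ ⊤) : c.S.Normal := by
  haveI : Fact (Nat.Prime 3) := ⟨Nat.prime_three⟩
  have hp : IsPGroup 3 (c.S.subgroupOf M) :=
    c.isPGroup.of_equiv (Subgroup.subgroupOfEquivOfLe hSM).symm
  let P : Sylow 3 M := ⟨c.S.subgroupOf M, hp, fun {Q} hQ hle =>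
    (Subgroup.eq_of_le_of_card_ge hle (by
      rw [Nat.card_congr (Subgroup.subgroupOfEquivOfLe hSM).toEquiv, c.card_eq,
        ← Subgroup.card_map_of_injective M.subtype_injective]
      exact c.card_le (hQ.map _))).symm⟩
  have hle : Subgroup.normalizer ((P : Subgroup M) : Set M) ≤
      Subgroup.centralizer ((P : Subgroup M) : Set M) := by
    intro g hg
    have hgN : (g : X) ∈ Subgroup.normalizer (c.S : Set X) := by
      refine Subgroup.mem_normalizer_iff.2 fun y => ⟨fun hy => ?_, fun hy => ?_⟩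
      · exact (Subgroup.mem_normalizer_iff.1 hg ⟨y, hSM hy⟩).1 hy
      · have hy' : y ∈ M := by
          have := mul_mem (mul_mem (inv_mem g.2) (hSM hy)) g.2
          rwa [show (g : X)⁻¹ * ((g : X) * y * (g : X)⁻¹) * g = y by group] at this
        exact (Subgroup.mem_normalizer_iff.1 hg ⟨y, hy'⟩).2 hy
    rcases c.norm _ hgN with h | h
    · exact Subgroup.mem_centralizer_iff.2 fun y hy =>
        Subtype.ext (mul_inv_eq_iff_eq_mul.1 (h (y : X) hy)).symm
    · exfalso
      have hsup := Sylow.normalizer_sup_eq_top P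
      refine hne ?_
      rw [show ((P : Subgroup M).map M.subtype) = c.S from
        Subgroup.map_subgroupOf_eq_of_le hSM] at hsup
      rw [eq_top_iff, ← hsup]
      refine sup_le (fun k hk => ?_) le_rfl
      rcases c.norm k hk with hk' | hk'
      · exact hSM (c.centralizer_S_le (Subgroup.mem_centralizer_iff.2 fun s hs =>
          (mul_inv_eq_iff_eq_mul.1 (hk' s hs)).symm))
      · have h1 : (g : X)⁻¹ * k ∈ c.S := c.centralizer_S_le (Subgroup.mem_centralizer_iff.2
          fun s hs => by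
            calc s * ((g : X)⁻¹ * k) = (g : X)⁻¹ * (g * s * (g : X)⁻¹) * k := by group
              _ = (g : X)⁻¹ * (k * s * k⁻¹) * k := by rw [h s hs, hk' s hs]
              _ = (g : X)⁻¹ * k * s := by group)
        have := mul_mem g.2 (hSM h1)
        rwa [mul_inv_cancel_left] at this
  have htop := sylow_eq_top_of_core hcore M P hle
  rw [show c.S = M from le_antisymm hSM (Subgroup.subgroupOf_eq_top.1 htop)]
  exact hM

theorem normal_of_inf (hcore : ∀ L : Subgroup X, L.Normal → ¬ 3 ∣ Nat.card L → L = ⊥)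
    {M : Subgroup X} [hM : M.Normal] (hSM : ¬ c.S ≤ M) {l : X} (hl : l ∈ c.S) (hlM : l ∈ M)
    (hl1 : l ≠ 1) : c.S.Normal := by
  haveI : Fact (Nat.Prime 3) := ⟨Nat.prime_three⟩
  have hlord := c.orderOf_eq hl hl1
  have hL : c.S ⊓ M = Subgroup.zpowers l := by
    refine (Subgroup.eq_of_le_of_card_ge (le_inf (Subgroup.zpowers_le.2 hl)
      (Subgroup.zpowers_le.2 hlM)) ?_).symm
    rw [Nat.card_zpowers, hlord]
    have hd := Subgroup.card_dvd_of_le (inf_le_left : c.S ⊓ M ≤ c.S)
    rw [c.card_eq] at hd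
    have h9 : Nat.card (c.S ⊓ M : Subgroup X) ≠ 9 := fun h => hSM (by
      have := Subgroup.eq_of_le_of_card_ge (inf_le_left : c.S ⊓ M ≤ c.S) (by rw [h, c.card_eq])
      exact this ▸ inf_le_right)
    obtain ⟨i, hi, he⟩ := (Nat.dvd_prime_pow Nat.prime_three).1
      (show Nat.card (c.S ⊓ M : Subgroup X) ∣ 3 ^ 2 from hd)
    rw [he] at h9 ⊢
    interval_cases i
    · norm_num
    · norm_num
    · exact absurd rfl h9
  have hlz : Subgroup.zpowers l ≤ M := Subgroup.zpowers_le.2 hlM
  have hLp : IsPGroup 3 (Subgroup.zpowers l) :=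
    IsPGroup.of_card (n := 1) (by rw [Nat.card_zpowers, hlord, pow_one])
  -- it is a Sylow subgroup of `M`
  have hmax : ∀ {Q : Subgroup M}, IsPGroup 3 Q → (Subgroup.zpowers l).subgroupOf M ≤ Q →
      Q = (Subgroup.zpowers l).subgroupOf M := by
    intro Q hQ hle
    refine (Subgroup.eq_of_le_of_card_ge hle ?_).symm
    rw [Nat.card_congr (Subgroup.subgroupOfEquivOfLe hlz).toEquiv, Nat.card_zpowers, hlord,
      ← Subgroup.card_map_of_injective M.subtype_injective]
    obtain ⟨k, hk⟩ := IsPGroup.iff_card.1 (hQ.map M.subtype)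
    have hle9 := c.card_le (hQ.map M.subtype)
    rw [hk] at hle9 ⊢
    by_contra hlt
    have hk2 : k = 2 := by
      have : k < 3 := by
        by_contra h
        have := Nat.pow_le_pow_right (show 0 < 3 by norm_num) (show 3 ≤ k by omega)
        omega
      interval_cases k <;> first | rfl | (exact absurd (by norm_num) hlt)
    refine hSM ?_
    let S' : Sylow 3 X := ⟨c.S, c.isPGroup, fun {R} hR hle => (Subgroup.eq_of_le_of_card_ge hle (by
      rw [c.card_eq]; exact c.card_le hR)).symm⟩
    obtain ⟨R, hR⟩ := (hQ.map M.subtype).exists_le_sylow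
    have heR : Q.map M.subtype = R := Subgroup.eq_of_le_of_card_ge hR (by
      rw [hk, hk2]; exact c.card_le R.2)
    obtain ⟨d, hd⟩ := MulAction.exists_smul_eq X R S'
    intro s hs
    have hs' : s ∈ ((d • R : Sylow 3 X) : Subgroup X) := by rw [hd]; exact hs
    rw [Sylow.coe_subgroup_smul, ← heR] at hs'
    obtain ⟨_, ⟨q, -, rfl⟩, rfl⟩ := hs'
    exact hM.conj_mem _ q.2 d
  let P : Sylow 3 M :=
    ⟨(Subgroup.zpowers l).subgroupOf M,
      hLp.of_equiv (Subgroup.subgroupOfEquivOfLe hlz).symm, hmax⟩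
  -- a conjugator of `l` in `M` fixes it
  have hfix : ∀ g ∈ M, g * l * g⁻¹ ∈ Subgroup.zpowers l → g * l * g⁻¹ = l := by
    intro g hg hgl
    have h1 : g * l * g⁻¹ = l ∨ g * l * g⁻¹ = l⁻¹ := by
      obtain ⟨k, hk⟩ := Subgroup.mem_zpowers_iff.1 hgl
      rw [← hk]
      have hmod : l ^ k = l ^ (k % 3) := by
        rw [← zpow_mod_orderOf, hlord]; norm_num
      rw [hmod]
      have h0 := Int.emod_nonneg k (show (3 : ℤ) ≠ 0 by norm_num)
      have h3 := Int.emod_lt_of_pos k (show (0 : ℤ) < 3 by norm_num)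
      rcases (show k % 3 = 0 ∨ k % 3 = 1 ∨ k % 3 = 2 by omega) with e | e | e
      · exfalso
        rw [hmod, e, zpow_zero] at hk
        exact hl1 (conj_eq_one_iff.1 hk.symm)
      · left; rw [e, zpow_one]
      · right; rw [e, zpow_two]; exact eq_inv_of_mul_eq_one_left (c.exp l hl)
    refine h1.resolve_right fun hinv => ?_
    have hne : l ≠ l⁻¹ := fun e => hl1 (by
      have h2 : l * l = 1 := mul_eq_one_iff_eq_inv.2 e
      simpa [h2] using c.exp l hl)
    by_cases hla : l ∈ Subgroup.zpowers c.a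
    swap
    · rcases c.eq_or_inv hl hla (g := g) (by rw [hinv]; exact inv_mem hl) with e | e
      · exact hne (e.symm.trans hinv)
      · have hgN : ∀ s ∈ c.S, g * s * g⁻¹ ∈ c.S := by
          intro s hs
          rw [← c.cent _ (inv_mem hl) (fun h => hla (by simpa using inv_mem h))]
          refine Subgroup.mem_centralizer_singleton_iff.2 ?_
          rw [← hinv]
          calc g * s * g⁻¹ * (g * l * g⁻¹) = g * (s * l) * g⁻¹ := by group
            _ = g * (l * s) * g⁻¹ := by rw [c.comm s hs l hl]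
            _ = _ := by group
        have hN : g ∈ Subgroup.normalizer (c.S : Set X) := by
          have heq : c.S.map (MulAut.conj g).toMonoidHom = c.S :=
            Subgroup.eq_of_le_of_card_ge (by rintro _ ⟨s, hs, rfl⟩; exact hgN s hs)
              (Subgroup.card_map_of_injective (MulAut.conj g).injective).ge
          refine Subgroup.mem_normalizer_iff.2 fun y => ⟨hgN y, fun hy => ?_⟩
          rw [← heq] at hy
          obtain ⟨z, hz, e'⟩ := hy
          rwa [← (MulAut.conj g).injective (show MulAut.conj g z = MulAut.conj g y from e')]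
        rcases c.norm g hN with h | h
        · exact hne ((h l hl).symm.trans hinv)
        · exact hSM (c.le_of_inverts_mem hg h)
    -- the line of `a`
    have hC := c.centralizer_zpowers hla hl1
    obtain ⟨d, hdC, hdg⟩ : ∃ d ∈ Subgroup.centralizer ({c.a} : Set X),
        d * g ∈ Subgroup.normalizer (c.S : Set X) := by
      set C := Subgroup.centralizer ({c.a} : Set X)
      have hS'C : c.S.map (MulAut.conj g).toMonoidHom ≤ C := by
        rintro _ ⟨s, hs, rfl⟩
        rw [← hC]
        refine Subgroup.mem_centralizer_singleton_iff.2 ?_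
        have e1 : g * s * g⁻¹ * l⁻¹ = l⁻¹ * (g * s * g⁻¹) := by
          rw [← hinv]
          calc g * s * g⁻¹ * (g * l * g⁻¹) = g * (s * l) * g⁻¹ := by group
            _ = g * (l * s) * g⁻¹ := by rw [c.comm s hs l hl]
            _ = _ := by group
        exact ((Commute.inv_right (e1 : Commute (g * s * g⁻¹) l⁻¹))).eq.trans (by rw [inv_inv]) |>
          fun e2 => by simpa using e2
      have hp : IsPGroup 3 (c.S.subgroupOf C) :=
        c.isPGroup.of_equiv (Subgroup.subgroupOfEquivOfLe c.le_centralizer_a).symm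
      let R : Sylow 3 C := ⟨c.S.subgroupOf C, hp, fun {Q} hQ hle =>
        (Subgroup.eq_of_le_of_card_ge hle (by
          rw [Nat.card_congr (Subgroup.subgroupOfEquivOfLe c.le_centralizer_a).toEquiv, c.card_eq,
            ← Subgroup.card_map_of_injective C.subtype_injective]
          exact c.card_le (hQ.map _))).symm⟩
      obtain ⟨R', hR'⟩ := ((c.isPGroup.map (MulAut.conj g).toMonoidHom).of_equiv
        (Subgroup.subgroupOfEquivOfLe hS'C).symm).exists_le_sylow
      obtain ⟨d, hd⟩ := MulAction.exists_smul_eq C R' R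
      refine ⟨d, d.2, ?_⟩
      have hgN : ∀ s ∈ c.S, (d : X) * g * s * ((d : X) * g)⁻¹ ∈ c.S := by
        intro s hs
        have h2 : d * ⟨g * s * g⁻¹, hS'C ⟨s, hs, rfl⟩⟩ * d⁻¹ ∈ (R : Subgroup C) := by
          rw [← hd, Sylow.coe_subgroup_smul]
          exact ⟨_, hR' (show g * s * g⁻¹ ∈ c.S.map (MulAut.conj g).toMonoidHom from
            ⟨s, hs, rfl⟩), rfl⟩
        have h3 : (d : X) * (g * s * g⁻¹) * (d : X)⁻¹ ∈ c.S := h2
        simpa [mul_assoc] using h3
      have heq : c.S.map (MulAut.conj ((d : X) * g)).toMonoidHom = c.S :=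
        Subgroup.eq_of_le_of_card_ge (by rintro _ ⟨s, hs, rfl⟩; exact hgN s hs)
          (Subgroup.card_map_of_injective (MulAut.conj ((d : X) * g)).injective).ge
      refine Subgroup.mem_normalizer_iff.2 fun y => ⟨hgN y, fun hy => ?_⟩
      rw [← heq] at hy
      obtain ⟨z, hz, e'⟩ := hy
      rwa [← (MulAut.conj ((d : X) * g)).injective
        (show MulAut.conj ((d : X) * g) z = MulAut.conj ((d : X) * g) y from e')]
    rcases c.norm _ hdg with h | h
    · have hdl : d * l⁻¹ = l⁻¹ * d :=
        (Commute.inv_right (Subgroup.mem_centralizer_singleton_iff.1 (hC.symm ▸ hdC) :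
          Commute d l)).eq
      refine hne ?_
      calc l = d * g * l * (d * g)⁻¹ := (h l hl).symm
        _ = d * (g * l * g⁻¹) * d⁻¹ := by group
        _ = l⁻¹ := by rw [hinv, hdl, mul_inv_cancel_right]
    -- `d` inverts the Sylow subgroup modulo `M`
    obtain ⟨T, _, φ, hcomm, hinj⟩ := c.exists_hom
    refine hSM fun s hs => ?_
    have hsC := c.le_centralizer_a hs
    have hq : d * s * d⁻¹ * s ∈ M := by
      have h0 : g * (s * g⁻¹ * s⁻¹) ∈ M := mul_mem hg (hM.conj_mem _ (inv_mem hg) s)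
      have h1 : d * s * d⁻¹ * s = d * (g * (s * g⁻¹ * s⁻¹))⁻¹ * d⁻¹ *
          (d * g * s * (d * g)⁻¹ * s) := by group
      rw [h1, h s hs, inv_mul_cancel, mul_one]
      exact hM.conj_mem _ (inv_mem h0) d
    set D := (M.subgroupOf (Subgroup.centralizer ({c.a} : Set X)))
    let q : Subgroup.centralizer ({c.a} : Set X) :=
      ⟨d, hdC⟩ * ⟨s, hsC⟩ * ⟨d, hdC⟩⁻¹ * ⟨s, hsC⟩
    have hqD : q ∈ D := hq
    obtain ⟨k, hk, hk3⟩ : ∃ k, ¬ 3 ∣ k ∧ q ^ (3 * k) = 1 := by
      have h9 : ¬ 9 ∣ Nat.card D := by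
        intro h9
        obtain ⟨Q, hQ⟩ := Sylow.exists_subgroup_card_pow_prime 3 (n := 2) (G := D) h9
        have hp : IsPGroup 3 ((Q.map D.subtype).map (Subgroup.subtype _)) :=
          ((IsPGroup.of_card hQ).map _).map _
        have hle' : (Q.map D.subtype).map (Subgroup.subtype _) ≤ M := by
          rintro _ ⟨_, ⟨y, -, rfl⟩, rfl⟩; exact y.2
        have := hmax (Q := ((Q.map D.subtype).map (Subgroup.subtype _)).subgroupOf M ⊔
          (Subgroup.zpowers l).subgroupOf M) ?_ le_sup_right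
        · have h2 := Subgroup.card_le_of_le (le_sup_left.trans this.le)
          rw [Nat.card_congr (Subgroup.subgroupOfEquivOfLe hle').toEquiv,
            Subgroup.card_map_of_injective (Subgroup.subtype_injective _),
            Subgroup.card_map_of_injective (Subgroup.subtype_injective _), hQ,
            Nat.card_congr (Subgroup.subgroupOfEquivOfLe hlz).toEquiv, Nat.card_zpowers, hlord] at h2
          norm_num at h2
        · refine IsPGroup.to_sup_of_normal_right' (hp.of_equiv
            (Subgroup.subgroupOfEquivOfLe hle').symm)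
            (hLp.of_equiv (Subgroup.subgroupOfEquivOfLe hlz).symm) ?_
          intro y hy
          refine Subgroup.centralizer_le_normalizer _ (Subgroup.mem_centralizer_iff.2 fun z hz => ?_)
          refine Subtype.ext ?_
          obtain ⟨w, -, hw⟩ := (show (y : X) ∈ (Q.map D.subtype).map (Subgroup.subtype _) from hy)
          have hyC : (y : X) ∈ Subgroup.centralizer ({l} : Set X) := by rw [hC, ← hw]; exact w.2
          obtain ⟨i, hi⟩ := Subgroup.mem_zpowers_iff.1 (show (z : X) ∈ Subgroup.zpowers l from hz)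
          change (z : X) * y = y * z
          rw [← hi]
          exact ((Commute.zpow_right (Subgroup.mem_centralizer_singleton_iff.1 hyC :
            Commute (y : X) l) i).eq).symm
      have hd' := Subgroup.orderOf_dvd_natCard D hqD
      by_cases h3 : 3 ∣ Nat.card D
      · obtain ⟨k, hk⟩ := h3
        exact ⟨k, fun h' => h9 (hk ▸ by simpa using Nat.mul_dvd_mul_left 3 h'),
          orderOf_dvd_iff_pow_eq_one.1 (hk ▸ hd')⟩
      · refine ⟨Nat.card D, h3, ?_⟩
        rw [mul_comm, pow_mul, orderOf_dvd_iff_pow_eq_one.1 hd', one_pow]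
    obtain ⟨e, he⟩ := c.exists_conj_mem (y := q ^ k) (by rw [← pow_mul, mul_comm, hk3])
    have heM : ((e * q ^ k * e⁻¹ : Subgroup.centralizer ({c.a} : Set X)) : X) ∈ M := by
      simp only [Subgroup.coe_mul, Subgroup.coe_inv, SubmonoidClass.coe_pow]
      exact hM.conj_mem _ (pow_mem hqD k) _
    have hφq : φ q = φ (⟨s, hsC⟩ * ⟨s, hsC⟩) := by
      simp only [q, map_mul, map_inv]
      rw [hcomm (φ ⟨d, hdC⟩), mul_inv_cancel_right]
    set p := e * q ^ k * e⁻¹ with hp
    have hpS : (p : X) ∈ c.S ⊓ M := ⟨he, heM⟩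
    have h1 : p⁻¹ * (⟨s, hsC⟩ * ⟨s, hsC⟩) ^ k = 1 := by
      refine hinj _ (mul_mem (inv_mem hpS.1) (pow_mem (mul_mem hs hs) k)) ?_
      rw [map_mul, map_inv, map_pow, ← hφq, hp, map_mul, map_mul, map_inv, map_pow, hcomm (φ e),
        mul_inv_cancel_right, inv_mul_cancel]
    have h2 : (s * s) ^ k ∈ M := by
      have := congrArg Subtype.val (inv_mul_eq_one.1 h1)
      simp only [SubmonoidClass.coe_pow, Subgroup.coe_mul] at this
      rw [← this]; exact hpS.2
    refine c.mem_of_sq hs ?_
    rcases eq_or_ne (s * s) 1 with e1 | e1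
    · rw [e1]; exact one_mem _
    have hord := c.orderOf_eq (mul_mem hs hs) e1
    obtain ⟨m, hm⟩ := exists_pow_eq_self_of_coprime (n := k) (x := s * s)
      (by rw [hord]; exact ((Nat.prime_three.coprime_iff_not_dvd).2 hk).symm)
    rw [← hm]; exact pow_mem h2 m
  have hle : Subgroup.normalizer ((P : Subgroup M) : Set M) ≤
      Subgroup.centralizer ((P : Subgroup M) : Set M) := by
    intro g hg
    refine Subgroup.mem_centralizer_iff.2 fun y hy => Subtype.ext ?_
    have h1 : (g : X) * l * (g : X)⁻¹ ∈ Subgroup.zpowers l :=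
      (Subgroup.mem_normalizer_iff.1 hg ⟨l, hlM⟩).1 (Subgroup.mem_zpowers l)
    have h2 := hfix g g.2 h1
    obtain ⟨i, hi⟩ := Subgroup.mem_zpowers_iff.1 (show (y : X) ∈ Subgroup.zpowers l from hy)
    change (y : X) * g = g * y
    rw [← hi]
    exact ((Commute.zpow_right (show Commute (g : X) l from mul_inv_eq_iff_eq_mul.1 h2) i).eq).symm
  have htop := sylow_eq_top_of_core hcore M P hle
  have hMl : M = Subgroup.zpowers l := le_antisymm (Subgroup.subgroupOf_eq_top.1 htop) hlz
  have hconj : ∀ g : X, g * l * g⁻¹ ∈ Subgroup.zpowers l := fun g => hMl ▸ hM.conj_mem l hlM g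
  have hCN : (Subgroup.centralizer ({l} : Set X)).Normal := by
    refine ⟨fun y hy g => Subgroup.mem_centralizer_singleton_iff.2 ?_⟩
    obtain ⟨i, hi⟩ := Subgroup.mem_zpowers_iff.1 (hconj g⁻¹)
    rw [inv_inv] at hi
    have h1 : Commute y (g⁻¹ * l * g) := hi ▸
      Commute.zpow_right (Subgroup.mem_centralizer_singleton_iff.1 hy) i
    calc g * y * g⁻¹ * l = g * (y * (g⁻¹ * l * g)) * g⁻¹ := by group
      _ = g * ((g⁻¹ * l * g) * y) * g⁻¹ := by rw [h1.eq]
      _ = _ := by group
  by_cases hla : l ∈ Subgroup.zpowers c.a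
  swap
  · rw [← c.cent l hl hla]; exact hCN
  rw [c.centralizer_zpowers hla hl1] at hCN
  haveI := hCN
  have hp : IsPGroup 3 (c.S.subgroupOf (Subgroup.centralizer ({c.a} : Set X))) :=
    c.isPGroup.of_equiv (Subgroup.subgroupOfEquivOfLe c.le_centralizer_a).symm
  let R : Sylow 3 (Subgroup.centralizer ({c.a} : Set X)) := ⟨_, hp, fun {Q} hQ hle =>
    (Subgroup.eq_of_le_of_card_ge hle (by
      rw [Nat.card_congr (Subgroup.subgroupOfEquivOfLe c.le_centralizer_a).toEquiv, c.card_eq,
        ← Subgroup.card_map_of_injective (Subgroup.subtype_injective _)]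
      exact c.card_le (hQ.map _))).symm⟩
  have hle' :
      Subgroup.normalizer ((R : Subgroup (Subgroup.centralizer ({c.a} : Set X))) :
          Set (Subgroup.centralizer ({c.a} : Set X))) ≤
        Subgroup.centralizer ((R : Subgroup (Subgroup.centralizer ({c.a} : Set X))) :
          Set (Subgroup.centralizer ({c.a} : Set X))) := by
    intro g hg
    have hgN : (g : X) ∈ Subgroup.normalizer (c.S : Set X) := by
      refine Subgroup.mem_normalizer_iff.2 fun y => ⟨fun hy => ?_, fun hy => ?_⟩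
      · exact (Subgroup.mem_normalizer_iff.1 hg ⟨y, c.le_centralizer_a hy⟩).1 hy
      · have hy' : y ∈ Subgroup.centralizer ({c.a} : Set X) := by
          have := mul_mem (mul_mem (inv_mem g.2) (c.le_centralizer_a hy)) g.2
          rwa [show (g : X)⁻¹ * ((g : X) * y * (g : X)⁻¹) * g = y by group] at this
        exact (Subgroup.mem_normalizer_iff.1 hg ⟨y, hy'⟩).2 hy
    rcases c.norm _ hgN with h | h
    · exact Subgroup.mem_centralizer_iff.2 fun y hy =>
        Subtype.ext (mul_inv_eq_iff_eq_mul.1 (h (y : X) hy)).symm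
    · exfalso
      have h1 := h c.a c.a_mem
      rw [Subgroup.mem_centralizer_singleton_iff.1 g.2, mul_inv_cancel_right] at h1
      have h2 : c.a * c.a = 1 := mul_eq_one_iff_eq_inv.2 h1
      exact c.a_ne (by simpa [h2] using c.exp c.a c.a_mem)
  have htopC := sylow_eq_top_of_core hcore _ R hle'
  rw [le_antisymm c.le_centralizer_a (Subgroup.subgroupOf_eq_top.1 htopC)]
  exact hCN

/-- Without a normal subgroup of order prime to three the Sylow subgroup is normal. -/
theorem normal (hcore : ∀ L : Subgroup X, L.Normal → ¬ 3 ∣ Nat.card L → L = ⊥) : c.S.Normal := by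
  haveI : Fact (Nat.Prime 3) := ⟨Nat.prime_three⟩
  by_cases hcomm : IsMulCommutative X
  · exact ⟨fun y hy g => by rwa [hcomm.is_comm.comm g y, mul_inv_cancel_right]⟩
  by_cases hM : ∃ M : Subgroup X, M.Normal ∧ M ≠ ⊥ ∧ M ≠ ⊤
  · obtain ⟨M, hn, h1, h2⟩ := hM
    haveI := hn
    have h3 : 3 ∣ Nat.card M := by
      by_contra h
      exact h1 (hcore M hn h)
    obtain ⟨y, hy⟩ := exists_prime_orderOf_dvd_card' (G := M) 3 h3
    obtain ⟨g, hg⟩ := c.exists_conj_mem' (y := (y : X))
      (by rw [← hy, ← Subgroup.orderOf_coe, pow_orderOf_eq_one])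
    by_cases hSM : c.S ≤ M
    · exact c.normal_of_le hcore hSM h2
    · refine c.normal_of_inf hcore hSM hg (hn.conj_mem _ y.2 g) fun e => ?_
      rw [← Subgroup.orderOf_coe, conj_eq_one_iff.1 e, orderOf_one] at hy
      norm_num at hy
  · haveI := Fintype.ofFinite X
    haveI : Nontrivial X := ⟨c.a, 1, c.a_ne⟩
    haveI : IsSimpleGroup X := ⟨fun M hn => by
      by_contra h
      push Not at h
      exact hM ⟨M, hn, h.1, h.2⟩⟩
    exact (c.not_simple hcomm).elim

end NineTwo

end CfsgLib.AltNineRecog
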