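import Cfsg.Agent.AltNineRecog.Setup
import Cfsg.Agent.AltNineRecog.NineTwo
import Cfsg.Agent.AltNineRecog.LocalModel
import Cfsg.Agent.OddOrder.ZJ.Main
import Cfsg.Agent.PLocal.GlaubermanThompson

/-!
# The centralisers of the elements of weight three and two

Such a group has its Sylow `3`-subgroup of order `81` inside `H`; the centralisers of
`(0 1 2)(3 4 5)(6 7 8)` and of `(0 1 2)(3 4 5)` lie in `H`, and `H` controls the fusion in the
elementary subgroup.
-/

set_option autoImplicit false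
set_option linter.style.haveILetI false
set_option linter.unusedSectionVars false

namespace CfsgLib.AltNineRecog

open CfsgLib.AltNineThree (M IsE IsP eOne eMix eAll eSub pSub cls)

universe u

namespace Setup

variable {G : Type u} [Group G] [Finite G] (c : Setup G)

/-- The elementary subgroup of order `27`. -/
def jGrp : Subgroup G := eSub.map c.el

/-- The `3`-subgroup of order `81`. -/
def pGrp : Subgroup G := pSub.map c.el

theorem card_jGrp : Nat.card c.jGrp = 27 := by
  rw [jGrp, Subgroup.card_map_of_injective c.el_injective, ← AltNineThree.card_E,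
    ← Fintype.card_subtype, ← Nat.card_eq_fintype_card]
  rfl

theorem card_pGrp : Nat.card c.pGrp = 81 := by
  rw [pGrp, Subgroup.card_map_of_injective c.el_injective, AltNineThree.card_pSub]

theorem card_H : Nat.card c.H = 648 := by
  rw [Nat.card_congr c.e.toEquiv, Nat.card_eq_fintype_card, AltNineThree.card_M]

theorem isPGroup_pGrp : IsPGroup 3 c.pGrp :=
  IsPGroup.of_card (n := 4) (by rw [c.card_pGrp]; norm_num)

theorem pGrp_le : c.pGrp ≤ c.H := by rintro _ ⟨m, -, rfl⟩; exact c.el_mem m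

theorem jGrp_le_pGrp : c.jGrp ≤ c.pGrp := Subgroup.map_mono fun m hm => isP_of_isE m hm

theorem jGrp_comm {a b : G} (ha : a ∈ c.jGrp) (hb : b ∈ c.jGrp) : a * b = b * a := by
  obtain ⟨m, hm, rfl⟩ := ha
  obtain ⟨n, hn, rfl⟩ := hb
  rw [← map_mul, ← map_mul, (AltNineThree.E_mul m hm n hn).2]

theorem jGrp_cube {a : G} (ha : a ∈ c.jGrp) : a * a * a = 1 := by
  obtain ⟨m, hm, rfl⟩ := ha
  rw [← map_mul, ← map_mul, hm.2, map_one]

theorem el_e_symm (m : M) : ((c.e.symm m : c.H) : G) = c.el m := rfl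

/-- An element mapping `J` into itself lies in `H`. -/
theorem mem_H_of_jGrp {g : G} (h : ∀ j ∈ c.jGrp, g * j * g⁻¹ ∈ c.jGrp) : g ∈ c.H := by
  refine c.norm g fun a ha => ?_
  obtain ⟨m, hm, e⟩ := h a ⟨c.e a, ha, by simp [el]⟩
  exact ⟨c.e.symm m, by rw [MulEquiv.apply_symm_apply]; exact hm, e.symm⟩

theorem pow_le_of_isPGroup_le_H {R : Subgroup G} (hR : IsPGroup 3 R) (hle : R ≤ c.H) :
    Nat.card R ≤ 81 := by
  haveI : Fact (Nat.Prime 3) := ⟨Nat.prime_three⟩
  obtain ⟨k, hk⟩ := IsPGroup.iff_card.1 hR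
  have hd := Subgroup.card_dvd_of_le hle
  rw [c.card_H, hk] at hd
  rw [hk]
  by_contra h
  have h5 : 5 ≤ k := by
    by_contra h5
    exact h ((Nat.pow_le_pow_right (by norm_num) (by omega : k ≤ 4)).trans (by norm_num))
  exact absurd ((pow_dvd_pow 3 h5).trans hd) (by norm_num)

/-- `J` is the only commutative subgroup of `P` of order at least `27`. -/
theorem eq_jGrp {B : Subgroup G} (hB : B ≤ c.pGrp) (hc : ∀ a ∈ B, ∀ b ∈ B, a * b = b * a)
    (h27 : 27 ≤ Nat.card B) : B = c.jGrp := by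
  refine Subgroup.eq_of_le_of_card_ge (fun b hb => ?_) (by rw [c.card_jGrp]; exact h27)
  obtain ⟨x, hx, rfl⟩ := hB hb
  by_contra hE
  have hxE : ¬ IsE x := fun h => hE ⟨x, h, rfl⟩
  have hle : B ≤ (pSub ⊓ Subgroup.centralizer ({x} : Set M)).map c.el := by
    intro y hy
    obtain ⟨n, hn, rfl⟩ := hB hy
    refine ⟨n, ⟨hn, Subgroup.mem_centralizer_singleton_iff.2 (c.el_injective ?_)⟩, rfl⟩
    rw [map_mul, map_mul]
    exact hc _ hy _ hb
  have h9 := Subgroup.card_le_of_le hle
  rw [Subgroup.card_map_of_injective c.el_injective] at h9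
  have h : Nat.card (pSub ⊓ Subgroup.centralizer ({x} : Set M) : Subgroup M) ≤
      (Finset.univ.filter fun y : M => IsP y ∧ x * y = y * x).card := by
    rw [← Fintype.card_subtype, ← Nat.card_eq_fintype_card]
    exact Nat.card_le_card_of_injective
      (fun y => ⟨y.1, y.2.1, (Subgroup.mem_centralizer_singleton_iff.1 y.2.2).symm⟩)
      fun y z e => Subtype.ext (congrArg (fun w => w.1) e)
  have := card_cent_pSub x hx hxE
  omega

/-- An element mapping `J` into `P` lies in `H`. -/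
theorem mem_H_of_pGrp {g : G} (h : ∀ j ∈ c.jGrp, g * j * g⁻¹ ∈ c.pGrp) : g ∈ c.H := by
  have heq : c.jGrp.map (MulAut.conj g).toMonoidHom = c.jGrp :=
    c.eq_jGrp (by rintro _ ⟨j, hj, rfl⟩; exact h j hj)
      (by
        rintro _ ⟨a, ha, rfl⟩ _ ⟨b, hb, rfl⟩
        rw [← map_mul, ← map_mul, c.jGrp_comm ha hb])
      (by rw [Subgroup.card_map_of_injective (MulAut.conj g).injective, c.card_jGrp])
  exact c.mem_H_of_jGrp fun j hj => heq.le ⟨j, hj, rfl⟩

theorem exists_sylow : ∃ P : Sylow 3 G, (P : Subgroup G) = c.pGrp := by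
  haveI : Fact (Nat.Prime 3) := ⟨Nat.prime_three⟩
  obtain ⟨P, hP⟩ := c.isPGroup_pGrp.exists_le_sylow
  refine ⟨P, le_antisymm ?_ hP⟩
  by_contra hlt
  haveI : Group.IsNilpotent (P : Subgroup G) := P.2.isNilpotent
  have hnc := Group.normalizerCondition_of_isNilpotent (G := (P : Subgroup G))
    (c.pGrp.subgroupOf P) (lt_top_iff_ne_top.2 fun ht => hlt (Subgroup.subgroupOf_eq_top.1 ht))
  refine hnc.2 fun x hx => Subgroup.mem_subgroupOf.2 ?_
  have hxH : (x : G) ∈ c.H := c.mem_H_of_pGrp fun j hj =>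
    Subgroup.mem_subgroupOf.1 ((Subgroup.mem_normalizer_iff.1 hx ⟨j, hP (c.jGrp_le_pGrp hj)⟩).1
      (Subgroup.mem_subgroupOf.2 (c.jGrp_le_pGrp hj)))
  have hR : IsPGroup 3 ((P : Subgroup G) ⊓ c.H : Subgroup G) := P.2.to_le inf_le_left
  rw [Subgroup.eq_of_le_of_card_ge (le_inf hP c.pGrp_le)
    (by rw [c.card_pGrp]; exact c.pow_le_of_isPGroup_le_H hR inf_le_right)]
  exact ⟨x.2, hxH⟩

/-- A `3`-subgroup through `J` is conjugated into `P` by an element of `H`. -/
theorem exists_conj_le {R : Subgroup G} (hR : IsPGroup 3 R) (h : c.jGrp ≤ R) :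
    ∃ k ∈ c.H, ∀ r ∈ R, k * r * k⁻¹ ∈ c.pGrp := by
  haveI : Fact (Nat.Prime 3) := ⟨Nat.prime_three⟩
  obtain ⟨P, hP⟩ := c.exists_sylow
  obtain ⟨Q, hQ⟩ := hR.exists_le_sylow
  obtain ⟨k, hk⟩ := MulAction.exists_smul_eq G Q P
  have hmem : ∀ r ∈ R, k * r * k⁻¹ ∈ c.pGrp := fun r hr => by
    rw [← hP, ← hk, Sylow.coe_subgroup_smul]
    exact ⟨r, hQ hr, rfl⟩
  exact ⟨k, c.mem_H_of_pGrp fun j hj => hmem j (h hj), hmem⟩

/-- An element mapping `J` into a `3`-subgroup through `J` lies in `H`. -/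
theorem mem_H_of_isPGroup {R : Subgroup G} (hR : IsPGroup 3 R) (h : c.jGrp ≤ R) {g : G}
    (hg : ∀ j ∈ c.jGrp, g * j * g⁻¹ ∈ R) : g ∈ c.H := by
  obtain ⟨k, hk, hkR⟩ := c.exists_conj_le hR h
  have hkg : k * g ∈ c.H := c.mem_H_of_pGrp fun j hj => by
    have := hkR _ (hg j hj)
    simpa [mul_assoc] using this
  simpa using c.H.mul_mem (c.H.inv_mem hk) hkg

include c in
theorem card_le_of_isPGroup {R : Subgroup G} (hR : IsPGroup 3 R) : Nat.card R ≤ 81 := by
  haveI : Fact (Nat.Prime 3) := ⟨Nat.prime_three⟩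
  obtain ⟨P, hP⟩ := c.exists_sylow
  obtain ⟨Q, hQ⟩ := hR.exists_le_sylow
  refine (Subgroup.card_le_of_le hQ).trans (le_of_eq ?_)
  rw [Sylow.card_eq_multiplicity Q, ← Sylow.card_eq_multiplicity P]
  show Nat.card (P : Subgroup G) = 81
  rw [hP, c.card_pGrp]

theorem le_H_of_isPGroup {R : Subgroup G} (hR : IsPGroup 3 R) (h : c.jGrp ≤ R) : R ≤ c.H := by
  obtain ⟨k, hk, hkR⟩ := c.exists_conj_le hR h
  intro r hr
  have := c.H.mul_mem (c.H.mul_mem (c.H.inv_mem hk) (c.pGrp_le (hkR r hr))) hk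
  simpa [mul_assoc] using this

/-- `H` controls the fusion in `J`. -/
theorem fusion (a b : M) (ha : IsE a) (hb : IsE b) (z : G) (hz : z * c.el a * z⁻¹ = c.el b) :
    ∃ m : M, m * a * m⁻¹ = b := by
  haveI : Fact (Nat.Prime 3) := ⟨Nat.prime_three⟩
  set Y := Subgroup.centralizer ({c.el b} : Set G) with hY
  have h1 : c.jGrp ≤ Y := fun j hj =>
    Subgroup.mem_centralizer_singleton_iff.2 (c.jGrp_comm hj ⟨b, hb, rfl⟩)
  set J' := c.jGrp.map (MulAut.conj z).toMonoidHom with hJ'
  have h2 : J' ≤ Y := by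
    rintro _ ⟨j, hj, rfl⟩
    refine Subgroup.mem_centralizer_singleton_iff.2 ?_
    change z * j * z⁻¹ * c.el b = c.el b * (z * j * z⁻¹)
    rw [← hz]
    calc z * j * z⁻¹ * (z * c.el a * z⁻¹) = z * (j * c.el a) * z⁻¹ := by group
      _ = z * (c.el a * j) * z⁻¹ := by rw [c.jGrp_comm hj ⟨a, ha, rfl⟩]
      _ = _ := by group
  have hJp : IsPGroup 3 c.jGrp := c.isPGroup_pGrp.to_le c.jGrp_le_pGrp
  have hp1 : IsPGroup 3 (c.jGrp.subgroupOf Y) :=
    hJp.of_equiv (Subgroup.subgroupOfEquivOfLe h1).symm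
  have hp2 : IsPGroup 3 (J'.subgroupOf Y) :=
    (hJp.map _).of_equiv (Subgroup.subgroupOfEquivOfLe h2).symm
  obtain ⟨R1, hR1⟩ := hp1.exists_le_sylow
  obtain ⟨R2, hR2⟩ := hp2.exists_le_sylow
  obtain ⟨d, hd⟩ := MulAction.exists_smul_eq Y R2 R1
  have hdz : (d : G) * z ∈ c.H := by
    refine c.mem_H_of_isPGroup (R := (R1 : Subgroup Y).map Y.subtype) (R1.2.map _)
      (fun j hj => ⟨⟨j, h1 hj⟩, hR1 hj, rfl⟩) fun j hj => ?_
    have hj' : z * j * z⁻¹ ∈ J' := ⟨j, hj, rfl⟩
    refine ⟨d * ⟨z * j * z⁻¹, h2 hj'⟩ * d⁻¹, ?_, ?_⟩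
    · show d * ⟨z * j * z⁻¹, h2 hj'⟩ * d⁻¹ ∈ (R1 : Subgroup Y)
      rw [← hd, Sylow.coe_subgroup_smul]
      exact ⟨_, hR2 hj', rfl⟩
    · simp [mul_assoc]
  obtain ⟨m, hm⟩ := c.exists_el hdz
  refine ⟨m, c.el_injective ?_⟩
  have hdb : (d : G) * c.el b = c.el b * d := Subgroup.mem_centralizer_singleton_iff.1 d.2
  rw [map_mul, map_mul, map_inv, hm]
  calc (d : G) * z * c.el a * ((d : G) * z)⁻¹ = d * (z * c.el a * z⁻¹) * (d : G)⁻¹ := by group
    _ = c.el b := by rw [hz, hdb, mul_inv_cancel_right]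

theorem orderOf_el {a : M} (ha : IsE a) (h1 : a ≠ 1) : orderOf (c.el a) = 3 := by
  haveI : Fact (Nat.Prime 3) := ⟨Nat.prime_three⟩
  refine orderOf_eq_prime ?_ fun e => h1 (c.el_injective (by rw [e, map_one]))
  rw [pow_succ, pow_two]
  exact c.jGrp_cube ⟨a, ha, rfl⟩

/-- A normal subgroup of order prime to three of the centraliser of an element of order three of
`H` is trivial. -/
theorem core_eq_bot {a : M} (ha : IsE a) (h1 : a ≠ 1)
    {L : Subgroup (Subgroup.centralizer ({c.el a} : Set G))} (hL : L.Normal)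
    (h3 : ¬ 3 ∣ Nat.card L) : L = ⊥ :=
  le_bot_iff.1 ((show Cfsg.pPrimeCore 3 (Subgroup.centralizer ({c.el a} : Set G)) = ⊥ from c.cores a ha h1) ▸
    le_sSup ⟨hL, ((Nat.prime_three.coprime_iff_not_dvd).2 h3).symm⟩)

theorem thompson_pGrp : Cfsg.centerThompsonOf 3 c.pGrp = c.jGrp := by
  have hmax : PLocal.maxEAIn 3 c.pGrp = {c.jGrp} := by
    have hel : Cfsg.IsElementaryAbelian 3 c.jGrp :=
      ⟨⟨⟨fun a b => Subtype.ext (c.jGrp_comm a.2 b.2)⟩⟩, fun a ha => by
        rw [pow_succ, pow_two]; exact c.jGrp_cube ha⟩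
    ext A
    constructor
    · rintro ⟨hle, he, hm⟩
      exact c.eq_jGrp hle (fun a ha b hb => congrArg Subtype.val
        (he.1.is_comm.comm (⟨a, ha⟩ : A) ⟨b, hb⟩)) (c.card_jGrp ▸ hm _ c.jGrp_le_pGrp hel)
    · rintro rfl
      refine ⟨c.jGrp_le_pGrp, hel, fun B hB he => ?_⟩
      by_contra hlt
      have hlt' := not_le.1 hlt
      have := c.eq_jGrp hB (fun a ha b hb => congrArg Subtype.val
        (he.1.is_comm.comm (⟨a, ha⟩ : B) ⟨b, hb⟩)) (c.card_jGrp ▸ hlt'.le)
      rw [this] at hlt'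
      exact lt_irrefl _ hlt'
  rw [Cfsg.centerThompsonOf, PLocal.thompsonSubgroupOf_eq, hmax, sSup_singleton, inf_eq_left]
  exact fun a ha => Subgroup.mem_centralizer_iff.2 fun b hb => c.jGrp_comm hb ha

/-- The centraliser of `(0 1 2)(3 4 5)(6 7 8)`. -/
theorem centX : Subgroup.centralizer ({c.el eAll} : Set G) ≤ c.H := by
  haveI : Fact (Nat.Prime 3) := ⟨Nat.prime_three⟩
  obtain ⟨-, hE, -, -, hne, -⟩ := model_special
  set X := Subgroup.centralizer ({c.el eAll} : Set G) with hX
  have hPX : c.pGrp ≤ X := by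
    rintro _ ⟨m, hm, rfl⟩
    refine Subgroup.mem_centralizer_singleton_iff.2 ?_
    rw [← map_mul, ← map_mul, (isP_iff_comm m).2 hm]
  have hXH : ∀ g ∈ X, g ∈ c.H → g ∈ c.pGrp := by
    intro g hg hgH
    obtain ⟨m, rfl⟩ := c.exists_el hgH
    refine ⟨m, (isP_iff_comm m).1 (c.el_injective ?_), rfl⟩
    rw [map_mul, map_mul]
    exact Subgroup.mem_centralizer_singleton_iff.1 hg
  let Q : Sylow 3 X :=
    ⟨c.pGrp.subgroupOf X, c.isPGroup_pGrp.of_equiv (Subgroup.subgroupOfEquivOfLe hPX).symm,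
      fun {R} hR hle => (Subgroup.eq_of_le_of_card_ge hle (by
        rw [Nat.card_congr (Subgroup.subgroupOfEquivOfLe hPX).toEquiv, c.card_pGrp,
          ← Subgroup.card_map_of_injective X.subtype_injective]
        exact c.card_le_of_isPGroup (hR.map _))).symm⟩
  have hZ : (Cfsg.centerThompsonOf 3 (Q : Subgroup X)).map X.subtype = c.jGrp := by
    rw [OddOrder.ZJ.map_centerThompsonOf X.subtype_injective.injOn,
      show ((Q : Subgroup X).map X.subtype) = c.pGrp from Subgroup.map_subgroupOf_eq_of_le hPX,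
      c.thompson_pGrp]
  have hN : Subgroup.normalizer (Cfsg.centerThompsonOf 3 (Q : Subgroup X) : Set X) ≤
      (Q : Subgroup X) := by
    intro g hg
    refine hXH _ g.2 (c.mem_H_of_jGrp fun j hj => ?_)
    rw [← hZ] at hj ⊢
    obtain ⟨y, hy, rfl⟩ := hj
    exact ⟨g * y * g⁻¹, (Subgroup.mem_normalizer_iff.1 hg y).1 hy, rfl⟩
  have hNc : Cfsg.HasNormalPComplement 3
      (Subgroup.normalizer (Cfsg.centerThompsonOf 3 (Q : Subgroup X) : Set X)) := by
    have hp := Q.2.to_le hN
    refine ⟨⟨⊤, hp.of_equiv Subgroup.topEquiv.symm, fun _ hle => top_le_iff.1 hle⟩, ⊥,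
      inferInstance, ?_⟩
    exact Subgroup.isComplement'_bot_top
  obtain ⟨R, K, hK, hKR⟩ :=
    (PLocal.hasNormalPComplement_iff_normalizer_centerThompsonOf (by norm_num) Q).2 hNc
  have h3 : ¬ 3 ∣ Nat.card K := by
    rw [← hKR.index_eq_card]
    exact R.not_dvd_index
  have hbot := c.core_eq_bot hE hne hK h3
  rw [hbot, Subgroup.isComplement'_bot_left] at hKR
  intro g hg
  refine c.le_H_of_isPGroup ((R.2.map X.subtype)) ?_ ⟨⟨g, hg⟩, by rw [hKR]; trivial, rfl⟩
  exact fun j hj => ⟨⟨j, hPX (c.jGrp_le_pGrp hj)⟩, by rw [hKR]; trivial, rfl⟩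

/-- The centraliser of an element of the class of `(0 1 2)(3 4 5)(6 7 8)`. -/
theorem cent_all {a : M} (ha : cls a = 13) :
    Subgroup.centralizer ({c.el a} : Set G) ≤ c.H := by
  obtain ⟨m, rfl⟩ := AltNineThree.conj_of_cls
    (show cls eAll = cls a by rw [AltNineThree.cls_eMix.2.2, ha])
  intro g hg
  have h : (c.el m)⁻¹ * g * c.el m ∈ c.H := c.centX (Subgroup.mem_centralizer_singleton_iff.2 (by
    have h' := Subgroup.mem_centralizer_singleton_iff.1 hg
    rw [map_mul, map_mul, map_inv] at h'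
    calc (c.el m)⁻¹ * g * c.el m * c.el eAll
        = (c.el m)⁻¹ * (g * (c.el m * c.el eAll * (c.el m)⁻¹)) * c.el m := by group
      _ = (c.el m)⁻¹ * ((c.el m * c.el eAll * (c.el m)⁻¹) * g) * c.el m := by rw [h']
      _ = _ := by group))
  have := c.H.mul_mem (c.H.mul_mem (c.el_mem m) h) (c.H.inv_mem (c.el_mem m))
  simpa [mul_assoc] using this

/-- The centraliser of `(0 1 2)(3 4 5)`. -/
theorem centD : Subgroup.centralizer ({c.el eMix} : Set G) ≤ c.H := by
  haveI : Fact (Nat.Prime 3) := ⟨Nat.prime_three⟩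
  obtain ⟨hEd, -, hE1, hd1, -, h1line⟩ := model_special
  set Y := Subgroup.centralizer ({c.el eMix} : Set G) with hY
  let d : Y := ⟨c.el eMix, Subgroup.mem_centralizer_singleton_iff.2 rfl⟩
  set D := Subgroup.zpowers d with hD
  have hdc : ∀ z ∈ D, ∀ y : Y, y * z = z * y := by
    rintro z ⟨k, rfl⟩ y
    exact (Commute.zpow_right
      (Subtype.ext (Subgroup.mem_centralizer_singleton_iff.1 y.2) : Commute y d) k).eq
  haveI : D.Normal := ⟨fun z hz y => by rwa [hdc z hz y, mul_inv_cancel_right]⟩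
  have hdord : orderOf d = 3 := by
    rw [← Subgroup.orderOf_coe]; exact c.orderOf_el hEd hd1
  have hDcard : Nat.card D = 3 := by rw [Nat.card_zpowers, hdord]
  have hDmem : ∀ z ∈ D, (z : G) = 1 ∨ (z : G) = c.el eMix ∨ (z : G) = c.el (eMix * eMix) := by
    intro z hz
    obtain ⟨i, hi, rfl⟩ : ∃ i < 3, d ^ i = z := by
      obtain ⟨k, rfl⟩ := (mem_powers_iff_mem_zpowers (x := d)).2 hz
      exact ⟨k % 3, Nat.mod_lt _ (by norm_num), hdord ▸ pow_mod_orderOf d k⟩
    interval_cases i
    · left; simp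
    · right; left; simp [d]
    · right; right; simp [d, pow_two]
  have hcy : ∀ m : M, c.el m ∈ Y → m * eMix = eMix * m := fun m hm => c.el_injective (by
    rw [map_mul, map_mul]; exact Subgroup.mem_centralizer_singleton_iff.1 hm)
  have hyc : ∀ m : M, m * eMix = eMix * m → c.el m ∈ Y := fun m hm =>
    Subgroup.mem_centralizer_singleton_iff.2 (by rw [← map_mul, ← map_mul, hm])
  have hJY : c.jGrp ≤ Y := fun j hj =>
    Subgroup.mem_centralizer_singleton_iff.2 (c.jGrp_comm hj ⟨eMix, hEd, rfl⟩)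
  set π := QuotientGroup.mk' D with hπ
  have hπsurj : Function.Surjective π := QuotientGroup.mk'_surjective D
  -- equality modulo `⟨d⟩` on the model
  have hmod : ∀ (u v : M) (hu : c.el u ∈ Y) (hv : c.el v ∈ Y),
      π ⟨_, hu⟩ = π ⟨_, hv⟩ ↔ ModD u v := by
    intro u v hu hv
    rw [eq_comm, show π ⟨_, hv⟩ = π ⟨_, hu⟩ ↔ (⟨_, hv⟩ : Y)⁻¹ * ⟨_, hu⟩ ∈ D from
      QuotientGroup.eq]
    constructor
    · intro h
      have h' := hDmem _ h
      simp only [Subgroup.coe_mul, InvMemClass.coe_inv, ← map_inv, ← map_mul] at h'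
      rw [← map_one c.el] at h'
      rcases h' with e | e | e <;> have e' := c.el_injective e
      · exact Or.inl (inv_mul_eq_one.1 e').symm
      · exact Or.inr (Or.inl (eq_mul_of_inv_mul_eq e'))
      · exact Or.inr (Or.inr (eq_mul_of_inv_mul_eq e'))
    · rintro (rfl | rfl | rfl)
      · rw [inv_mul_cancel]; exact one_mem _
      · have : (⟨_, hv⟩ : Y)⁻¹ * ⟨_, hu⟩ = d := Subtype.ext (by simp [d])
        rw [this]; exact Subgroup.mem_zpowers d
      · have : (⟨_, hv⟩ : Y)⁻¹ * ⟨_, hu⟩ = d * d := Subtype.ext (by simp [d])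
        rw [this]; exact mul_mem (Subgroup.mem_zpowers d) (Subgroup.mem_zpowers d)
  set S := (c.jGrp.subgroupOf Y).map π with hS
  have hDJ : D ≤ c.jGrp.subgroupOf Y := by
    rw [hD, Subgroup.zpowers_le]
    exact ⟨eMix, hEd, rfl⟩
  have hcomap : S.comap π = c.jGrp.subgroupOf Y := by
    rw [hS, Subgroup.comap_map_eq, hπ, QuotientGroup.ker_mk']
    exact sup_eq_left.2 hDJ
  have hXcard : Nat.card Y = Nat.card (Y ⧸ D) * 3 := by
    rw [Subgroup.card_eq_card_quotient_mul_card_subgroup D, hDcard]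
  have hScard : Nat.card S = 9 := by
    have h1 := Subgroup.card_mul_index (S.comap π)
    rw [Subgroup.index_comap_of_surjective _ hπsurj, hcomap,
      Nat.card_congr (Subgroup.subgroupOfEquivOfLe hJY).toEquiv, c.card_jGrp, hXcard,
      ← Subgroup.card_mul_index S] at h1
    have hpos : 0 < S.index := Nat.pos_of_ne_zero Subgroup.index_ne_zero_of_finite
    nlinarith
  have hmemS : ∀ (u : M) (hu : c.el u ∈ Y), IsE u → π ⟨_, hu⟩ ∈ S := fun u hu hE =>
    ⟨_, (⟨u, hE, rfl⟩ : c.el u ∈ c.jGrp), rfl⟩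
  have hSmem : ∀ s ∈ S, ∃ (u : M) (hu : c.el u ∈ Y), IsE u ∧ π ⟨_, hu⟩ = s := by
    rintro s ⟨⟨y, hy⟩, hyJ, rfl⟩
    obtain ⟨u, hu, rfl⟩ := (hyJ : y ∈ c.jGrp)
    exact ⟨u, hy, hu, rfl⟩
  have hback : ∀ g : Y, (∀ s ∈ S, π g * s * (π g)⁻¹ ∈ S) → (g : G) ∈ c.H := by
    intro g hg
    refine c.mem_H_of_jGrp fun j hj => ?_
    have h1 := hg (π ⟨j, hJY hj⟩) ⟨_, hj, rfl⟩
    rw [← map_inv, ← map_mul, ← map_mul, ← Subgroup.mem_comap, hcomap] at h1
    exact h1
  -- the Sylow subgroup of order nine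
  have hnd : ¬ 27 ∣ Nat.card (Y ⧸ D) := by
    intro h27
    have hp : IsPGroup 3 (c.jGrp.subgroupOf Y) :=
      (c.isPGroup_pGrp.to_le c.jGrp_le_pGrp).of_equiv (Subgroup.subgroupOfEquivOfLe hJY).symm
    obtain ⟨R, hR⟩ := hp.exists_le_sylow
    have h81 : 3 ^ 4 ∣ Nat.card R := Sylow.pow_dvd_card_of_pow_dvd_card R (by
      rw [hXcard]
      exact (show 3 ^ 4 = 27 * 3 by norm_num) ▸ Nat.mul_dvd_mul_right h27 3)
    set R' := (R : Subgroup Y).map Y.subtype with hR'
    have hRH : R' ≤ c.H :=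
      c.le_H_of_isPGroup (R.2.map _) fun j hj => ⟨⟨j, hJY hj⟩, hR hj, rfl⟩
    have hle : R' ≤ (Subgroup.centralizer ({eMix} : Set M)).map c.el := by
      intro g hg
      obtain ⟨m, rfl⟩ := c.exists_el (hRH hg)
      obtain ⟨y, -, e⟩ := hg
      exact ⟨m, Subgroup.mem_centralizer_singleton_iff.2 (hcy m (e ▸ y.2)), rfl⟩
    have h54 := Subgroup.card_dvd_of_le hle
    rw [hR', Subgroup.card_map_of_injective Y.subtype_injective,
      Subgroup.card_map_of_injective c.el_injective,
      show Nat.card (Subgroup.centralizer ({eMix} : Set M)) = 54 by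
        rw [← AltNineThree.centCard_rep.2.1, AltNineThree.centCard, ← Fintype.card_subtype,
          ← Nat.card_eq_fintype_card]
        exact Nat.card_congr (Equiv.subtypeEquivRight fun x =>
          Subgroup.mem_centralizer_singleton_iff)] at h54
    exact absurd (h81.trans h54) (by norm_num)
  have hInv : ∀ (m : M) (hm : c.el m ∈ Y), (∀ a, IsE a → ModD (m * a * m⁻¹) (a * a)) →
      ∀ s ∈ S, π ⟨_, hm⟩ * s * (π ⟨_, hm⟩)⁻¹ = s⁻¹ := by
    intro m hm h s hs
    obtain ⟨u, hu, hE, rfl⟩ := hSmem s hs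
    have e : (π ⟨_, hu⟩)⁻¹ = π ⟨c.el (u * u), by rw [map_mul]; exact mul_mem hu hu⟩ := by
      rw [← map_inv]
      refine congrArg π (Subtype.ext ?_)
      change (c.el u)⁻¹ = c.el (u * u)
      rw [map_mul]
      exact inv_eq_of_mul_eq_one_right (by
        rw [← mul_assoc]; exact c.jGrp_cube ⟨u, hE, rfl⟩)
    rw [e, ← map_inv, ← map_mul, ← map_mul]
    have hv : c.el (m * u * m⁻¹) ∈ Y := by
      rw [map_mul, map_mul, map_inv]; exact mul_mem (mul_mem hm hu) (inv_mem hm)
    refine (congrArg π (Subtype.ext ?_)).trans ((hmod _ _ hv _).2 (h u hE))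
    simp
  let N : NineTwo (Y ⧸ D) :=
    { S := S
      card_eq := hScard
      exp := fun s hs => by
        obtain ⟨u, hu, hE, rfl⟩ := hSmem s hs
        rw [← map_mul, ← map_mul]
        exact (congrArg π (Subtype.ext (c.jGrp_cube ⟨u, hE, rfl⟩) :
          (⟨_, hu⟩ : Y) * ⟨_, hu⟩ * ⟨_, hu⟩ = 1)).trans (map_one π)
      comm := fun s hs t ht => by
        obtain ⟨u, hu, hE, rfl⟩ := hSmem s hs
        obtain ⟨v, hv, hE', rfl⟩ := hSmem t ht
        rw [← map_mul, ← map_mul]
        exact congrArg π (Subtype.ext (c.jGrp_comm ⟨u, hE, rfl⟩ ⟨v, hE', rfl⟩))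
      not_dvd := hnd
      a := π ⟨c.el eOne, hJY ⟨eOne, hE1, rfl⟩⟩
      a_mem := hmemS _ _ hE1
      a_ne := fun e => h1line ((hmod eOne 1 _ (by rw [map_one]; exact one_mem _)).1 (e.trans (by
        rw [show (⟨c.el 1, _⟩ : Y) = 1 from Subtype.ext (map_one c.el), map_one])))
      cent := fun s hs hsa => by
        refine le_antisymm ?_ ?_
        · intro x hx
          obtain ⟨⟨g, hgY⟩, rfl⟩ := hπsurj x
          obtain ⟨u, hu, hE, rfl⟩ := hSmem s hs
          have hline : ¬ InLine u := by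
            intro hl
            apply hsa
            rcases hl with e | e | e
            · rw [(hmod u 1 hu (by rw [map_one]; exact one_mem _)).2 e,
                show (⟨c.el 1, _⟩ : Y) = 1 from Subtype.ext (map_one c.el), map_one]
              exact one_mem _
            · rw [(hmod u eOne hu (hJY ⟨eOne, hE1, rfl⟩)).2 e]
              exact Subgroup.mem_zpowers _
            · rw [(hmod u (eOne * eOne) hu (hJY ⟨_, (AltNineThree.E_mul _ hE1 _ hE1).1, rfl⟩)).2 e,
                show (⟨c.el (eOne * eOne), _⟩ : Y) =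
                  ⟨c.el eOne, hJY ⟨eOne, hE1, rfl⟩⟩ * ⟨c.el eOne, hJY ⟨eOne, hE1, rfl⟩⟩
                  from Subtype.ext (map_mul c.el eOne eOne), map_mul]
              exact mul_mem (Subgroup.mem_zpowers _) (Subgroup.mem_zpowers _)
          obtain ⟨hcls, h13⟩ := coset_classes u hE hline
          have hgd : g * c.el eMix = c.el eMix * g := Subgroup.mem_centralizer_singleton_iff.1 hgY
          have h0 : π (⟨g, hgY⟩ * ⟨_, hu⟩ * ⟨g, hgY⟩⁻¹) = π ⟨_, hu⟩ := by
            rw [map_mul, map_mul, map_inv, mul_inv_eq_iff_eq_mul]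
            exact Subgroup.mem_centralizer_singleton_iff.1 hx
          have h1 : g * c.el u * g⁻¹ = c.el u := by
            have h' := hDmem _ (QuotientGroup.eq.1 h0.symm)
            have hval : ∀ t : G, (c.el u)⁻¹ * (g * c.el u * g⁻¹) = t →
                g * c.el u * g⁻¹ = c.el u * t := fun t ht => by rw [← ht, mul_inv_cancel_left]
            have hstep : ∀ w t : M, IsE w → IsE t → g * c.el u * g⁻¹ = c.el (u * t) →
                g * c.el w * g⁻¹ = c.el w → g * c.el (u * w) * g⁻¹ = c.el (u * (t * w)) := by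
              intro w t _ _ e e'
              calc g * c.el (u * w) * g⁻¹ = (g * c.el u * g⁻¹) * (g * c.el w * g⁻¹) := by
                    rw [map_mul]; group
                _ = _ := by rw [e, e', ← map_mul, mul_assoc]
            have hd' : g * c.el eMix * g⁻¹ = c.el eMix := by rw [hgd, mul_inv_cancel_right]
            have hE2 : IsE (eMix * eMix) := (AltNineThree.E_mul _ hEd _ hEd).1
            have hclseq : ∀ v w : M, IsE v → IsE w → g * c.el v * g⁻¹ = c.el w →
                cls v = cls w := fun v w hv hw e => by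
              obtain ⟨m, rfl⟩ := c.fusion v w hv hw g e
              rw [AltNineThree.cls_conj]
            have hm1 := (AltNineThree.E_mul u hE _ hEd).1
            have hm2 := (AltNineThree.E_mul u hE _ hE2).1
            rcases h' with e | e | e
            · exact (hval _ e).trans (mul_one _)
            · exfalso
              have e1 : g * c.el u * g⁻¹ = c.el (u * eMix) := by rw [map_mul]; exact hval _ e
              have e2 := hclseq _ _ hm1 hm2 (hstep eMix eMix hEd hEd e1 hd')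
              rcases hcls with h | h
              · exact h (hclseq _ _ hE hm1 e1)
              · exact h ((hclseq _ _ hE hm1 e1).trans e2)
            · exfalso
              have e1 : g * c.el u * g⁻¹ = c.el (u * (eMix * eMix)) := by
                rw [map_mul c.el u]; exact hval _ e
              have hd2 : g * c.el (eMix * eMix) * g⁻¹ = c.el (eMix * eMix) := by
                rw [map_mul]
                calc g * (c.el eMix * c.el eMix) * g⁻¹
                    = (g * c.el eMix * g⁻¹) * (g * c.el eMix * g⁻¹) := by group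
                  _ = _ := by rw [hd']
              have e2 := hclseq _ _ hm2 hm1 ((hstep _ _ hE2 hE2 e1 hd2).trans (by
                rw [show eMix * eMix * (eMix * eMix) = eMix by
                  rw [← mul_assoc, hEd.2, one_mul]]))
              rcases hcls with h | h
              · exact h ((hclseq _ _ hE hm2 e1).trans e2)
              · exact h (hclseq _ _ hE hm2 e1)
          have hcom : g * c.el u = c.el u * g := mul_inv_eq_iff_eq_mul.1 h1
          have hgH : g ∈ c.H := by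
            rcases h13 with h | h | h <;>
              refine c.cent_all h (Subgroup.mem_centralizer_singleton_iff.2 ?_)
            · exact hcom
            · rw [map_mul]; exact (Commute.mul_right hcom hgd).eq
            · rw [map_mul, map_mul]; exact (Commute.mul_right hcom (Commute.mul_right hgd hgd)).eq
          obtain ⟨m, rfl⟩ := c.exists_el hgH
          refine hmemS m hgY (centD_fix m (hcy m hgY) u hE hline (Or.inl (c.el_injective ?_)))
          rw [map_mul, map_mul, map_inv]; exact h1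
        · intro x hx
          obtain ⟨v, hv, hE', rfl⟩ := hSmem x hx
          obtain ⟨u, hu, hE, rfl⟩ := hSmem s hs
          rw [Subgroup.mem_centralizer_singleton_iff, ← map_mul, ← map_mul]
          exact congrArg π (Subtype.ext (c.jGrp_comm ⟨v, hE', rfl⟩ ⟨u, hE, rfl⟩))
      norm := fun x hx => by
        obtain ⟨⟨g, hgY⟩, rfl⟩ := hπsurj x
        have hgH : g ∈ c.H := hback ⟨g, hgY⟩ fun s hs => (Subgroup.mem_normalizer_iff.1 hx s).1 hs
        obtain ⟨m, rfl⟩ := c.exists_el hgH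
        rcases centD_acts m (hcy m hgY) with h | h
        · left
          intro s hs
          obtain ⟨u, hu, hE, rfl⟩ := hSmem s hs
          rw [← map_inv, ← map_mul, ← map_mul]
          have hv : c.el (m * u * m⁻¹) ∈ Y := by
            rw [map_mul, map_mul, map_inv]; exact mul_mem (mul_mem hgY hu) (inv_mem hgY)
          refine (congrArg π (Subtype.ext ?_)).trans ((hmod _ _ hv hu).2 (h u hE))
          simp
        · right; exact hInv m hgY h
      inv_elt := by
        obtain ⟨m, hm, h⟩ := centD_inverts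
        exact ⟨_, hInv m (hyc m hm) h⟩ }
  have hnormal : S.Normal := N.normal fun L hL h3 => by
    haveI := hL.comap π
    set L' := L.comap π with hL'
    have hDL : D ≤ L' := fun z hz => by
      change π z ∈ L
      rw [show π z = 1 from (QuotientGroup.eq_one_iff z).2 hz]
      exact one_mem _
    have hcardL : Nat.card L' = 3 * Nat.card L := by
      have h1 := Subgroup.card_mul_index L'
      rw [hL', Subgroup.index_comap_of_surjective _ hπsurj, hXcard,
        ← Subgroup.card_mul_index L] at h1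
      exact Nat.eq_of_mul_eq_mul_right (Nat.pos_of_ne_zero Subgroup.index_ne_zero_of_finite)
        (h1.trans (by ring) : Nat.card L' * L.index = 3 * Nat.card L * L.index)
    have hcD : Nat.card (D.subgroupOf L') = 3 := by
      rw [Nat.card_congr (Subgroup.subgroupOfEquivOfLe hDL).toEquiv, hDcard]
    let P : Sylow 3 L' :=
      ⟨D.subgroupOf L', IsPGroup.of_card (n := 1) (by rw [hcD, pow_one]),
        fun {Q} hQ hle => (Subgroup.eq_of_le_of_card_ge hle (by
          rw [hcD]
          obtain ⟨k, hk⟩ := IsPGroup.iff_card.1 hQ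
          have hd := Subgroup.card_subgroup_dvd_card Q
          rw [hk, hcardL] at hd
          rw [hk]
          rcases k with _ | _ | k
          · norm_num
          · norm_num
          · exact absurd (Nat.dvd_of_mul_dvd_mul_left (by norm_num)
              ((show 3 * 3 ∣ 3 ^ (k + 2) from Dvd.intro_left _ (pow_add 3 k 2).symm).trans hd))
              h3)).symm⟩
    have htop := sylow_eq_top_of_core (fun K hK h => c.core_eq_bot hEd hd1 hK h) L' P
      fun y _ => Subgroup.mem_centralizer_iff.2 fun z hz =>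
        Subtype.ext (hdc _ (Subgroup.mem_subgroupOf.1 hz) (y : Y)).symm
    refine eq_bot_iff.2 fun x hx => Subgroup.mem_bot.2 ?_
    obtain ⟨y, rfl⟩ := hπsurj x
    exact (QuotientGroup.eq_one_iff y).2 (Subgroup.subgroupOf_eq_top.1 htop hx)
  intro g hg
  exact hback ⟨g, hg⟩ fun s hs => hnormal.conj_mem s hs _

/-- What holds for every such group. -/
theorem isLocal : c.Local := ⟨c.centX, c.centD, c.fusion⟩

end Setup

end CfsgLib.AltNineRecog
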