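import Cfsg.Prelude.Def_Solvable
import Cfsg.Prelude.Def_Transfer
import Cfsg.Agent.ExtraspecialBasic.Order

/-!
# An involution with centraliser `2^(1+4).S₃` fused inside and outside its core is not weakly closed

`WeakCtx`: `s` an involution whose centraliser `L` has a normal extraspecial subgroup `Q` of order
`32` with `L/Q ≅ S₃`, an element `d` of order three fixing only `s` in `Q`, and a conjugate `u` of
`s` inverting `d` such that `u * s` is no conjugate and some involution exchanges `s` and `u`.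
Then another conjugate of `s` lies in `Q`.  Otherwise the five conjugates of `s` commuting with `s`
and `u` carry a three-cycle fixing one of them, and the centraliser of that one has no element
acting so.
-/

set_option autoImplicit false
set_option linter.unusedSectionVars false
set_option linter.style.haveILetI false

namespace CfsgLib.AltNineRecog

open Equiv

set_option synthInstance.maxSize 1024

universe u

theorem perm3_pow_four : ∀ p : Perm (Fin 3), p * p * (p * p) = 1 → p * p = 1 := by decide +kernel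

theorem perm3_eq_of_commute : ∀ a b : Perm (Fin 3), a * a = 1 → b * b = 1 → a ≠ 1 → b ≠ 1 →
    a * b = b * a → a = b := by decide +kernel

theorem perm3_sq_of_commute : ∀ a b : Perm (Fin 3), a * a = 1 → a ≠ 1 → b * a = a * b →
    b * b = 1 := by decide +kernel

/-- The data. -/
structure WeakCtx (G : Type u) [Group G] where
  s : G
  uInv : G
  d : G
  h : G
  Q : Subgroup G
  ψ : Subgroup.centralizer ({s} : Set G) →* Perm (Fin 3)
  ker : ∀ l, ψ l = 1 ↔ (l : G) ∈ Q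
  Q_le : Q ≤ Subgroup.centralizer ({s} : Set G)
  s_sq : s * s = 1
  s_ne : s ≠ 1
  s_mem : s ∈ Q
  card_Q : Nat.card Q = 32
  sq : ∀ q ∈ Q, q * q = 1 ∨ q * q = s
  comm : ∀ q ∈ Q, ∀ r ∈ Q, q * r * q⁻¹ = r ∨ q * r * q⁻¹ = r * s
  fix_d : ∀ q ∈ Q, q * d = d * q → q = 1 ∨ q = s
  d_mem : d * s = s * d
  d_cube : d * d * d = 1
  h_sq : h * h = 1
  h_s : h * s * h = uInv
  u_comm : uInv * s = s * uInv
  u_ne : uInv ≠ s
  u_inv : uInv * d * uInv = d⁻¹
  not_conj : ¬ IsConj s (uInv * s)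
  weak : ∀ x ∈ Q, IsConj s x → x = s

namespace WeakCtx

variable {G : Type u} [Group G] (c : WeakCtx G)

/-- The centraliser of `s`. -/
abbrev L : Subgroup G := Subgroup.centralizer ({c.s} : Set G)

theorem mem_L {g : G} : g ∈ c.L ↔ g * c.s = c.s * g := Subgroup.mem_centralizer_singleton_iff

theorem h_inv : c.h⁻¹ = c.h := inv_eq_of_mul_eq_one_right c.h_sq

theorem hh (g : G) : c.h * (c.h * g * c.h) * c.h = g := by
  calc c.h * (c.h * g * c.h) * c.h = (c.h * c.h) * g * (c.h * c.h) := by group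
    _ = g := by rw [c.h_sq, one_mul, mul_one]

theorem h_mul (a b : G) : c.h * (a * b) * c.h = (c.h * a * c.h) * (c.h * b * c.h) := by
  calc c.h * (a * b) * c.h = c.h * a * (c.h * c.h) * b * c.h := by rw [c.h_sq]; group
    _ = _ := by group

theorem h_u : c.h * c.uInv * c.h = c.s := by rw [← c.h_s, c.hh]

theorem h_commute {a b : G} (h : a * b = b * a) :
    (c.h * a * c.h) * (c.h * b * c.h) = (c.h * b * c.h) * (c.h * a * c.h) := by
  rw [← c.h_mul, ← c.h_mul, h]

theorem isConj_u : IsConj c.s c.uInv :=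
  isConj_iff.2 ⟨c.h, by rw [c.h_inv]; exact c.h_s⟩

theorem u_sq : c.uInv * c.uInv = 1 := by
  rw [← c.h_s, ← c.h_mul, c.s_sq, mul_one, c.h_sq]

theorem u_inv' : c.uInv⁻¹ = c.uInv := inv_eq_of_mul_eq_one_right c.u_sq

theorem u_mem : c.uInv ∈ c.L := c.mem_L.2 c.u_comm

theorem u_not_Q : c.uInv ∉ c.Q := fun h => c.u_ne (c.weak _ h c.isConj_u)

theorem sq_of_isConj {x : G} (hx : IsConj c.s x) : x * x = 1 := by
  obtain ⟨k, rfl⟩ := isConj_iff.1 hx
  rw [show k * c.s * k⁻¹ * (k * c.s * k⁻¹) = k * (c.s * c.s) * k⁻¹ by group, c.s_sq, mul_one,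
    mul_inv_cancel]

theorem Q_conj {l q : G} (hl : l ∈ c.L) (hq : q ∈ c.Q) : l * q * l⁻¹ ∈ c.Q := by
  have h : c.ψ (⟨l, hl⟩ * ⟨q, c.Q_le hq⟩ * ⟨l, hl⟩⁻¹) = 1 := by
    rw [map_mul, map_mul, (c.ker ⟨q, c.Q_le hq⟩).2 hq, mul_one, map_inv, mul_inv_cancel]
  exact (c.ker _).1 h

theorem Q_s {q : G} (hq : q ∈ c.Q) : q * c.s = c.s * q := c.mem_L.1 (c.Q_le hq)

/-- Two commuting involutions of `L` outside `Q` agree modulo `Q`. -/
theorem same_coset {x y : G} (hx : x ∈ c.L) (hy : y ∈ c.L) (hx2 : x * x = 1) (hy2 : y * y = 1)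
    (hxQ : x ∉ c.Q) (hyQ : y ∉ c.Q) (hxy : x * y = y * x) :
    c.ψ ⟨x, hx⟩ = c.ψ ⟨y, hy⟩ := by
  refine perm3_eq_of_commute _ _ ?_ ?_ (fun h => hxQ ((c.ker _).1 h))
    (fun h => hyQ ((c.ker _).1 h)) ?_
  · rw [← map_mul, ← map_one c.ψ]; exact congrArg c.ψ (Subtype.ext hx2)
  · rw [← map_mul, ← map_one c.ψ]; exact congrArg c.ψ (Subtype.ext hy2)
  · rw [← map_mul, ← map_mul]; exact congrArg c.ψ (Subtype.ext hxy)

/-- An element of `Q` commuting with `u` modulo `⟨s⟩` commutes with `u`. -/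
theorem comm_of_mod {q : G} (h : c.uInv * q * c.uInv = q ∨ c.uInv * q * c.uInv = q * c.s)
    (hq : q ∈ c.Q) : q * c.uInv = c.uInv * q := by
  rcases h with e | e
  · calc q * c.uInv = c.uInv * q * c.uInv * c.uInv := by rw [e]
      _ = c.uInv * q * (c.uInv * c.uInv) := by group
      _ = c.uInv * q := by rw [c.u_sq, mul_one]
  · refine absurd ?_ c.not_conj
    refine c.isConj_u.trans (isConj_iff.2 ⟨q⁻¹, ?_⟩)
    calc q⁻¹ * c.uInv * q⁻¹⁻¹ = q⁻¹ * (c.uInv * q * c.uInv) * c.uInv := by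
          rw [inv_inv]
          calc q⁻¹ * c.uInv * q = q⁻¹ * c.uInv * q * (c.uInv * c.uInv) := by rw [c.u_sq, mul_one]
            _ = _ := by group
      _ = q⁻¹ * (q * c.s) * c.uInv := by rw [e]
      _ = c.uInv * c.s := by rw [c.u_comm]; group

/-- The fixed points of `u` in `Q`. -/
def W : Subgroup G := c.Q ⊓ Subgroup.centralizer ({c.uInv} : Set G)

theorem mem_W {g : G} : g ∈ c.W ↔ g ∈ c.Q ∧ g * c.uInv = c.uInv * g := by
  rw [W, Subgroup.mem_inf, Subgroup.mem_centralizer_singleton_iff]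

theorem s_mem_W : c.s ∈ c.W := c.mem_W.2 ⟨c.s_mem, c.u_comm.symm⟩

theorem W_norm {q w : G} (hq : q ∈ c.Q) (hw : w ∈ c.W) : q * w * q⁻¹ ∈ c.W := by
  rcases c.comm q hq w (c.mem_W.1 hw).1 with e | e <;> rw [e]
  · exact hw
  · exact mul_mem hw c.s_mem_W

theorem h_W {w : G} (hw : w ∈ c.W) : c.h * w * c.h ∈ c.L := by
  have := c.h_commute (c.mem_W.1 hw).2
  rw [c.h_u] at this
  exact c.mem_L.2 this

/-- The image of an element of `W`, carried over by `h`, in `S₃`. -/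
noncomputable def θ : c.W →* Perm (Fin 3) :=
  c.ψ.comp (MonoidHom.mk' (fun w => (⟨c.h * w * c.h, c.h_W w.2⟩ : c.L))
    fun a b => Subtype.ext (c.h_mul (a : G) (b : G)))

theorem θ_eq (w : c.W) : c.θ w = c.ψ ⟨c.h * w * c.h, c.h_W w.2⟩ := rfl

theorem θ_s : c.θ ⟨c.s, c.s_mem_W⟩ ≠ 1 := fun h => c.u_not_Q (c.h_s ▸ (c.ker _).1 h)

theorem W_sq {w : G} (hw : w ∈ c.W) : w * w = 1 := by
  rcases c.sq w (c.mem_W.1 hw).1 with e | e
  · exact e
  · refine absurd ?_ c.θ_s
    have h4 : c.θ ⟨w, hw⟩ * c.θ ⟨w, hw⟩ * (c.θ ⟨w, hw⟩ * c.θ ⟨w, hw⟩) = 1 := by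
      rw [← map_mul, ← map_mul, ← map_one c.θ]
      refine congrArg c.θ (Subtype.ext ?_)
      show w * w * (w * w) = 1
      rw [e, c.s_sq]
    have h2 := perm3_pow_four _ h4
    rw [← map_mul] at h2
    rw [show (⟨c.s, c.s_mem_W⟩ : c.W) = ⟨w, hw⟩ * ⟨w, hw⟩ from Subtype.ext e.symm]
    exact h2

theorem W_comm {a b : G} (ha : a ∈ c.W) (hb : b ∈ c.W) : a * b = b * a := by
  have hi : ∀ {w : G}, w ∈ c.W → w⁻¹ = w := fun hw => inv_eq_of_mul_eq_one_right (c.W_sq hw)
  have e := hi (mul_mem ha hb)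
  rw [mul_inv_rev, hi ha, hi hb] at e
  exact e.symm

variable [Finite G]

theorem card_W : Nat.card c.W = 8 := by
  classical
  obtain ⟨n, hn, hW⟩ := (Nat.dvd_prime_pow Nat.prime_two).1
    (show Nat.card c.W ∣ 2 ^ 5 by
      have := Subgroup.card_dvd_of_le (show c.W ≤ c.Q from inf_le_left)
      rwa [c.card_Q] at this)
  have hupper : Nat.card c.W * Nat.card c.W ≤ 64 := by
    obtain ⟨W', hW'⟩ : ∃ W', W' = c.W.map (MulAut.conj c.d).toMonoidHom := ⟨_, rfl⟩
    have hW'Q : W' ≤ c.Q := by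
      rw [hW']
      rintro _ ⟨w, hw, rfl⟩
      exact c.Q_conj (c.mem_L.2 c.d_mem) (c.mem_W.1 hw).1
    have hcard : Nat.card W' = Nat.card c.W := by
      rw [hW', Subgroup.card_map_of_injective (f := (MulAut.conj c.d).toMonoidHom)
        (MulAut.conj c.d).injective]
    have hinf : c.W ⊓ W' ≤ Subgroup.zpowers c.s := by
      rintro x ⟨hx, hx'⟩
      rw [hW'] at hx'
      obtain ⟨w, hw, hwx⟩ := hx'
      replace hwx : c.d * w * c.d⁻¹ = x := hwx
      have h1 : Commute x c.uInv := (c.mem_W.1 hx).2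
      have h2 : Commute x (c.d * c.uInv * c.d⁻¹) := by
        rw [← hwx]
        exact (Commute.conj_iff c.d).2 (c.mem_W.1 hw).2
      have h3 : Commute x c.d := by
        have hd : c.uInv * (c.d * c.uInv * c.d⁻¹) = c.d := by
          calc c.uInv * (c.d * c.uInv * c.d⁻¹) = (c.uInv * c.d * c.uInv) * c.d⁻¹ := by group
            _ = c.d⁻¹ * c.d⁻¹ := by rw [c.u_inv]
            _ = c.d⁻¹ * c.d⁻¹ * (c.d * c.d * c.d) := by rw [c.d_cube, mul_one]
            _ = c.d := by group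
        rw [← hd]
        exact h1.mul_right h2
      rcases c.fix_d x (c.mem_W.1 hx).1 h3 with e | e <;> rw [e]
      · exact one_mem _
      · exact Subgroup.mem_zpowers _
    have h2 : Nat.card (c.W ⊓ W' : Subgroup G) ≤ 2 :=
      (Subgroup.card_le_of_le hinf).trans (by
        rw [Nat.card_zpowers]
        exact Nat.le_of_dvd two_pos (orderOf_dvd_of_pow_eq_one (by rw [pow_two, c.s_sq])))
    have hne : (W'.subgroupOf c.Q).index ≠ 0 := Subgroup.index_ne_zero_of_finite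
    have hle : W'.relIndex c.W ≤ W'.relIndex c.Q :=
      Subgroup.relIndex_le_of_le_right inf_le_left hne
    have e1 := Subgroup.card_mul_index ((c.W ⊓ W').subgroupOf c.W)
    rw [Nat.card_congr (Subgroup.subgroupOfEquivOfLe inf_le_left).toEquiv,
      ← Subgroup.relIndex, Subgroup.inf_relIndex_left] at e1
    have e2 := Subgroup.card_mul_index (W'.subgroupOf c.Q)
    rw [Nat.card_congr (Subgroup.subgroupOfEquivOfLe hW'Q).toEquiv, c.card_Q, hcard,
      ← Subgroup.relIndex] at e2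
    calc Nat.card c.W * Nat.card c.W
        = Nat.card (c.W ⊓ W' : Subgroup G) * W'.relIndex c.W * Nat.card c.W := by rw [e1]
      _ ≤ 2 * W'.relIndex c.Q * Nat.card c.W := by gcongr
      _ = 2 * (Nat.card c.W * W'.relIndex c.Q) := by ring
      _ = 64 := by rw [e2]
  have hlower : 64 ≤ Nat.card c.W * Nat.card c.W := by
    obtain ⟨Z, hZ⟩ : ∃ Z : Subgroup c.Q, Z = (Subgroup.zpowers c.s).subgroupOf c.Q := ⟨_, rfl⟩
    have hmemZ : ∀ q : c.Q, q ∈ Z ↔ (q : G) = 1 ∨ (q : G) = c.s := by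
      intro q
      rw [hZ, Subgroup.mem_subgroupOf]
      refine ⟨fun h => ?_, ?_⟩
      · obtain ⟨k, hk⟩ := Subgroup.mem_zpowers_iff.1 h
        rw [← hk]
        rcases Int.even_or_odd k with ⟨m, rfl⟩ | ⟨m, rfl⟩
        · exact Or.inl (by rw [← two_mul, zpow_mul, zpow_two, c.s_sq, one_zpow])
        · exact Or.inr (by rw [zpow_add, zpow_mul, zpow_two, c.s_sq, one_zpow, one_mul, zpow_one])
      · rintro (e | e) <;> rw [e]
        · exact one_mem _
        · exact Subgroup.mem_zpowers _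
    haveI hZn : Z.Normal := ⟨fun n hn g => (hmemZ _).2 (by
      rcases (hmemZ n).1 hn with e | e
      · left; show (g : G) * n * (g : G)⁻¹ = 1
        rw [e, mul_one, mul_inv_cancel]
      · right; show (g : G) * n * (g : G)⁻¹ = c.s
        rw [e, c.Q_s g.2, mul_inv_cancel_right])⟩
    have hcomm : ∀ a b : c.Q ⧸ Z, a * b = b * a := by
      intro a b
      obtain ⟨a, rfl⟩ := QuotientGroup.mk'_surjective Z a
      obtain ⟨b, rfl⟩ := QuotientGroup.mk'_surjective Z b
      rw [← map_mul, ← map_mul]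
      refine (QuotientGroup.eq.2 ((hmemZ _).2 ?_))
      have ha := c.comm a a.2 b b.2
      rcases ha with e | e
      · left
        show ((a : G) * b)⁻¹ * (b * a) = 1
        rw [show (a : G) * b = b * a from mul_inv_eq_iff_eq_mul.1 e, inv_mul_cancel]
      · right
        show ((a : G) * b)⁻¹ * (b * a) = c.s
        rw [show (a : G) * b = b * a * c.s by
          rw [mul_assoc, c.Q_s a.2, ← mul_assoc]; exact mul_inv_eq_iff_eq_mul.1 e,
          mul_inv_rev, inv_mul_cancel_right, inv_eq_of_mul_eq_one_right c.s_sq]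
    let σ : c.Q →* c.Q := MonoidHom.mk'
      (fun q => ⟨c.uInv * q * c.uInv⁻¹, c.Q_conj c.u_mem q.2⟩)
      (fun a b => Subtype.ext (by
        show c.uInv * ((a : G) * b) * c.uInv⁻¹ = _ * _
        group))
    let Φ : c.Q →* c.Q ⧸ Z := MonoidHom.mk' (fun q => QuotientGroup.mk' Z (q * σ q))
      (fun a b => by
        simp only [map_mul]
        rw [mul_assoc (QuotientGroup.mk' Z a), ← mul_assoc (QuotientGroup.mk' Z b),
          hcomm (QuotientGroup.mk' Z b) (QuotientGroup.mk' Z (σ a)), mul_assoc, mul_assoc])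
    have hW_of : ∀ q : c.Q, (c.uInv * q * c.uInv = q ∨ c.uInv * q * c.uInv = (q : G) * c.s) →
        (q : G) ∈ c.W := fun q h => c.mem_W.2 ⟨q.2, c.comm_of_mod h q.2⟩
    have hker : Φ.ker ≤ c.W.subgroupOf c.Q := by
      intro q hq
      rw [Subgroup.mem_subgroupOf]
      have hq' : q * σ q ∈ Z := (QuotientGroup.eq_one_iff _).1 hq
      refine hW_of q ?_
      have hσ : ((σ q : c.Q) : G) = c.uInv * q * c.uInv := by
        show c.uInv * q * c.uInv⁻¹ = _
        rw [c.u_inv']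
      rw [← hσ]
      have hr : ((σ q : c.Q) : G) = (q : G)⁻¹ * ((q * σ q : c.Q) : G) := by
        rw [Subgroup.coe_mul]; group
      rcases c.sq q q.2 with e | e <;> rcases (hmemZ _).1 hq' with e' | e' <;> rw [hr, e']
      · exact Or.inl (by rw [mul_one]; exact inv_eq_of_mul_eq_one_right e)
      · exact Or.inr (by rw [inv_eq_of_mul_eq_one_right e])
      · refine Or.inr ?_
        rw [mul_one, inv_eq_iff_mul_eq_one, ← mul_assoc, e, c.s_sq]
      · refine Or.inl ?_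
        rw [inv_mul_eq_iff_eq_mul, e]
    have hrange : Φ.range ≤ (c.W.subgroupOf c.Q).map (QuotientGroup.mk' Z) := by
      rintro _ ⟨q, rfl⟩
      refine ⟨q * σ q, ?_, rfl⟩
      rw [SetLike.mem_coe, Subgroup.mem_subgroupOf]
      refine hW_of _ ?_
      have hσ : ((σ q : c.Q) : G) = c.uInv * q * c.uInv := by
        show c.uInv * q * c.uInv⁻¹ = _
        rw [c.u_inv']
      have e : c.uInv * ((q * σ q : c.Q) : G) * c.uInv = c.uInv * q * c.uInv * q := by
        rw [Subgroup.coe_mul, hσ]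
        calc c.uInv * ((q : G) * (c.uInv * q * c.uInv)) * c.uInv
            = c.uInv * q * c.uInv * q * (c.uInv * c.uInv) := by group
          _ = _ := by rw [c.u_sq, mul_one]
      rw [e, Subgroup.coe_mul, ← hσ]
      rcases c.comm q q.2 (σ q) (σ q).2 with e' | e'
      · exact Or.inl (mul_inv_eq_iff_eq_mul.1 e').symm
      · refine Or.inr ?_
        rw [show (q : G) * (σ q : c.Q) = (σ q : c.Q) * c.s * q from mul_inv_eq_iff_eq_mul.1 e',
          mul_assoc _ (q : G) c.s, c.Q_s q.2, ← mul_assoc, mul_assoc _ c.s c.s, c.s_sq, mul_one]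
    have hWQ : Nat.card (c.W.subgroupOf c.Q) = Nat.card c.W :=
      Nat.card_congr (Subgroup.subgroupOfEquivOfLe inf_le_left).toEquiv
    have hZW : Z ≤ c.W.subgroupOf c.Q := by
      intro q hq
      rw [Subgroup.mem_subgroupOf]
      rcases (hmemZ q).1 hq with e | e <;> rw [e]
      · exact one_mem _
      · exact c.s_mem_W
    have hmap : 2 * Nat.card ((c.W.subgroupOf c.Q).map (QuotientGroup.mk' Z)) = Nat.card c.W := by
      rw [Subgroup.map, ← hWQ]
      have h2 : Nat.card Z = 2 := by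
        rw [hZ, Nat.card_congr (Subgroup.subgroupOfEquivOfLe
          (Subgroup.zpowers_le.2 c.s_mem)).toEquiv, Nat.card_zpowers,
          orderOf_eq_prime (by rw [pow_two, c.s_sq]) c.s_ne]
      have e := Subgroup.card_mul_index (Z.subgroupOf (c.W.subgroupOf c.Q))
      rw [Nat.card_congr (Subgroup.subgroupOfEquivOfLe hZW).toEquiv, h2] at e
      rw [← e]
      congr 1
      have hk := Subgroup.relIndex_ker (f := QuotientGroup.mk' Z) (K := c.W.subgroupOf c.Q)
      rw [QuotientGroup.ker_mk'] at hk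
      rw [← Subgroup.relIndex, hk]
      rfl
    have e := Φ.ker.card_mul_index
    rw [Subgroup.index_ker, c.card_Q] at e
    have h1 := Subgroup.card_le_of_le hker
    have h2 := Subgroup.card_le_of_le hrange
    rw [hWQ] at h1
    have := Nat.mul_le_mul h1 (Nat.mul_le_mul_left 2 h2)
    rw [hmap] at this
    nlinarith [this, e]
  rw [hW] at hupper hlower ⊢
  have : n ≤ 5 := hn
  interval_cases n <;> omega

/-- The conjugates of `s` other than `s` commuting with `s` and `u` are the conjugates of `u`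
under `Q`; there are four. -/
theorem orbit : ∃ S : Set G, S.ncard = 4 ∧
    (∀ x, x ∈ S ↔ IsConj c.s x ∧ x * c.s = c.s * x ∧ x * c.uInv = c.uInv * x ∧ x ≠ c.s) ∧
    (∀ x ∈ S, ∃ q ∈ c.Q, q * c.uInv * q⁻¹ = x) ∧ ∀ q ∈ c.Q, q * c.uInv * q⁻¹ ∈ S := by
  classical
  obtain ⟨S, hS⟩ : ∃ S : Set G, S = {x | IsConj c.s x ∧ x * c.s = c.s * x ∧
      x * c.uInv = c.uInv * x ∧ x ≠ c.s} := ⟨_, rfl⟩
  obtain ⟨K, hK⟩ : ∃ K : Subgroup c.W, K = c.θ.ker := ⟨_, rfl⟩
  have hK4 : Nat.card K ≤ 4 := by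
    have hd := K.card_subgroup_dvd_card
    rw [c.card_W] at hd
    have hne : K ≠ ⊤ := fun h => c.θ_s (MonoidHom.mem_ker.1 (by rw [← hK, h]; exact Subgroup.mem_top _))
    have hne8 : Nat.card K ≠ 8 := fun h => hne (Subgroup.eq_top_of_card_eq K (by rw [h, c.card_W]))
    have hle := Nat.le_of_dvd (by norm_num) hd
    have hpow : Nat.card K ∣ 2 ^ 3 := by simpa using hd
    obtain ⟨m, hm, e⟩ := (Nat.dvd_prime_pow Nat.prime_two).1 hpow
    rw [e] at hne8 ⊢
    interval_cases m <;> omega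
  have hcW : ∀ x ∈ S, c.uInv * x ∈ c.W ∧
      (x = c.uInv ∨ c.uInv * x ≠ c.s ∧ ∀ hm, c.θ ⟨c.uInv * x, hm⟩ ≠ 1) := by
    intro x hx
    rw [hS] at hx
    obtain ⟨hxs, hxL, hxu, hne⟩ := hx
    have hxQ : x ∉ c.Q := fun h => hne (c.weak x h hxs)
    have hψ := c.same_coset (c.mem_L.2 hxL) c.u_mem (c.sq_of_isConj hxs) c.u_sq hxQ c.u_not_Q hxu
    have hmem : c.uInv * x ∈ c.W := by
      refine c.mem_W.2 ⟨?_, ?_⟩
      · have : c.ψ (⟨c.uInv, c.u_mem⟩ * ⟨x, c.mem_L.2 hxL⟩) = 1 := by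
          rw [map_mul, hψ, ← map_mul, ← map_one c.ψ]
          exact congrArg c.ψ (Subtype.ext c.u_sq)
        exact (c.ker _).1 this
      · rw [mul_assoc, hxu]
    refine ⟨hmem, ?_⟩
    by_cases hxu' : x = c.uInv
    · exact Or.inl hxu'
    refine Or.inr ⟨fun e => c.not_conj ?_, fun hm hθ => hxu' ?_⟩
    · rwa [show x = c.uInv * c.s by rw [← e, ← mul_assoc, c.u_sq, one_mul]] at hxs
    · have hx2 : c.h * x * c.h ∈ c.Q := by
        have := (c.ker _).1 hθ
        change c.h * (c.uInv * x) * c.h ∈ c.Q at this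
        rw [c.h_mul, c.h_u] at this
        exact (c.Q.mul_mem_cancel_left c.s_mem).1 this
      have e := c.weak _ hx2 (hxs.trans (isConj_iff.2 ⟨c.h, by rw [c.h_inv]⟩))
      rw [← c.hh x, e, c.h_s]
  -- at most four
  have hle : S.ncard ≤ 4 := by
    let F : S → K := fun x =>
      if hx : (x : G) = c.uInv then 1 else
        ⟨⟨c.uInv * x, (hcW x x.2).1⟩ * ⟨c.s, c.s_mem_W⟩, by
          rw [hK, MonoidHom.mem_ker, map_mul]
          have h1 : c.θ ⟨c.uInv * x, (hcW x x.2).1⟩ ≠ 1 :=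
            ((hcW x x.2).2.resolve_left hx).2 _
          have hsq : ∀ w : c.W, c.θ w * c.θ w = 1 := fun w => by
            rw [← map_mul, ← map_one c.θ]; exact congrArg c.θ (Subtype.ext (c.W_sq w.2))
          have h3 := perm3_eq_of_commute _ _ (hsq _) (hsq _) h1 c.θ_s (by
            rw [← map_mul, ← map_mul]
            exact congrArg c.θ (Subtype.ext (c.W_comm (hcW x x.2).1 c.s_mem_W)))
          rw [h3]
          exact hsq _⟩
    have hF : Function.Injective F := by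
      intro x y e
      have e' : ((F x : c.W) : G) = ((F y : c.W) : G) := by rw [e]
      refine Subtype.ext ?_
      by_cases hx : (x : G) = c.uInv <;> by_cases hy : (y : G) = c.uInv
      · rw [hx, hy]
      · simp only [F, dif_pos hx, dif_neg hy] at e'
        refine absurd ?_ ((hcW y y.2).2.resolve_left hy).1
        calc c.uInv * (y : G) = c.uInv * y * (c.s * c.s) := by rw [c.s_sq, mul_one]
          _ = c.uInv * y * c.s * c.s := by group
          _ = c.s := by rw [show c.uInv * (y : G) * c.s = 1 from e'.symm, one_mul]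
      · simp only [F, dif_neg hx, dif_pos hy] at e'
        refine absurd ?_ ((hcW x x.2).2.resolve_left hx).1
        calc c.uInv * (x : G) = c.uInv * x * (c.s * c.s) := by rw [c.s_sq, mul_one]
          _ = c.uInv * x * c.s * c.s := by group
          _ = c.s := by rw [show c.uInv * (x : G) * c.s = 1 from e', one_mul]
      · simp only [F, dif_neg hx, dif_neg hy] at e'
        exact mul_left_cancel (mul_right_cancel (b := c.s) e')
    rw [← Nat.card_coe_set_eq]
    exact (Nat.card_le_card_of_injective F hF).trans hK4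
  -- the orbit
  have hmemS : ∀ q ∈ c.Q, q * c.uInv * q⁻¹ ∈ S := by
    intro q hq
    rw [hS]
    refine ⟨c.isConj_u.trans (isConj_iff.2 ⟨q, rfl⟩), ?_, ?_, ?_⟩
    · exact c.mem_L.1 (mul_mem (mul_mem (c.Q_le hq) c.u_mem) (inv_mem (c.Q_le hq)))
    · obtain ⟨r, hr⟩ : ∃ r, r = c.uInv * (q * c.uInv * q⁻¹) := ⟨_, rfl⟩
      have hrQ : r ∈ c.Q := by
        rw [hr, show c.uInv * (q * c.uInv * q⁻¹) = c.uInv * q * c.uInv⁻¹ * q⁻¹ by
          rw [c.u_inv']; group]
        exact mul_mem (c.Q_conj c.u_mem hq) (inv_mem hq)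
      have hur : c.uInv * r * c.uInv = r⁻¹ := by
        rw [hr]
        calc c.uInv * (c.uInv * (q * c.uInv * q⁻¹)) * c.uInv
            = (c.uInv * c.uInv) * q * c.uInv * q⁻¹ * c.uInv := by group
          _ = q * c.uInv⁻¹ * q⁻¹ * c.uInv⁻¹ := by rw [c.u_sq, one_mul, c.u_inv']
          _ = _ := by group
      have hcr := c.comm_of_mod (q := r) (by
        rw [hur]
        rcases c.sq r hrQ with e | e
        · exact Or.inl (inv_eq_of_mul_eq_one_right e)
        · refine Or.inr (inv_eq_of_mul_eq_one_right ?_)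
          rw [← mul_assoc, e, c.s_sq]) hrQ
      rw [show q * c.uInv * q⁻¹ = c.uInv * r by rw [hr, ← mul_assoc, c.u_sq, one_mul],
        mul_assoc, hcr]
    · intro e
      refine c.u_ne ?_
      calc c.uInv = q⁻¹ * (q * c.uInv * q⁻¹) * q := by group
        _ = q⁻¹ * (c.s * q) := by rw [e, mul_assoc]
        _ = c.s := by rw [← c.Q_s hq, inv_mul_cancel_left]
  obtain ⟨O, hO⟩ : ∃ O : Set G, O = {x | ∃ q ∈ c.Q, q * c.uInv * q⁻¹ = x} := ⟨_, rfl⟩
  have hO4 : 4 ≤ O.ncard := by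
    obtain ⟨H, hH⟩ : ∃ H : Subgroup c.Q, H = c.W.subgroupOf c.Q := ⟨_, rfl⟩
    have hidx : Nat.card (c.Q ⧸ H) = 4 := by
      have e := H.card_eq_card_quotient_mul_card_subgroup
      rw [c.card_Q, hH, Nat.card_congr (Subgroup.subgroupOfEquivOfLe
        (show c.W ≤ c.Q from inf_le_left)).toEquiv, c.card_W] at e
      rw [hH]; omega
    rw [← Nat.card_coe_set_eq, ← hidx]
    refine Nat.card_le_card_of_injective (fun a => (⟨_, by
      rw [hO]; exact ⟨(a.out : G), a.out.2, rfl⟩⟩ : O)) fun a b e => ?_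
    have e' : (a.out : G) * c.uInv * (a.out : G)⁻¹ = (b.out : G) * c.uInv * (b.out : G)⁻¹ :=
      congrArg Subtype.val e
    rw [← a.out_eq', ← b.out_eq', QuotientGroup.eq]
    refine (SetLike.ext_iff.1 hH _).2 (Subgroup.mem_subgroupOf.2 ?_)
    refine c.mem_W.2 ⟨(a.out⁻¹ * b.out).2, ?_⟩
    show (a.out : G)⁻¹ * b.out * c.uInv = c.uInv * ((a.out : G)⁻¹ * b.out)
    calc (a.out : G)⁻¹ * b.out * c.uInv
        = (a.out : G)⁻¹ * ((b.out : G) * c.uInv * (b.out : G)⁻¹) * b.out := by group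
      _ = _ := by rw [← e']; group
  have hOS : O ⊆ S := by
    rw [hO]
    rintro _ ⟨q, hq, rfl⟩
    exact hmemS q hq
  have heq : O = S := Set.eq_of_subset_of_ncard_le hOS (hle.trans hO4) (Set.toFinite S)
  refine ⟨S, le_antisymm hle (hO4.trans (Set.ncard_le_ncard hOS (Set.toFinite S))), ?_, ?_, hmemS⟩
  · intro x; rw [hS]; rfl
  · intro x hx
    rw [← heq, hO] at hx
    exact hx

/-- The data cannot exist. -/
theorem contradiction (c : WeakCtx G) : False := by
  classical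
  obtain ⟨S, hcard, hS, horb, hmemS⟩ := c.orbit
  have huS : c.uInv ∈ S := (hS _).2 ⟨c.isConj_u, c.u_comm, rfl, c.u_ne⟩
  -- the action of `Q`
  have hconjS : ∀ q ∈ c.Q, ∀ x ∈ S, q * x * q⁻¹ ∈ S := by
    intro q hq x hx
    obtain ⟨r, hr, rfl⟩ := horb x hx
    have := hmemS _ (mul_mem hq hr)
    simpa [mul_assoc] using this
  have hfixW : ∀ q ∈ c.Q, ∀ x ∈ S, q * x * q⁻¹ = x → q * c.uInv * q⁻¹ = c.uInv := by
    intro q hq x hx e
    obtain ⟨r, hr, rfl⟩ := horb x hx
    have h1 : r⁻¹ * q * r ∈ c.W := c.mem_W.2 ⟨mul_mem (mul_mem (inv_mem hr) hq) hr, by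
      calc r⁻¹ * q * r * c.uInv = r⁻¹ * (q * (r * c.uInv * r⁻¹) * q⁻¹) * q * r := by group
        _ = _ := by rw [e]; group⟩
    have h2 := c.W_norm hr h1
    rw [show r * (r⁻¹ * q * r) * r⁻¹ = q by group] at h2
    rw [(c.mem_W.1 h2).2, mul_inv_cancel_right]
  have hsq : ∀ q ∈ c.Q, ∀ x : G, x * c.s = c.s * x → q * (q * x * q⁻¹) * q⁻¹ = x := by
    intro q hq x hx
    rw [show q * (q * x * q⁻¹) * q⁻¹ = q * q * x * (q * q)⁻¹ by group]
    rcases c.sq q hq with e | e <;> rw [e]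
    · simp
    · rw [← hx, mul_inv_cancel_right]
  have hnotW : ∃ v ∈ S, v ≠ c.uInv := Set.exists_ne_of_one_lt_ncard (by omega) c.uInv
  obtain ⟨v, hvS, hvu⟩ := hnotW
  obtain ⟨q, hq, hqu⟩ := horb v hvS
  obtain ⟨hvc, hvL, hvC, hvs⟩ := (hS v).1 hvS
  have hqv : q * v * q⁻¹ = c.uInv := by rw [← hqu]; exact hsq q hq _ c.u_comm
  have hq0 : ∀ x ∈ S, q * x * q⁻¹ ≠ x := fun x hx e => hvu (hqu ▸ hfixW q hq x hx e)
  -- a third point
  obtain ⟨x, hxS, hxu, hxv⟩ : ∃ x ∈ S, x ≠ c.uInv ∧ x ≠ v := by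
    by_contra h
    push Not at h
    have hsub : S ⊆ {c.uInv, v} := fun y hy => by
      by_cases hy' : y = c.uInv
      · exact Or.inl hy'
      · exact Or.inr (h y hy hy')
    have := (Set.ncard_le_ncard hsub).trans (Set.ncard_insert_le _ _)
    rw [Set.ncard_singleton] at this
    omega
  obtain ⟨x', hx'⟩ : ∃ x', x' = q * x * q⁻¹ := ⟨_, rfl⟩
  have hx'S : x' ∈ S := hx' ▸ hconjS q hq x hxS
  have hx'x : x' ≠ x := hx' ▸ hq0 x hxS
  have hconj_inj : ∀ {k a b : G}, k * a * k⁻¹ = k * b * k⁻¹ → a = b := fun e =>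
    mul_left_cancel (mul_right_cancel e)
  have hx'u : x' ≠ c.uInv := fun e => hxv (hconj_inj ((hx'.symm.trans e).trans hqv.symm))
  have hx'v : x' ≠ v := fun e => hxu (hconj_inj ((hx'.symm.trans e).trans hqu.symm))
  have hfour : ∀ y ∈ S, y = c.uInv ∨ y = v ∨ y = x ∨ y = x' := by
    have hsub : ({c.uInv, v, x, x'} : Set G) ⊆ S := by
      rintro y (rfl | rfl | rfl | rfl) <;> assumption
    have h4 : ({c.uInv, v, x, x'} : Set G).ncard = 4 := by
      rw [Set.ncard_insert_of_notMem (by simp [Ne.symm hvu, hxu.symm, hx'u.symm]),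
        Set.ncard_insert_of_notMem (by simp [hxv.symm, hx'v.symm]), Set.ncard_pair hx'x.symm]
    have := Set.eq_of_subset_of_ncard_le hsub (by rw [hcard, h4]) (Set.toFinite S)
    intro y hy
    rw [← this] at hy
    simpa using hy
  -- the element from the other side
  obtain ⟨hxc, hxL, hxC, hxs⟩ := (hS x).1 hxS
  obtain ⟨hx'c, hx'L, hx'C, hx's⟩ := (hS x').1 hx'S
  have hh_inj : ∀ {a b : G}, c.h * a * c.h = c.h * b * c.h → a = b := fun e => by
    have := congrArg (fun g => c.h * g * c.h) e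
    simpa only [c.hh] using this
  have hh_S : ∀ {a : G}, IsConj c.s a → a * c.s = c.s * a → a * c.uInv = c.uInv * a →
      a ≠ c.uInv → c.h * a * c.h ∈ S := by
    intro a h1 h2 h3 h4
    refine (hS _).2 ⟨h1.trans (isConj_iff.2 ⟨c.h, by rw [c.h_inv]⟩), ?_, ?_, ?_⟩
    · have := c.h_commute h3; rwa [c.h_u] at this
    · have := c.h_commute h2; rwa [c.h_s] at this
    · intro e
      exact h4 (hh_inj (e.trans c.h_u.symm))
  obtain ⟨q₀, hq₀, hq₀u⟩ := horb _ (hh_S hvc hvL hvC hvu)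
  have hzu : c.h * v * c.h ≠ c.uInv := fun e => hvs (hh_inj (e.trans c.h_s.symm))
  have hq₀0 : ∀ y ∈ S, q₀ * y * q₀⁻¹ ≠ y := fun y hy e => hzu (hq₀u ▸ hfixW q₀ hq₀ y hy e)
  have hq₀v : q₀ * (c.h * v * c.h) * q₀⁻¹ = c.uInv := by
    rw [← hq₀u]; exact hsq q₀ hq₀ _ c.u_comm
  obtain ⟨P, hP⟩ : ∃ P, P = c.h * q₀ * c.h := ⟨_, rfl⟩
  have hPi : P⁻¹ = c.h * q₀⁻¹ * c.h := by
    rw [hP, mul_inv_rev, mul_inv_rev, c.h_inv]; group
  have hP_conj : ∀ a : G, P * a * P⁻¹ = c.h * (q₀ * (c.h * a * c.h) * q₀⁻¹) * c.h := fun a => by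
    rw [hPi, hP]; group
  have hPs : P * c.s * P⁻¹ = v := by rw [hP_conj, c.h_s, hq₀u, c.hh]
  have hPu : P * c.uInv * P⁻¹ = c.uInv := by
    rw [hP_conj, c.h_u, c.Q_s hq₀, mul_inv_cancel_right, c.h_s]
  have hPv : P * v * P⁻¹ = c.s := by rw [hP_conj, hq₀v, c.h_u]
  have hzS := hh_S hxc hxL hxC hxu
  have hPx : P * x * P⁻¹ = x' := by
    obtain ⟨z, hz⟩ : ∃ z, z = q₀ * (c.h * x * c.h) * q₀⁻¹ := ⟨_, rfl⟩
    have hzmem : z ∈ S := hz ▸ hconjS q₀ hq₀ _ hzS
    obtain ⟨h1, h2, h3, h4⟩ := (hS z).1 hzmem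
    have hPx' : P * x * P⁻¹ = c.h * z * c.h := by rw [hP_conj, hz]
    have hzu' : z ≠ c.uInv := fun e =>
      hxv (hh_inj (hconj_inj ((hz.symm.trans e).trans hq₀v.symm)))
    have hmem := hh_S h1 h2 h3 hzu'
    rw [hPx']
    rcases hfour _ hmem with e | e | e | e
    · exact absurd (hh_inj (e.trans c.h_s.symm)) h4
    · refine absurd ?_ hxs
      have e2 : z = c.h * v * c.h := by rw [← c.hh z, e]
      have e3 := hconj_inj ((hz.symm.trans e2).trans hq₀u.symm)
      rw [← c.hh x, e3, c.h_u]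
    · refine absurd ?_ (hq₀0 _ hzS)
      rw [← hz, ← e, c.hh]
    · exact e
  have hPx' : P * x' * P⁻¹ = x := by
    rw [← hPx, hP_conj, hP_conj, c.hh, hsq q₀ hq₀ _ ((hS _).1 hzS).2.1, c.hh]
  -- the three-cycle
  obtain ⟨y, hy⟩ : ∃ y, y = P * q := ⟨_, rfl⟩
  have hycomp : ∀ a : G, y * a * y⁻¹ = P * (q * a * q⁻¹) * P⁻¹ := fun a => by rw [hy]; group
  have hyu : y * c.uInv * y⁻¹ = c.s := by rw [hycomp, hqu, hPv]
  have hys : y * c.s * y⁻¹ = v := by rw [hycomp, c.Q_s hq, mul_inv_cancel_right, hPs]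
  have hyv : y * v * y⁻¹ = c.uInv := by rw [hycomp, hqv, hPu]
  have hyx : y * x * y⁻¹ = x := by rw [hycomp, ← hx', hPx']
  -- transport to `s`
  obtain ⟨k, hk⟩ := isConj_iff.1 hxc
  have hkx : k⁻¹ * x * k = c.s := by rw [← hk]; group
  let T : G → G := fun a => k⁻¹ * a * k
  have hT : ∀ a b, T (a * b) = T a * T b := fun a b => by simp only [T]; group
  have hTinj : ∀ {a b}, T a = T b → a = b := fun e => by simpa [T] using e
  have hTL : ∀ {a}, a * x = x * a → T a ∈ c.L := fun {a} e => by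
    rw [c.mem_L, ← hkx, ← hT, ← hT, e]
  have hyC : y * x = x * y := mul_inv_eq_iff_eq_mul.1 hyx
  have hTconj : ∀ {a}, IsConj c.s a → IsConj c.s (T a) := fun {a} e =>
    e.trans (isConj_iff.2 ⟨k⁻¹, by simp [T]⟩)
  have hTnQ : ∀ {a}, IsConj c.s a → a ≠ x → T a ∉ c.Q := fun {a} e hne hQ =>
    hne (hTinj ((c.weak _ hQ (hTconj e)).trans hkx.symm))
  have hsx : c.s ≠ x := hxs.symm
  have hψ : c.ψ ⟨T c.uInv, hTL hxC.symm⟩ = c.ψ ⟨T c.s, hTL hxL.symm⟩ :=
    c.same_coset _ _ (c.sq_of_isConj (hTconj c.isConj_u))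
      (c.sq_of_isConj (hTconj (IsConj.refl _))) (hTnQ c.isConj_u hxu.symm)
      (hTnQ (IsConj.refl _) hsx) (by rw [← hT, ← hT, c.u_comm])
  have hmove : c.ψ ⟨T y, hTL hyC⟩ * c.ψ ⟨T c.uInv, hTL hxC.symm⟩ =
      c.ψ ⟨T c.s, hTL hxL.symm⟩ * c.ψ ⟨T y, hTL hyC⟩ := by
    rw [← map_mul, ← map_mul]
    refine congrArg c.ψ (Subtype.ext ?_)
    show T y * T c.uInv = T c.s * T y
    rw [← hT, ← hT, mul_inv_eq_iff_eq_mul.1 hyu]
  rw [← hψ] at hmove
  have hy2 := perm3_sq_of_commute _ _ (by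
    rw [← map_mul, ← map_one c.ψ]
    exact congrArg c.ψ (Subtype.ext (c.sq_of_isConj (hTconj c.isConj_u))))
    (fun e => hTnQ c.isConj_u hxu.symm ((c.ker _).1 e)) hmove
  rw [← map_mul] at hy2
  have hQ2 : T y * T y ∈ c.Q := (c.ker _).1 hy2
  have h8 : (y * y) * (y * y) * ((y * y) * (y * y)) = 1 := by
    refine hTinj ?_
    have hT1 : T 1 = 1 := by simp [T]
    rw [hT1]
    simp only [hT]
    rcases c.sq _ hQ2 with e | e <;> rw [e]
    · rw [one_mul]
    · exact c.s_sq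
  have h3 : (y * y * y) * c.s * (y * y * y)⁻¹ = c.s := by
    calc (y * y * y) * c.s * (y * y * y)⁻¹
        = y * (y * (y * c.s * y⁻¹) * y⁻¹) * y⁻¹ := by group
      _ = c.s := by rw [hys, hyv, hyu]
  refine hvs ?_
  have h9 : y = y * y * y * (y * y * y) * (y * y * y) := by
    calc y = y * ((y * y) * (y * y) * ((y * y) * (y * y))) := by rw [h8, mul_one]
      _ = _ := by group
  have hc : Commute (y * y * y) c.s := mul_inv_eq_iff_eq_mul.1 h3
  rw [← hys, h9, (((hc.mul_left hc).mul_left hc)).eq, mul_inv_cancel_right]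

end WeakCtx

end CfsgLib.AltNineRecog
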