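import Cfsg.Prelude.Def_Solvable
import Cfsg.Prelude.Def_Transfer
import Cfsg.Agent.AltNineThree.Words

/-!
# A 3-local subgroup of the shape of that of `Alt 9`

The hypotheses of the recognition of `Alt 9` and what is to be proved about the centralisers:
`Local` holds always; then either all centralisers of the elementary subgroup lie in `H`, or `Six`
holds.
-/

set_option autoImplicit false
set_option linter.unusedSectionVars false

namespace CfsgLib.AltNineRecog

open CfsgLib.AltNineThree (M IsE eOne eMix eAll eThree tOne tTwo)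

universe u

/-- The hypotheses. -/
structure Setup (G : Type u) [Group G] where
  H : Subgroup G
  e : H ≃* M
  norm : ∀ g : G, (∀ h : H, IsE (e h) → ∃ h' : H, IsE (e h') ∧ g * h * g⁻¹ = h') → g ∈ H
  cores : ∀ a : M, IsE a → a ≠ 1 →
    Cfsg.pPrimeCore 3 (Subgroup.centralizer ({(e.symm a : G)} : Set G)) = ⊥

namespace Setup

variable {G : Type u} [Group G] (c : Setup G)

/-- An element of the model as an element of the group. -/
def el : M →* G := c.H.subtype.comp c.e.symm.toMonoidHom

theorem el_mem (m : M) : c.el m ∈ c.H := (c.e.symm m).2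

theorem el_injective : Function.Injective c.el := fun _ _ h =>
  c.e.symm.injective (Subtype.ext h)

theorem exists_el {g : G} (hg : g ∈ c.H) : ∃ m : M, c.el m = g :=
  ⟨c.e ⟨g, hg⟩, by simp [el]⟩

/-- The element `(0 1 2)(3 4 5)`. -/
def d : G := c.el eMix

/-- The element `(6 7 8)`. -/
def g : G := c.el eThree

/-- The element `(0 1 2)(3 4 5)(6 7 8)`. -/
def x : G := c.el eAll

/-- The involution `(0 1)(3 4)`. -/
def i : G := c.el tOne

/-- The involution `(0 3)(1 4)(2 5)(6 7)`. -/
def s : G := c.el tTwo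

/-- What holds for every such group: the centralisers of the elements of weight at least two lie
in `H`, and `H` controls the fusion of its elementary subgroup. -/
structure Local : Prop where
  centX : Subgroup.centralizer ({c.el eAll} : Set G) ≤ c.H
  centD : Subgroup.centralizer ({c.el eMix} : Set G) ≤ c.H
  fusion : ∀ a b : M, IsE a → IsE b → ∀ z : G, z * c.el a * z⁻¹ = c.el b →
    ∃ m : M, m * a * m⁻¹ = b

/-- All centralisers of the elementary subgroup lie in `H`. -/
def Inside : Prop :=
  ∀ a : M, IsE a → a ≠ 1 → Subgroup.centralizer ({c.el a} : Set G) ≤ c.H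

/-- The other case, with what is used of it: `C(g)` is the product of `⟨g⟩` with a group like
`Alt 6`, in which the centraliser of `s` has a normal four-group `V`. -/
structure Six : Prop where
  loc : c.Local
  card_cent : Nat.card (Subgroup.centralizer ({c.g} : Set G)) = 1080
  exists_four : ∃ V : Subgroup G, Nat.card V = 4 ∧ (∀ v ∈ V, v * v = 1) ∧
    (∀ v ∈ V, v * c.g = c.g * v ∧ v * c.s = c.s * v) ∧
    (∀ v ∈ V, c.d * v * c.d⁻¹ ∈ V) ∧ (∀ v ∈ V, c.i * v * c.i⁻¹ ∈ V) ∧
    (∀ v ∈ V, v * c.d = c.d * v → v = 1)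
  hom_two : ∀ (θ : G →* Multiplicative (ZMod 2)), ∀ h ∈ c.H, θ h = 1

/-- The shape of the centraliser of `s` in that case. -/
def CentShape : Prop :=
  ∃ Q : Subgroup G, Q ≤ Subgroup.centralizer ({c.s} : Set G) ∧ c.s ∈ Q ∧ Nat.card Q = 32 ∧
    Nat.card (Subgroup.centralizer ({c.s} : Set G)) = 192 ∧
    (∀ l ∈ Subgroup.centralizer ({c.s} : Set G), ∀ q ∈ Q, l * q * l⁻¹ ∈ Q) ∧
    Cfsg.IsExtraspecial 2 Q ∧ ∀ q ∈ Q, q * c.d = c.d * q → q = 1 ∨ q = c.s

end Setup

end CfsgLib.AltNineRecog
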