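import Cfsg.Prelude.Def_Spor_Mathieu
import Cfsg.Agent.AltNineRecog.Setup
import Cfsg.Agent.AltNineRecog.Local
import Cfsg.Agent.AltNineRecog.NotWeak
import Cfsg.Agent.Mathieu.SmallOrders
import Cfsg.Agent.Linear.Basic
import Cfsg.Agent.PLocal.Cores
import Cfsg.Agent.FgsSix.SmallOrders

/-!
# The case `C(g) = 3 × A₆`: the group is `Alt 9`

The involution `s` has centraliser `2^(1+4).S₃` and is not weakly closed in its core, so the
recognition of `A₈`, `A₉`, `M₁₂` from that centraliser applies; the order `81` leaves only `A₉`.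
-/

set_option autoImplicit false
set_option linter.style.haveILetI false

namespace CfsgLib.AltNineRecog

open CfsgLib.AltNineThree (M IsE cls eMix eThree tOne tTwo)

universe u

set_option maxRecDepth 100000
set_option synthInstance.maxSize 1024

theorem exists_exchange : ∃ m : M, m * m = 1 ∧ m * tTwo * m = tTwo * tOne := by decide +kernel

theorem model_swap : tTwo * tTwo = 1 ∧ tTwo ≠ 1 ∧ tTwo * tOne * tTwo = tTwo * (tTwo * tOne) ∧
    tTwo * tOne ≠ tTwo ∧ eMix * tTwo = tTwo * eMix ∧ eMix * eMix * eMix = 1 ∧ eMix ≠ 1 ∧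
    tTwo * tOne * eMix * (tTwo * tOne) = eMix * eMix ∧ tTwo * tOne * tTwo = tOne ∧
    eThree * tOne = tOne * eThree ∧ IsE eThree ∧ IsE eMix ∧ IsE (eMix * eMix) ∧ eThree ≠ 1 ∧
    eThree * eThree * eThree = 1 ∧ cls eThree ≠ cls eMix ∧ cls eThree ≠ cls (eMix * eMix) ∧
    tOne * eMix * tOne = eMix * eMix := by
  decide +kernel

/-- The statement of the recognition of `A₈`, `A₉`, `M₁₂` from the centraliser of an involution. -/
def InvolutionRecog (G : Type u) [Group G] : Prop :=
  ∀ (s : G) (_ : orderOf s = 2) (L : Subgroup G) (_ : L = Subgroup.centralizer ({s} : Set G))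
    (Q : Subgroup G) (_ : Q = (Cfsg.pCore 2 L).map L.subtype)
    (_ : Cfsg.IsExtraspecial 2 Q) (_ : Nat.card Q = 32)
    (_ : L ⧸ Cfsg.pCore 2 L ≃* Equiv.Perm (Fin 3))
    (X : Sylow 3 L) (_ : Q ⊓ Subgroup.centralizer
      (((X : Subgroup L).map L.subtype : Subgroup G) : Set G) = Subgroup.zpowers s)
    (_ : ∃ g : G, g * s * g⁻¹ ∈ Q ∧ g * s * g⁻¹ ≠ s),
    (∃ (N : Subgroup G) (_ : N.Normal), IsMulCommutative N ∧ (∀ n ∈ N, n ^ 2 = 1) ∧ Nat.card N = 8 ∧
        Nonempty (G ⧸ N ≃* Matrix.ProjectiveSpecialLinearGroup (Fin 3) (ZMod 2))) ∨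
    Nonempty (G ≃* alternatingGroup (Fin 8)) ∨ Nonempty (G ≃* alternatingGroup (Fin 9)) ∨
      Cfsg.Spor.IsoM12 G

/-- None of the other groups has order divisible by `81`. -/
theorem alt_nine_of_recog {G : Type u} [Group G] [Finite G] (h81 : 81 ∣ Nat.card G)
    (h : (∃ (N : Subgroup G) (_ : N.Normal), IsMulCommutative N ∧ (∀ n ∈ N, n ^ 2 = 1) ∧ Nat.card N = 8 ∧
        Nonempty (G ⧸ N ≃* Matrix.ProjectiveSpecialLinearGroup (Fin 3) (ZMod 2))) ∨
      Nonempty (G ≃* alternatingGroup (Fin 8)) ∨ Nonempty (G ≃* alternatingGroup (Fin 9)) ∨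
      Cfsg.Spor.IsoM12 G) : Nonempty (G ≃* alternatingGroup (Fin 9)) := by
  rcases h with ⟨N, hN, -, -, hcard, ⟨e⟩⟩ | ⟨⟨e⟩⟩ | he | ⟨⟨e⟩⟩
  · exfalso
    have h168 : Nat.card (Matrix.ProjectiveSpecialLinearGroup (Fin 3) (ZMod 2)) = 168 := by
      have h1 := CfsgLib.Linear.card_PSL_mul (n := Fin 3) (F := ZMod 2)
      have h2 := CfsgLib.Linear.card_SL_mul (n := Fin 3) (F := ZMod 2)
      rw [Matrix.card_GL_field, ZMod.card] at h2
      rw [ZMod.card, Fintype.card_fin] at h1
      simp [Fin.prod_univ_three] at h2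
      norm_num at h1
      rw [Nat.card_eq_fintype_card]
      omega
    rw [N.card_eq_card_quotient_mul_card_subgroup, hcard, Nat.card_congr e.toEquiv, h168] at h81
    norm_num at h81
  · exfalso
    rw [Nat.card_congr e.toEquiv, nat_card_alternatingGroup, Nat.card_eq_fintype_card,
      Fintype.card_fin] at h81
    norm_num [Nat.factorial] at h81
  · exact he
  · exfalso
    rw [Nat.card_congr e.toEquiv, CfsgLib.Mathieu.card_SporM12] at h81
    norm_num at h81

namespace Setup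

variable {G : Type u} [Group G] [Finite G] (c : Setup G)

/-- `alt_nine` from the recognition by the centraliser of `s`. -/
theorem alt_nine (hS : c.Six) (hC : c.CentShape) (hrec : InvolutionRecog G) :
    Nonempty (G ≃* alternatingGroup (Fin 9)) := by
  classical
  haveI h3F : Fact (Nat.Prime 3) := ⟨Nat.prime_three⟩
  haveI h2F : Fact (Nat.Prime 2) := ⟨Nat.prime_two⟩
  obtain ⟨Q, hQL, hsQ, hQcard, hLcard, hQn, hQex, hQd⟩ := hC
  obtain ⟨f1, f2, f3, f4, f5, f6, f7, f8, f9, f10, f11, f12, f13, f14, f15, f16, f17, f18⟩ :=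
    model_swap
  have hss : c.s * c.s = 1 := by rw [s, ← map_mul, f1, map_one]
  have hsne : c.s ≠ 1 := fun e => f2 (c.el_injective (e.trans c.el.map_one.symm))
  have hds : c.d * c.s = c.s * c.d := by rw [d, s, ← map_mul, ← map_mul, f5]
  have hd3 : c.d * c.d * c.d = 1 := by rw [d, ← map_mul, ← map_mul, f6, map_one]
  have hdne : c.d ≠ 1 := fun e => f7 (c.el_injective (e.trans c.el.map_one.symm))
  have hdd : c.d⁻¹ = c.d * c.d := inv_eq_of_mul_eq_one_right (by rw [← mul_assoc, hd3])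
  have hordd : orderOf c.d = 3 := orderOf_eq_prime (by rw [pow_three', hd3]) hdne
  set L : Subgroup G := Subgroup.centralizer ({c.s} : Set G) with hLdef
  have hmemL : ∀ {x : G}, x ∈ L ↔ x * c.s = c.s * x := Subgroup.mem_centralizer_singleton_iff
  have hdL : c.d ∈ L := hmemL.2 hds
  -- the centre of `Q`
  haveI hQfin : Finite Q := inferInstance
  have hscen : (⟨c.s, hsQ⟩ : Q) ∈ Subgroup.center Q := Subgroup.mem_center_iff.2 fun x =>
    Subtype.ext (hmemL.1 (hQL x.2))
  have hcen : ∀ z : Q, z ∈ Subgroup.center Q → (z : G) = 1 ∨ (z : G) = c.s := by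
    intro z hz
    by_cases h1 : (⟨z, hz⟩ : Subgroup.center Q) = 1
    · exact Or.inl (congrArg (fun x : Subgroup.center Q => ((x : Q) : G)) h1)
    · right
      have hsne' : (⟨⟨c.s, hsQ⟩, hscen⟩ : Subgroup.center Q) ≠ 1 := fun e =>
        hsne (congrArg (fun x : Subgroup.center Q => ((x : Q) : G)) e)
      haveI : Fintype (Subgroup.center Q) := Fintype.ofFinite _
      have h2 := hQex.2
      rw [Nat.card_eq_two_iff] at h2
      obtain ⟨a, b, hab, hu⟩ := h2
      have hall : ∀ x : Subgroup.center Q, x = a ∨ x = b := fun x => by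
        have : x ∈ ({a, b} : Set (Subgroup.center Q)) := hu ▸ Set.mem_univ x
        simpa using this
      have key : (⟨z, hz⟩ : Subgroup.center Q) = ⟨⟨c.s, hsQ⟩, hscen⟩ := by
        rcases hall 1 with e | e <;> rcases hall ⟨z, hz⟩ with e' | e' <;>
          rcases hall ⟨⟨c.s, hsQ⟩, hscen⟩ with e'' | e'' <;>
            first
              | exact e'.trans e''.symm
              | exact absurd (e'.trans e.symm) h1
              | exact absurd (e''.trans e.symm) hsne'
      exact congrArg (fun x : Subgroup.center Q => ((x : Q) : G)) key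
  have hsq : ∀ q ∈ Q, q * q = 1 ∨ q * q = c.s := fun q hq => by
    have h := CfsgLib.ExtraspecialBasic.pow_mem_center hQex (⟨q, hq⟩ : Q)
    rw [pow_two] at h
    exact hcen _ h
  have hcomm : ∀ q ∈ Q, ∀ r ∈ Q, q * r * q⁻¹ = r ∨ q * r * q⁻¹ = r * c.s := fun q hq r hr => by
    have h := hcen _ (CfsgLib.ExtraspecialBasic.commutator_mem_center hQex (⟨q, hq⟩ : Q) ⟨r, hr⟩)
    rw [commutatorElement_def] at h
    change q * r * q⁻¹ * r⁻¹ = 1 ∨ q * r * q⁻¹ * r⁻¹ = c.s at h
    refine h.imp (fun e => mul_inv_eq_one.1 e) fun e => ?_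
    rw [mul_inv_eq_iff_eq_mul.1 e]
    exact (hmemL.1 (hQL hr)).symm
  -- the quotient
  have hdQ : c.d ∉ Q := fun h => by
    have := Q.orderOf_dvd_natCard h
    rw [hordd, hQcard] at this
    norm_num at this
  have hioneL : c.el tOne ∈ L := hmemL.2 (by
    rw [s, ← map_mul, ← map_mul]
    refine congrArg c.el ?_
    calc tOne * tTwo = tTwo * tTwo * tOne * tTwo := by rw [f1, one_mul]
      _ = tTwo * (tTwo * tOne * tTwo) := by simp only [mul_assoc]
      _ = tTwo * tOne := by rw [f9])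
  have hii : c.el tOne * c.el tOne = 1 := by
    rw [← map_mul, AltNineThree.tOne_spec.1, map_one]
  have hdi : c.el tOne * c.d * c.el tOne = c.d⁻¹ := by
    rw [hdd, d, ← map_mul, ← map_mul, ← map_mul, f18]
  have hiQ : c.el tOne ∉ Q := fun h => hdQ (by
    have h1 : c.el tOne * (c.d * c.el tOne * c.d⁻¹) ∈ Q := mul_mem h (hQn _ hdL _ h)
    rw [show c.el tOne * (c.d * c.el tOne * c.d⁻¹) = c.el tOne * c.d * c.el tOne * c.d⁻¹ by group,
      hdi, show c.d⁻¹ * c.d⁻¹ = c.d * c.d * (c.d * c.d) by rw [hdd],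
      show c.d * c.d * (c.d * c.d) = (c.d * c.d * c.d) * c.d by group, hd3, one_mul] at h1
    exact h1)
  obtain ⟨QL, hQLdef⟩ : ∃ QL : Subgroup L, QL = Q.subgroupOf L := ⟨_, rfl⟩
  have hmemQL : ∀ x : L, x ∈ QL ↔ (x : G) ∈ Q := fun x => by rw [hQLdef]; rfl
  haveI hQLn : QL.Normal := ⟨fun n hn g => (hmemQL _).2 (hQn _ g.2 _ ((hmemQL _).1 hn))⟩
  have hQLcard : Nat.card QL = 32 := by
    rw [hQLdef, Nat.card_congr (Subgroup.subgroupOfEquivOfLe hQL).toEquiv, hQcard]
  have hquot : Nat.card (L ⧸ QL) = 6 := by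
    have e := QL.card_eq_card_quotient_mul_card_subgroup
    rw [hLcard, hQLcard] at e
    omega
  have hne1 : ∀ {x : L}, (x : G) ∉ Q → QuotientGroup.mk' QL x ≠ 1 := fun hx e =>
    hx ((hmemQL _).1 ((QuotientGroup.eq_one_iff _).1 e))
  have hoi : orderOf (QuotientGroup.mk' QL ⟨_, hioneL⟩) = 2 := orderOf_eq_prime (by
    rw [← map_pow, show (⟨_, hioneL⟩ : L) ^ 2 = 1 from Subtype.ext (by
      show c.el tOne ^ 2 = 1; rw [pow_two, hii]), map_one]) (hne1 hiQ)
  have hod : orderOf (QuotientGroup.mk' QL ⟨_, hdL⟩) = 3 := orderOf_eq_prime (by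
    rw [← map_pow, show (⟨_, hdL⟩ : L) ^ 3 = 1 from Subtype.ext (by
      show c.d ^ 3 = 1; rw [pow_three', hd3]), map_one]) (hne1 hdQ)
  obtain ⟨e6⟩ := CfsgLib.FgsSix.nonempty_mulEquiv_perm_three hquot hod hoi (by
    rw [← map_inv, ← map_inv, ← map_mul, ← map_mul]
    refine congrArg _ (Subtype.ext ?_)
    show c.el tOne * c.d * (c.el tOne)⁻¹ = c.d⁻¹
    rw [inv_eq_of_mul_eq_one_right hii, hdi])
  -- the two-core of `L`
  have hcore : Cfsg.pCore 2 L = QL := by
    refine le_antisymm ?_ (CfsgLib.PLocal.le_pCore (IsPGroup.of_card (n := 5) (by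
      rw [hQLcard]; norm_num)))
    by_contra hle
    haveI hCn : (Cfsg.pCore 2 L).Normal := inferInstance
    obtain ⟨n, hn⟩ := IsPGroup.iff_card.1 (CfsgLib.PLocal.isPGroup_pCore 2 L)
    have h192 := (Cfsg.pCore 2 L).card_subgroup_dvd_card
    rw [hLcard, hn] at h192
    have hn6 : n ≤ 6 := by
      by_contra h7
      exact absurd ((pow_dvd_pow 2 (by omega : 7 ≤ n)).trans h192) (by norm_num)
    have hQLle : QL ≤ Cfsg.pCore 2 L := CfsgLib.PLocal.le_pCore (IsPGroup.of_card (n := 5) (by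
      rw [hQLcard]; norm_num))
    have hlt : QL < Cfsg.pCore 2 L := lt_of_le_not_ge hQLle hle
    have h32 : 32 < Nat.card (Cfsg.pCore 2 L) := by
      by_contra h
      exact hlt.ne (Subgroup.eq_of_le_of_card_ge hQLle (by rw [hQLcard]; omega))
    rw [hn] at h32
    have hn' : n = 6 := by
      by_contra h
      have := Nat.pow_le_pow_right (show 1 ≤ 2 by norm_num) (show n ≤ 5 by omega)
      omega
    subst hn'
    have hidx : (Cfsg.pCore 2 L).index = 3 := by
      have e := (Cfsg.pCore 2 L).card_mul_index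
      rw [hn, hLcard] at e
      norm_num at e
      omega
    have hi : (⟨_, hioneL⟩ : L) ∈ Cfsg.pCore 2 L := by
      have h2 := QuotientGroup.mk' (Cfsg.pCore 2 L) ⟨_, hioneL⟩
      have ho : orderOf (QuotientGroup.mk' (Cfsg.pCore 2 L) ⟨_, hioneL⟩) ∣ 2 :=
        orderOf_dvd_of_pow_eq_one (by
          rw [← map_pow, show (⟨_, hioneL⟩ : L) ^ 2 = 1 from Subtype.ext (by
            show c.el tOne ^ 2 = 1; rw [pow_two, hii]), map_one])
      have ho' : orderOf (QuotientGroup.mk' (Cfsg.pCore 2 L) ⟨_, hioneL⟩) ∣ 3 := by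
        have h := orderOf_dvd_natCard (QuotientGroup.mk' (Cfsg.pCore 2 L) ⟨_, hioneL⟩)
        rwa [← Subgroup.index_eq_card, hidx] at h
      refine (QuotientGroup.eq_one_iff _).1 (orderOf_eq_one_iff.1 ?_)
      exact Nat.eq_one_of_dvd_coprimes (by norm_num : Nat.Coprime 2 3) ho ho'
    have h1 : (⟨_, hioneL⟩ : L) * (⟨_, hdL⟩ * ⟨_, hioneL⟩ * ⟨_, hdL⟩⁻¹) ∈ Cfsg.pCore 2 L :=
      mul_mem hi (hCn.conj_mem _ hi _)
    have h2 : (⟨_, hdL⟩ : L) ∈ Cfsg.pCore 2 L := by
      convert h1 using 1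
      refine Subtype.ext ?_
      show c.d = c.el tOne * (c.d * c.el tOne * c.d⁻¹)
      rw [show c.el tOne * (c.d * c.el tOne * c.d⁻¹) = c.el tOne * c.d * c.el tOne * c.d⁻¹ by group,
        hdi, hdd, show c.d * c.d * (c.d * c.d) = (c.d * c.d * c.d) * c.d by group, hd3, one_mul]
    have h3 := (Cfsg.pCore 2 L).orderOf_dvd_natCard h2
    rw [Subgroup.orderOf_mk, hordd, hn] at h3
    norm_num at h3
  -- the Sylow three-subgroups of `L`
  have hsyl : ∀ g : G, g ∈ L → g * g * g = 1 → g ≠ 1 →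
      ∃ l ∈ L, l * g * l⁻¹ = c.d ∨ l * g * l⁻¹ = c.d * c.d := by
    intro g hgL hg3 hg1
    have hmult : (Nat.card L).factorization 3 = 1 := by
      rw [hLcard]
      refine le_antisymm ?_ (Nat.Prime.factorization_pos_of_dvd Nat.prime_three (by norm_num)
        (by norm_num))
      by_contra h
      exact absurd ((Nat.Prime.pow_dvd_iff_le_factorization Nat.prime_three (by norm_num)).2
        (show 2 ≤ _ by omega)) (by norm_num : ¬ 3 ^ 2 ∣ 192)
    have mk : ∀ (y : L), orderOf y = 3 → ∃ Y : Sylow 3 L, (Y : Subgroup L) = Subgroup.zpowers y :=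
      fun y hy => ⟨Sylow.ofCard (Subgroup.zpowers y) (by rw [Nat.card_zpowers, hy, hmult, pow_one]),
        rfl⟩
    obtain ⟨Y, hY⟩ := mk ⟨g, hgL⟩ (by
      rw [Subgroup.orderOf_mk]; exact orderOf_eq_prime (by rw [pow_three', hg3]) hg1)
    obtain ⟨X, hX⟩ := mk ⟨_, hdL⟩ (by rw [Subgroup.orderOf_mk]; exact hordd)
    obtain ⟨l, hl⟩ := MulAction.exists_smul_eq L Y X
    have hmem : l * ⟨g, hgL⟩ * l⁻¹ ∈ Subgroup.zpowers (⟨_, hdL⟩ : L) := by
      rw [← hX, ← hl, Sylow.coe_subgroup_smul, hY]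
      exact ⟨⟨g, hgL⟩, Subgroup.mem_zpowers _, rfl⟩
    obtain ⟨k, hk⟩ := Subgroup.mem_zpowers_iff.1 hmem
    have hk' : c.d ^ k = (l : G) * g * (l : G)⁻¹ := congrArg Subtype.val hk
    refine ⟨l, l.2, ?_⟩
    have h3 : c.d ^ (3 : ℤ) = 1 := by
      rw [show (3 : ℤ) = ((3 : ℕ) : ℤ) from rfl, zpow_natCast, pow_three', hd3]
    rw [← Int.emod_add_mul_ediv k 3, zpow_add, zpow_mul, h3, one_zpow, mul_one] at hk'
    have : k % 3 = 0 ∨ k % 3 = 1 ∨ k % 3 = 2 := by omega
    rcases this with e | e | e <;> rw [e] at hk'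
    · rw [zpow_zero] at hk'
      exact absurd (conj_eq_one_iff.1 hk'.symm) hg1
    · rw [zpow_one] at hk'
      exact Or.inl hk'.symm
    · rw [zpow_two] at hk'
      exact Or.inr hk'.symm
  have hiconj : ¬ IsConj c.s (c.el tOne) := by
    rintro hcj
    obtain ⟨k, hk⟩ := isConj_iff.1 hcj
    obtain ⟨g, hg⟩ : ∃ g, g = k⁻¹ * c.el eThree * k := ⟨_, rfl⟩
    have hgL : g ∈ L := hmemL.2 (by
      have e := congrArg (fun x => k⁻¹ * x * k) (congrArg c.el f10)
      rw [map_mul, map_mul, ← hk] at e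
      rw [hg]
      simpa [mul_assoc] using e)
    have hg3 : g * g * g = 1 := by
      rw [hg, show k⁻¹ * c.el eThree * k * (k⁻¹ * c.el eThree * k) * (k⁻¹ * c.el eThree * k) =
        k⁻¹ * (c.el eThree * c.el eThree * c.el eThree) * k by group, ← map_mul, ← map_mul, f15,
        map_one, mul_one, inv_mul_cancel]
    have hg1 : g ≠ 1 := fun e => f14 (c.el_injective (by
      rw [map_one]
      calc c.el eThree = k * (k⁻¹ * c.el eThree * k) * k⁻¹ := by group
        _ = 1 := by rw [← hg, e]; group))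
    obtain ⟨l, -, e | e⟩ := hsyl g hgL hg3 hg1
    · obtain ⟨m, hm⟩ := hS.loc.fusion eThree eMix f11 f12 (l * k⁻¹) (by
        show _ = c.d
        rw [← e, hg]; group)
      exact f16 (by rw [← hm, AltNineThree.cls_conj])
    · obtain ⟨m, hm⟩ := hS.loc.fusion eThree (eMix * eMix) f11 f13 (l * k⁻¹) (by
        rw [map_mul]
        show _ = c.d * c.d
        rw [← e, hg]; group)
      exact f17 (by rw [← hm, AltNineThree.cls_conj])
  -- the recognition
  have hnwc : ∃ g : G, g * c.s * g⁻¹ ∈ Q ∧ g * c.s * g⁻¹ ≠ c.s := by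
    by_contra hne
    push Not at hne
    obtain ⟨m, hm2, hm⟩ := exists_exchange
    let ψ : L →* Equiv.Perm (Fin 3) := e6.toMonoidHom.comp (QuotientGroup.mk' QL)
    refine WeakCtx.contradiction
      { s := c.s, uInv := c.el (tTwo * tOne), d := c.d, h := c.el m, Q := Q, ψ := ψ
        ker := fun l => ?_
        Q_le := hQL, s_sq := hss, s_ne := hsne, s_mem := hsQ, card_Q := hQcard
        sq := hsq, comm := hcomm, fix_d := hQd, d_mem := hds, d_cube := hd3
        h_sq := by rw [← map_mul, hm2, map_one]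
        h_s := by rw [s, ← map_mul, ← map_mul, hm]
        u_comm := by rw [s, ← map_mul, ← map_mul, f3]
        u_ne := fun e => f4 (c.el_injective e)
        u_inv := by rw [hdd, d, ← map_mul, ← map_mul, ← map_mul, f8]
        not_conj := by rw [s, ← map_mul, f9]; exact hiconj
        weak := fun x hx hxs => ?_ }
    · show e6 (QuotientGroup.mk' QL l) = 1 ↔ _
      rw [MulEquiv.map_eq_one_iff, QuotientGroup.mk'_apply, QuotientGroup.eq_one_iff, hmemQL]
    · obtain ⟨g, rfl⟩ := isConj_iff.1 hxs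
      exact hne g hx
  obtain ⟨X⟩ : Nonempty (Sylow 3 L) := inferInstance
  have hCQX : Q ⊓ Subgroup.centralizer (((X : Subgroup L).map L.subtype : Subgroup G) : Set G) =
      Subgroup.zpowers c.s := by
    have hXcard : Nat.card X = 3 := by
      rw [X.card_eq_multiplicity, hLcard]
      have : (192 : ℕ).factorization 3 = 1 := by
        refine le_antisymm ?_ (Nat.Prime.factorization_pos_of_dvd Nat.prime_three (by norm_num)
          (by norm_num))
        by_contra h
        exact absurd ((Nat.Prime.pow_dvd_iff_le_factorization Nat.prime_three (by norm_num)).2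
          (show 2 ≤ _ by omega)) (by norm_num : ¬ 3 ^ 2 ∣ 192)
      rw [this, pow_one]
    obtain ⟨x, hxX, hx1⟩ : ∃ x ∈ (X : Subgroup L), x ≠ 1 := by
      by_contra h
      push Not at h
      have : (X : Subgroup L) = ⊥ := (Subgroup.eq_bot_iff_forall _).2 h
      rw [this, Subgroup.card_bot] at hXcard
      norm_num at hXcard
    have hx3 : (x : G) * x * x = 1 := by
      have h := pow_card_eq_one' (x := (⟨x, hxX⟩ : (X : Subgroup L)))
      rw [hXcard, pow_three'] at h
      exact congrArg (fun y : (X : Subgroup L) => ((y : L) : G)) h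
    obtain ⟨l, hl, hlx⟩ := hsyl x x.2 hx3 (fun e => hx1 (Subtype.ext e))
    refine le_antisymm (fun q hq => ?_) (Subgroup.zpowers_le.2 ⟨hsQ, ?_⟩)
    · have hqx : Commute q (x : G) :=
        ((Subgroup.mem_centralizer_iff.1 hq.2) (x : G) ⟨x, hxX, rfl⟩).symm
      have hqd : Commute (l * q * l⁻¹) c.d := by
        have h1 : Commute (l * q * l⁻¹) (l * (x : G) * l⁻¹) := (Commute.conj_iff l).2 hqx
        rcases hlx with e | e <;> rw [e] at h1
        · exact h1
        · have h2 := h1.mul_right h1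
          rwa [show c.d * c.d * (c.d * c.d) = (c.d * c.d * c.d) * c.d by group, hd3, one_mul] at h2
      have hls : l * c.s * l⁻¹ = c.s := by rw [hmemL.1 hl, mul_inv_cancel_right]
      rcases hQd _ (hQn l hl q hq.1) hqd.eq with e | e
      · rw [conj_eq_one_iff.1 e]; exact one_mem _
      · rw [← hls] at e
        rw [mul_left_cancel (mul_right_cancel e)]
        exact Subgroup.mem_zpowers _
    · refine Subgroup.mem_centralizer_iff.2 ?_
      rintro _ ⟨y, -, rfl⟩
      exact hmemL.1 y.2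
  have h81 : 81 ∣ Nat.card G := c.card_pGrp ▸ c.pGrp.card_subgroup_dvd_card
  refine alt_nine_of_recog h81 (hrec c.s (orderOf_eq_prime (by rw [pow_two, hss]) hsne) L rfl Q
    ?_ hQex hQcard ((QuotientGroup.quotientMulEquivOfEq hcore).trans e6) X hCQX hnwc)
  rw [hcore, hQLdef, Subgroup.map_subgroupOf_eq_of_le hQL]

end Setup

end CfsgLib.AltNineRecog
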