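import Cfsg.Agent.AltNineRecog.NineTwo
import Cfsg.Agent.SylowThreeNine.AltSix
import Cfsg.Agent.PLocal.Cores

/-!
# A self-centralising Sylow subgroup of order nine with normaliser of order 36

Without a normal subgroup of order prime to three the Sylow subgroup is normal or the group is
simple.
-/

set_option autoImplicit false
set_option linter.style.haveILetI false
set_option linter.unusedSectionVars false

namespace CfsgLib.AltNineRecog

universe u

variable {X : Type u} [Group X] [Fintype X] (c : SylowThreeNine.Setup X)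
  (hC : ∀ s ∈ c.S, s ≠ 1 → Subgroup.centralizer ({s} : Set X) = c.S)

include hC

theorem nineFour_centralizer_le : Subgroup.centralizer (c.S : Set X) ≤ c.S := by
  obtain ⟨s, hs, hs1⟩ := (Subgroup.bot_or_exists_ne_one c.S).resolve_left fun e => by
    have := c.card_eq
    rw [e, Subgroup.card_bot] at this
    omega
  intro g hg
  rw [← hC s hs hs1]
  exact Subgroup.mem_centralizer_singleton_iff.2 (Subgroup.mem_centralizer_iff.1 hg s hs).symm

/-- An element of a normal subgroup normalising but not in `S` pulls `S` into the subgroup. -/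
theorem le_of_mem_normal {M : Subgroup X} [hM : M.Normal] {g : X} (hg : g ∈ M)
    (hgN : g ∈ Subgroup.normalizer (c.S : Set X)) (hgS : g ∉ c.S) : c.S ≤ M := by
  let δ : c.S → c.S := fun s => ⟨g * s * g⁻¹ * (s : X)⁻¹,
    mul_mem ((Subgroup.mem_normalizer_iff.1 hgN s).1 s.2) (inv_mem s.2)⟩
  have hinj : Function.Injective δ := by
    intro s t e
    have e' : g * s * g⁻¹ * (s : X)⁻¹ = g * t * g⁻¹ * (t : X)⁻¹ := congrArg Subtype.val e
    have e2 : g * ((t : X)⁻¹ * s) * g⁻¹ = (t : X)⁻¹ * s := by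
      have h1 : g * (s : X) * g⁻¹ = g * t * g⁻¹ * ((t : X)⁻¹ * s) := by
        rw [← mul_assoc, ← e', inv_mul_cancel_right]
      calc g * ((t : X)⁻¹ * s) * g⁻¹ = (g * t * g⁻¹)⁻¹ * (g * s * g⁻¹) := by group
        _ = _ := by rw [h1, inv_mul_cancel_left]
    refine Subtype.ext ?_
    by_contra hne
    have hts : (t : X)⁻¹ * s ≠ 1 := fun e3 => hne (inv_mul_eq_one.1 e3).symm
    refine hgS ?_
    rw [← hC _ (mul_mem (inv_mem t.2) s.2) hts]
    exact Subgroup.mem_centralizer_singleton_iff.2 (mul_inv_eq_iff_eq_mul.1 e2)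
  intro s hs
  obtain ⟨t, ht⟩ := (Finite.injective_iff_surjective.1 hinj) ⟨s, hs⟩
  have ht' : g * t * g⁻¹ * (t : X)⁻¹ = s := congrArg Subtype.val ht
  rw [← ht', mul_assoc, mul_assoc, ← mul_assoc (t : X)]
  exact mul_mem hg (hM.conj_mem _ (inv_mem hg) t)

theorem nineFour_conj_mem {y : X} (hy : y ^ 3 = 1) : ∃ g : X, g * y * g⁻¹ ∈ c.S := by
  haveI : Fact (Nat.Prime 3) := ⟨Nat.prime_three⟩
  let P : Sylow 3 X := ⟨c.S, c.isPGroup, fun {Q} hQ hle => (Subgroup.eq_of_le_of_card_ge hle (by
    rw [c.card_eq]; exact c.card_le hQ)).symm⟩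
  have hyp : IsPGroup 3 (Subgroup.zpowers y) := by
    obtain ⟨i, -, hi⟩ := (Nat.dvd_prime_pow Nat.prime_three).1
      (show orderOf y ∣ 3 ^ 1 by rw [pow_one]; exact orderOf_dvd_of_pow_eq_one hy)
    exact IsPGroup.of_card (n := i) (by rw [Nat.card_zpowers, hi])
  obtain ⟨Q, hQ⟩ := hyp.exists_le_sylow
  obtain ⟨d, hd⟩ := MulAction.exists_smul_eq X Q P
  refine ⟨d, ?_⟩
  have h : d * y * d⁻¹ ∈ (P : Subgroup X) := by
    rw [← hd, Sylow.coe_subgroup_smul]
    exact ⟨y, hQ (Subgroup.mem_zpowers y), rfl⟩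
  exact h

/-- Without a normal subgroup of order prime to three the Sylow subgroup is normal or the group
is simple. -/
theorem normal_or_simple (h4 : c.S.relIndex (Subgroup.normalizer (c.S : Set X)) = 4)
    (hcore : ∀ L : Subgroup X, L.Normal → ¬ 3 ∣ Nat.card L → L = ⊥) :
    c.S.Normal ∨ IsSimpleGroup X := by
  classical
  haveI : Fact (Nat.Prime 3) := ⟨Nat.prime_three⟩
  obtain ⟨s₀, hs₀, hs₀1⟩ := (Subgroup.bot_or_exists_ne_one c.S).resolve_left fun e => by
    have := c.card_eq
    rw [e, Subgroup.card_bot] at this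
    omega
  haveI : Nontrivial X := ⟨s₀, 1, hs₀1⟩
  by_cases hsimp : ∀ M : Subgroup X, M.Normal → M = ⊥ ∨ M = ⊤
  · exact Or.inr ⟨hsimp⟩
  push Not at hsimp
  obtain ⟨M, hM, hM1, hMtop⟩ := hsimp
  left
  haveI := hM
  have h3 : 3 ∣ Nat.card M := by
    by_contra h
    exact hM1 (hcore M hM h)
  set N := Subgroup.normalizer (c.S : Set X) with hNdef
  obtain ⟨y, hy⟩ := exists_prime_orderOf_dvd_card' (G := M) 3 h3
  obtain ⟨g₀, hg₀⟩ := nineFour_conj_mem c hC (y := (y : X))
    (by rw [← hy, ← Subgroup.orderOf_coe, pow_orderOf_eq_one])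
  set l := g₀ * (y : X) * g₀⁻¹
  have hlM : l ∈ M := hM.conj_mem _ y.2 g₀
  have hl1 : l ≠ 1 := fun e => by
    rw [← Subgroup.orderOf_coe, conj_eq_one_iff.1 e, orderOf_one] at hy
    norm_num at hy
  have hnorm : ∀ g : X, g * l * g⁻¹ ∈ c.S → g ∈ N := fun g hg =>
    c.mem_normalizer_of_conj hg₀ hl1 hg
  by_cases hSM : c.S ≤ M
  swap
  · -- only the subgroup of `l` lies in `M`
    have hS : ∀ g ∈ M, g ∈ N → g ∈ c.S := fun g hg hgN =>
      Classical.byContradiction fun hgS => hSM (le_of_mem_normal c hC hg hgN hgS)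
    have hlz : Subgroup.zpowers l ≤ M := Subgroup.zpowers_le.2 hlM
    have hlp : IsPGroup 3 ((Subgroup.zpowers l).subgroupOf M) := by
      refine (IsPGroup.of_card (n := 1) ?_ : IsPGroup 3 (Subgroup.zpowers l)).of_equiv
        (Subgroup.subgroupOfEquivOfLe hlz).symm
      rw [Nat.card_zpowers, pow_one]
      exact orderOf_eq_prime (c.pow_three hg₀) hl1
    have hQS : ∀ {Q : Subgroup M}, IsPGroup 3 Q → (Subgroup.zpowers l).subgroupOf M ≤ Q →
        Q = (Subgroup.zpowers l).subgroupOf M := by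
      intro Q hQ hle
      refine le_antisymm (fun q hq => ?_) hle
      have hqS : (q : X) ∈ c.S := c.le_of_mem (hQ.map M.subtype)
        ⟨⟨l, hlM⟩, hle (Subgroup.mem_zpowers l), rfl⟩ hg₀ hl1 ⟨q, hq, rfl⟩
      by_contra hql
      refine hSM ?_
      have h9 : c.S = c.S ⊓ M := by
        refine (Subgroup.eq_of_le_of_card_ge inf_le_left ?_).symm
        have hd := Subgroup.card_dvd_of_le (inf_le_left : c.S ⊓ M ≤ c.S)
        rw [c.card_eq] at hd ⊢
        obtain ⟨i, hi, he⟩ := (Nat.dvd_prime_pow Nat.prime_three).1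
          (show Nat.card (c.S ⊓ M : Subgroup X) ∣ 3 ^ 2 from hd)
        rw [he]
        by_contra hlt
        have hi2 : i ≤ 1 := by
          by_contra hi2
          exact hlt (by rw [show i = 2 by omega]; norm_num)
        refine hql ?_
        show (q : X) ∈ Subgroup.zpowers l
        have heq : Subgroup.zpowers l = c.S ⊓ M := by
          refine Subgroup.eq_of_le_of_card_ge (le_inf (Subgroup.zpowers_le.2 hg₀) hlz) ?_
          rw [he, Nat.card_zpowers, orderOf_eq_prime (c.pow_three hg₀) hl1]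
          calc 3 ^ i ≤ 3 ^ 1 := Nat.pow_le_pow_right (by norm_num) hi2
            _ = 3 := pow_one 3
        rw [heq]; exact ⟨hqS, q.2⟩
      rw [h9]; exact inf_le_right
    let P : Sylow 3 M := ⟨(Subgroup.zpowers l).subgroupOf M, hlp, hQS⟩
    have hle : Subgroup.normalizer ((P : Subgroup M) : Set M) ≤
        Subgroup.centralizer ((P : Subgroup M) : Set M) := by
      intro g hg
      refine Subgroup.mem_centralizer_iff.2 fun z hz => Subtype.ext ?_
      have h1 : (g : X) * l * (g : X)⁻¹ ∈ Subgroup.zpowers l :=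
        (Subgroup.mem_normalizer_iff.1 hg ⟨l, hlM⟩).1 (Subgroup.mem_zpowers l)
      have hgS := hS g g.2 (hnorm g (Subgroup.zpowers_le.2 hg₀ h1))
      exact c.comm _ (Subgroup.zpowers_le.2 hg₀ (show (z : X) ∈ Subgroup.zpowers l from hz)) _ hgS
    have htop := sylow_eq_top_of_core hcore M P hle
    have hMl : M = Subgroup.zpowers l := le_antisymm (Subgroup.subgroupOf_eq_top.1 htop) hlz
    refine ⟨fun z hz g => ?_⟩
    exact (Subgroup.mem_normalizer_iff.1
      (hnorm g (Subgroup.zpowers_le.2 hg₀ (hMl ▸ hM.conj_mem l hlM g))) z).1 hz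
  -- the Sylow subgroup lies in `M`
  have hmem : ∀ {g : M}, g ∈ Subgroup.normalizer ((c.S.subgroupOf M : Subgroup M) : Set M) →
      (g : X) ∈ N := by
    intro g hg
    exact hnorm g ((Subgroup.mem_normalizer_iff.1 hg ⟨l, hlM⟩).1 hg₀)
  have hp : IsPGroup 3 (c.S.subgroupOf M) :=
    c.isPGroup.of_equiv (Subgroup.subgroupOfEquivOfLe hSM).symm
  let P : Sylow 3 M := ⟨c.S.subgroupOf M, hp, fun {Q} hQ hle =>
    (Subgroup.eq_of_le_of_card_ge hle (by
      rw [Nat.card_congr (Subgroup.subgroupOfEquivOfLe hSM).toEquiv, c.card_eq,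
        ← Subgroup.card_map_of_injective M.subtype_injective]
      exact c.card_le (hQ.map _))).symm⟩
  by_cases hout : ∀ g ∈ M, g ∈ N → g ∈ c.S
  · have htop := sylow_eq_top_of_core hcore M P fun g hg =>
      Subgroup.mem_centralizer_iff.2 fun z hz =>
        Subtype.ext (c.comm _ hz _ (hout g g.2 (hmem hg)))
    rw [show c.S = M from le_antisymm hSM (Subgroup.subgroupOf_eq_top.1 htop)]
    exact hM
  push Not at hout
  obtain ⟨n, hnM, hnN, hnS⟩ := hout
  by_cases hsq : ∀ g ∈ M, g ∈ N → g * g ∈ c.S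
  · let c' : NineTwo M :=
      { S := c.S.subgroupOf M
        card_eq := by
          rw [Nat.card_congr (Subgroup.subgroupOfEquivOfLe hSM).toEquiv, c.card_eq]
        exp := fun s hs => Subtype.ext (c.exp _ hs)
        comm := fun s hs t ht => Subtype.ext (c.comm _ hs _ ht)
        not_dvd := fun h => c.not_dvd (h.trans (Subgroup.card_subgroup_dvd_card M))
        a := ⟨l, hlM⟩
        a_mem := hg₀
        a_ne := fun e => hl1 (congrArg Subtype.val e)
        cent := fun s hs hsa => by
          refine le_antisymm (fun z hz => ?_) fun z hz => ?_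
          · show (z : X) ∈ c.S
            rw [← hC _ hs fun e => hsa (by rw [show s = 1 from Subtype.ext e]; exact one_mem _)]
            exact Subgroup.mem_centralizer_singleton_iff.2
              (congrArg Subtype.val (Subgroup.mem_centralizer_singleton_iff.1 hz))
          · exact Subgroup.mem_centralizer_singleton_iff.2 (Subtype.ext (c.comm _ hz _ hs))
        norm := fun g hg => by
          by_cases hgS : (g : X) ∈ c.S
          · exact Or.inl fun z hz => Subtype.ext (mul_inv_eq_iff_eq_mul.2 (c.comm _ hgS _ hz))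
          · exact Or.inr fun z hz => Subtype.ext (c.inverts hC (hmem hg) hgS (hsq g g.2 (hmem hg)) hz)
        inv_elt := ⟨⟨n, hnM⟩, fun z hz => Subtype.ext (c.inverts hC hnN hnS (hsq n hnM hnN) hz)⟩ }
    have hnormal : (c.S.subgroupOf M).Normal := by
      refine c'.normal fun L hL h => ?_
      haveI := hL
      have hco : ¬ 3 ∣ Nat.card (Cfsg.pPrimeCore 3 M) := fun h' =>
        Nat.prime_three.coprime_iff_not_dvd.1 (PLocal.coprime_card_pPrimeCore 3 M).symm h'
      haveI := PLocal.normal_map_subtype M (Cfsg.pPrimeCore 3 M)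
      have hbot := hcore _ (inferInstance : ((Cfsg.pPrimeCore 3 M).map M.subtype).Normal)
        (by rwa [Subgroup.card_map_of_injective M.subtype_injective])
      rw [Subgroup.map_eq_bot_iff_of_injective _ M.subtype_injective] at hbot
      rw [eq_bot_iff, ← hbot]
      exact le_sSup ⟨hL, (Nat.prime_three.coprime_iff_not_dvd.2 h).symm⟩
    haveI := hnormal
    have := Sylow.characteristic_of_normal P hnormal
    haveI : (P : Subgroup M).Characteristic := this
    have := ConjAct.normal_of_characteristic_of_normal (H := M) (K := (P : Subgroup M))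
    rwa [show (P : Subgroup M).map M.subtype = c.S from Subgroup.map_subgroupOf_eq_of_le hSM] at this
  push Not at hsq
  obtain ⟨q, hqM, hqN, hqS⟩ := hsq
  exfalso
  refine hMtop (top_le_iff.1 ?_)
  have hsup := Sylow.normalizer_sup_eq_top P
  rw [show ((P : Subgroup M).map M.subtype) = c.S from Subgroup.map_subgroupOf_eq_of_le hSM] at hsup
  rw [← hsup]
  refine sup_le (fun k hk => ?_) le_rfl
  haveI : (c.S.subgroupOf N).Normal := Subgroup.normal_in_normalizer
  set qb : N ⧸ c.S.subgroupOf N := QuotientGroup.mk ⟨q, hqN⟩ with hqb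
  have hcard : Nat.card (N ⧸ c.S.subgroupOf N) = 4 := h4
  have hord : orderOf qb = 4 := by
    refine orderOf_eq_prime_pow (p := 2) (n := 1) ?_ ?_
    · rw [pow_one, pow_two, hqb, ← QuotientGroup.mk_mul]
      exact fun e => hqS ((QuotientGroup.eq_one_iff ((⟨q, hqN⟩ : N) * ⟨q, hqN⟩)).1 e)
    · rw [show (2 : ℕ) ^ (1 + 1) = Nat.card (N ⧸ c.S.subgroupOf N) by rw [hcard]; norm_num]
      exact pow_card_eq_one'
  have htop : Subgroup.zpowers qb = ⊤ :=
    Subgroup.eq_top_of_card_eq _ (by rw [Nat.card_zpowers, hord, hcard])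
  obtain ⟨i, hi⟩ := Subgroup.mem_zpowers_iff.1
    (show (QuotientGroup.mk (⟨k, hk⟩ : N) : N ⧸ c.S.subgroupOf N) ∈ Subgroup.zpowers qb by
      rw [htop]; trivial)
  rw [hqb, ← QuotientGroup.mk_zpow, QuotientGroup.eq] at hi
  have hi' : (q ^ i)⁻¹ * k ∈ c.S := by
    have := (Subgroup.mem_subgroupOf.1 hi)
    simpa using this
  have := mul_mem (zpow_mem hqM i) (hSM hi')
  rwa [mul_inv_cancel_left] at this

end CfsgLib.AltNineRecog
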