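import Cfsg.Agent.AltNineRecog.CentEFacts
import Cfsg.Agent.AltNineRecog.NineFour

/-!
# The centraliser of an element of weight one

Its quotient by that element has order 36, and then all centralisers lie in `H`, or it is simple
of order 360.
-/

set_option autoImplicit false
set_option linter.style.haveILetI false
set_option linter.unusedSectionVars false

namespace CfsgLib.AltNineRecog

open CfsgLib.AltNineThree (M IsE eOne eMix eAll eThree tOne tTwo gThree cls)

set_option maxRecDepth 20000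

universe u

namespace Setup

variable {G : Type u} [Group G] [Finite G] (c : Setup G)

/-- The elementary subgroup. -/
def J : Subgroup G := AltNineThree.eSub.map c.el

theorem mem_J {z : G} : z ∈ c.J ↔ ∃ m : M, IsE m ∧ c.el m = z :=
  ⟨fun ⟨m, hm, h⟩ => ⟨m, hm, h⟩, fun ⟨m, hm, h⟩ => ⟨m, hm, h⟩⟩

theorem el_mem_J {m : M} (hm : IsE m) : c.el m ∈ c.J := c.mem_J.2 ⟨m, hm, rfl⟩

theorem J_le : c.J ≤ c.H := by
  rintro _ ⟨m, -, rfl⟩; exact c.el_mem m

theorem comm_J {y z : G} (hy : y ∈ c.J) (hz : z ∈ c.J) : y * z = z * y := by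
  obtain ⟨a, ha, rfl⟩ := c.mem_J.1 hy
  obtain ⟨b, hb, rfl⟩ := c.mem_J.1 hz
  rw [← map_mul, (AltNineThree.E_mul a ha b hb).2, map_mul]

theorem mem_H_of_normalizes {z : G} (h : ∀ y ∈ c.J, z * y * z⁻¹ ∈ c.J) : z ∈ c.H := by
  refine c.norm z fun y hy => ?_
  obtain ⟨m, hm, e⟩ := c.mem_J.1 (h y (c.mem_J.2 ⟨c.e y, hy, by simp [el]⟩))
  refine ⟨c.e.symm m, by simpa using hm, ?_⟩
  rw [← e]; rfl

/-- The centralisers of the elements of weight at least two. -/
theorem cent_heavy (hloc : c.Local) {a : M} (h : cls a = 11 ∨ cls a = 13) :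
    Subgroup.centralizer ({c.el a} : Set G) ≤ c.H := by
  intro z hz
  obtain ⟨-, h11, h13⟩ := AltNineThree.cls_eMix
  obtain ⟨r, hr, k, hk⟩ : ∃ r, Subgroup.centralizer ({c.el r} : Set G) ≤ c.H ∧
      ∃ k : M, k * r * k⁻¹ = a := by
    rcases h with h | h
    · exact ⟨_, hloc.centD, AltNineThree.conj_of_cls (h11.trans h.symm)⟩
    · exact ⟨_, hloc.centX, AltNineThree.conj_of_cls (h13.trans h.symm)⟩
  have hz' : (c.el k)⁻¹ * z * c.el k ∈ c.H := by
    refine hr (Subgroup.mem_centralizer_singleton_iff.2 ?_)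
    have h0 := Subgroup.mem_centralizer_singleton_iff.1 hz
    rw [← hk, map_mul, map_mul, map_inv] at h0
    calc (c.el k)⁻¹ * z * c.el k * c.el r
        = (c.el k)⁻¹ * (z * (c.el k * c.el r * (c.el k)⁻¹)) * c.el k := by group
      _ = c.el r * ((c.el k)⁻¹ * z * c.el k) := by rw [h0]; group
  have := c.H.mul_mem (c.H.mul_mem (c.el_mem k) hz') (c.H.inv_mem (c.el_mem k))
  simpa [mul_assoc] using this

/-- The centraliser of an element of weight one. -/
abbrev CE : Subgroup G := Subgroup.centralizer ({c.el eOne} : Set G)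

/-- An element of `C(e)` centralising a line of `J` modulo `e` lies in `J`. -/
theorem mem_J_of_fixes (hloc : c.Local) {z : G} (hz : z ∈ c.CE) {j : M} (hj : IsE j)
    (hout : j ∉ [1, eOne, eOne * eOne]) {n : ℕ}
    (hfix : z * c.el j * z⁻¹ = c.el (j * eOne ^ n)) : z ∈ c.J := by
  have hze := Subgroup.mem_centralizer_singleton_iff.1 hz
  have he3 : eOne ^ 3 = 1 := by
    rw [pow_succ, pow_two]; exact tOne_cent.2.2.2.2.2.2.2.2.2.2.2
  have hk : ∀ i : ℕ, z * c.el (j * eOne ^ i) * z⁻¹ = c.el (j * eOne ^ (n + i)) := by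
    intro i
    rw [map_mul, map_pow, pow_add, ← mul_assoc j, map_mul (c.el) _ (eOne ^ i), ← hfix, map_pow]
    have hc : Commute z (c.el eOne ^ i) := Commute.pow_right hze i
    calc z * (c.el j * c.el eOne ^ i) * z⁻¹ = z * c.el j * z⁻¹ * (z * c.el eOne ^ i * z⁻¹) := by
          group
      _ = _ := by rw [hc.eq, mul_inv_cancel_right]
  have hE : ∀ i : ℕ, IsE (j * eOne ^ i) := fun i =>
    (AltNineThree.eSub).mul_mem hj ((AltNineThree.eSub).pow_mem isE_reps.1 i)
  obtain ⟨t, ht, hcls⟩ := coset_unique j hj hout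
  obtain ⟨i, rfl⟩ : ∃ i : ℕ, t = j * eOne ^ i := by
    simp only [List.mem_cons, List.not_mem_nil, or_false] at ht
    rcases ht with e | e | e
    · exact ⟨0, by rw [e, pow_zero, mul_one]⟩
    · exact ⟨1, by rw [e, pow_one]⟩
    · exact ⟨2, by rw [e, pow_two]⟩
  obtain ⟨m, hm⟩ := hloc.fusion _ _ (hE i) (hE (n + i)) z (hk i)
  have hsame : cls (j * eOne ^ (n + i)) = cls (j * eOne ^ i) := by
    rw [← hm, AltNineThree.cls_conj]
  have hn : eOne ^ n = 1 := by
    have hmod : eOne ^ n = eOne ^ (n % 3) := pow_eq_pow_mod n he3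
    rw [hmod]
    have e : j * eOne ^ (n + i) = j * eOne ^ i * eOne ^ (n % 3) := by
      rw [← hmod, add_comm, pow_add, mul_assoc]
    rw [e] at hsame
    rcases (show n % 3 = 0 ∨ n % 3 = 1 ∨ n % 3 = 2 by omega) with h | h | h <;> rw [h] at hsame ⊢
    · exact pow_zero _
    · exact absurd hsame (hcls _ (by simp))
    · exact absurd hsame (hcls _ (by simp [pow_two]))
  rw [hn, mul_one] at hfix
  have hzj : z * c.el j = c.el j * z := mul_inv_eq_iff_eq_mul.1 hfix
  obtain ⟨t', ht', hh⟩ := coset_heavy j hj hout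
  have hzH : z ∈ c.H := by
    refine c.cent_heavy hloc hh (Subgroup.mem_centralizer_singleton_iff.2 ?_)
    simp only [List.mem_cons, List.not_mem_nil, or_false] at ht'
    rcases ht' with e | e | e <;> subst e
    · exact hzj
    · rw [map_mul]; exact (Commute.mul_right hzj hze).eq
    · rw [map_mul, map_mul]; exact (Commute.mul_right hzj (Commute.mul_right hze hze)).eq
  obtain ⟨u, rfl⟩ := c.exists_el hzH
  exact c.el_mem_J (cent_pair u (c.el_injective (by rw [map_mul, map_mul, hze])) j hj hout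
    (c.el_injective (by rw [map_mul, map_mul, hzj])))

theorem centE_cases (hloc : c.Local) : c.CE ≤ c.H ∨
    (Nat.card c.CE = 1080 ∧ ∀ θ : c.CE →* Multiplicative (ZMod 2), ∀ z, θ z = 1) := by
  classical
  haveI : Fact (Nat.Prime 3) := ⟨Nat.prime_three⟩
  have he3M : eOne * eOne * eOne = 1 := tOne_cent.2.2.2.2.2.2.2.2.2.2.2
  have heE := c.el_mem_J isE_reps.1
  set e₀ : c.CE := ⟨c.el eOne, Subgroup.mem_centralizer_singleton_iff.2 rfl⟩ with he₀
  have he₀3 : e₀ ^ 3 = 1 := Subtype.ext (by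
    simp only [he₀, SubmonoidClass.coe_pow, OneMemClass.coe_one]
    rw [← map_pow, pow_succ, pow_two, he3M, map_one])
  have he₀1 : e₀ ≠ 1 := fun e => isE_reps.2.1 (c.el_injective (by
    rw [map_one]; exact congrArg Subtype.val e))
  have he₀ord : orderOf e₀ = 3 := orderOf_eq_prime he₀3 he₀1
  have hcentral : ∀ z : c.CE, z * e₀ = e₀ * z := fun z =>
    Subtype.ext (Subgroup.mem_centralizer_singleton_iff.1 z.2)
  set Z := Subgroup.zpowers e₀ with hZ
  haveI hZn : Z.Normal := ⟨fun y hy z => by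
    obtain ⟨i, rfl⟩ := Subgroup.mem_zpowers_iff.1 hy
    rw [(Commute.zpow_right (hcentral z) i).eq, mul_inv_cancel_right]
    exact Subgroup.zpow_mem _ (Subgroup.mem_zpowers e₀) i⟩
  haveI : Fintype (c.CE ⧸ Z) := Fintype.ofFinite _
  set π := QuotientGroup.mk' Z with hπ
  have hπsurj : Function.Surjective π := QuotientGroup.mk'_surjective Z
  have hJC : c.J ≤ c.CE := fun y hy =>
    Subgroup.mem_centralizer_singleton_iff.2 (c.comm_J hy heE)
  have hpow : ∀ z : c.CE, z ∈ Z → ∃ n : ℕ, (z : G) = c.el (eOne ^ n) := by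
    intro z hz
    obtain ⟨n, hn⟩ := (mem_powers_iff_mem_zpowers (x := e₀)).2 hz
    exact ⟨n, by rw [← show e₀ ^ n = z from hn, map_pow]; rfl⟩
  have hZJ : ∀ z : c.CE, z ∈ Z → (z : G) ∈ c.J := fun z hz => by
    obtain ⟨n, hn⟩ := hpow z hz
    rw [hn]; exact c.el_mem_J ((AltNineThree.eSub).pow_mem isE_reps.1 n)
  set Jc := c.J.subgroupOf c.CE with hJc
  set S := Jc.map π with hS
  have hcomap : S.comap π = Jc := by
    rw [hS, Subgroup.comap_map_eq, QuotientGroup.ker_mk', sup_eq_left]
    exact fun z hz => hZJ z hz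
  have hJcard : Nat.card Jc = 27 := by
    rw [Nat.card_congr (Subgroup.subgroupOfEquivOfLe hJC).toEquiv, J,
      Subgroup.card_map_of_injective c.el_injective, ← AltNineThree.card_E, ← Fintype.card_subtype,
      ← Nat.card_eq_fintype_card]
    rfl
  have hpre : ∀ (T : Subgroup (c.CE ⧸ Z)), Nat.card (T.comap π) = 3 * Nat.card T := by
    intro T
    rw [← he₀ord, ← Nat.card_zpowers]
    exact QuotientGroup.card_preimage_mk Z (T : Set (c.CE ⧸ Z))
  have hS9 : Nat.card S = 9 := by
    have := hpre S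
    rw [hcomap, hJcard] at this
    omega
  -- the centralisers of the elements of `S`
  have hcent : ∀ s ∈ S, s ≠ 1 → Subgroup.centralizer ({s} : Set (c.CE ⧸ Z)) = S := by
    intro s hs hs1
    obtain ⟨y, hy, rfl⟩ := hs
    obtain ⟨j, hj, hjy⟩ := c.mem_J.1 (show (y : G) ∈ c.J from hy)
    have hout : j ∉ [1, eOne, eOne * eOne] := by
      intro h
      refine hs1 ((QuotientGroup.eq_one_iff y).2 ?_)
      simp only [List.mem_cons, List.not_mem_nil, or_false] at h
      rcases h with e | e | e <;> subst e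
      · rw [show y = 1 from Subtype.ext (hjy.symm.trans (map_one _))]; exact one_mem _
      · rw [show y = e₀ from Subtype.ext hjy.symm]; exact Subgroup.mem_zpowers _
      · rw [show y = e₀ * e₀ from Subtype.ext (hjy.symm.trans (map_mul _ _ _))]
        exact mul_mem (Subgroup.mem_zpowers _) (Subgroup.mem_zpowers _)
    refine le_antisymm (fun q hq => ?_) ?_
    · obtain ⟨z, rfl⟩ := hπsurj q
      have hq' := Subgroup.mem_centralizer_singleton_iff.1 hq
      have hd : y⁻¹ * (z * y * z⁻¹) ∈ Z := by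
        rw [← QuotientGroup.eq_one_iff]
        show π _ = 1
        rw [map_mul, map_inv, map_mul, map_mul, map_inv, hq', mul_inv_cancel_right, inv_mul_cancel]
      obtain ⟨n, hn⟩ := hpow _ hd
      refine ⟨z, c.mem_J_of_fixes hloc z.2 hj hout (n := n) ?_, rfl⟩
      rw [map_mul, ← hn, hjy]
      simp [mul_assoc]
    · rintro _ ⟨z, hz, rfl⟩
      refine Subgroup.mem_centralizer_singleton_iff.2 ?_
      rw [← map_mul, ← map_mul]
      exact congrArg π (Subtype.ext (c.comm_J hz hy))
  -- the normaliser of `S`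
  set N := Subgroup.normalizer (S : Set (c.CE ⧸ Z))
  have hnormJ : ∀ h ∈ c.H, ∀ y ∈ c.J, h * y * h⁻¹ ∈ c.J := by
    intro h hh y hy
    obtain ⟨u, rfl⟩ := c.exists_el hh
    obtain ⟨j, hj, rfl⟩ := c.mem_J.1 hy
    rw [← map_inv, ← map_mul, ← map_mul]
    exact c.el_mem_J (AltNineThree.E_conj j hj u)
  have hNcomap : N.comap π = c.H.subgroupOf c.CE := by
    refine le_antisymm (fun z hz => ?_) fun z hz => ?_
    · refine c.mem_H_of_normalizes fun y hy => ?_
      have h1 : π z * π ⟨y, hJC hy⟩ * (π z)⁻¹ ∈ S :=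
        (Subgroup.mem_normalizer_iff.1 hz _).1 (Subgroup.mem_map_of_mem _ hy)
      rw [← map_inv, ← map_mul, ← map_mul, ← Subgroup.mem_comap, hcomap] at h1
      exact h1
    · have key : ∀ w : c.CE, (w : G) ∈ c.H → ∀ q ∈ S, π w * q * (π w)⁻¹ ∈ S := by
        rintro w hw _ ⟨y, hy, rfl⟩
        rw [← map_inv, ← map_mul, ← map_mul]
        exact Subgroup.mem_map_of_mem _ (hnormJ _ hw _ hy)
      refine Subgroup.mem_normalizer_iff.2 fun q => ⟨key z hz q, fun hq => ?_⟩
      have := key z⁻¹ (c.H.inv_mem hz) _ hq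
      rw [map_inv, inv_inv] at this
      simpa [mul_assoc] using this
  have hN36 : Nat.card N = 36 := by
    have := hpre N
    rw [hNcomap] at this
    have h108 : Nat.card (c.H.subgroupOf c.CE) = 108 := by
      rw [← card_cent_eOne, ← Fintype.card_subtype, ← Nat.card_eq_fintype_card]
      exact Nat.card_congr
        { toFun := fun z => ⟨c.e ⟨(z : c.CE), z.2⟩, c.el_injective (by
            rw [map_mul, map_mul]
            simpa [el] using Subgroup.mem_centralizer_singleton_iff.1 z.1.2)⟩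
          invFun := fun u => ⟨⟨c.el u.1, Subgroup.mem_centralizer_singleton_iff.2 (by
            rw [← map_mul, u.2, map_mul])⟩, c.el_mem u.1⟩
          left_inv := fun z => Subtype.ext (Subtype.ext (by simp [el]))
          right_inv := fun u => Subtype.ext (by simp [el]) }
    omega
  have hrel : S.relIndex N = 4 := by
    have := Subgroup.relIndex_mul_relIndex ⊥ S N bot_le Subgroup.le_normalizer
    rw [Subgroup.relIndex_bot_left, Subgroup.relIndex_bot_left, hS9, hN36] at this
    omega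
  let d : SylowThreeNine.Setup (c.CE ⧸ Z) :=
    { S := S
      card_eq := hS9
      exp := by
        rintro _ ⟨y, hy, rfl⟩
        rw [← map_mul, ← map_mul, show y * y * y = 1 from Subtype.ext ?_, map_one]
        obtain ⟨j, hj, hjy⟩ := c.mem_J.1 (show (y : G) ∈ c.J from hy)
        simp only [Subgroup.coe_mul, OneMemClass.coe_one, ← hjy, ← map_mul, hj.2, map_one]
      comm := by
        rintro _ ⟨y, hy, rfl⟩ _ ⟨w, hw, rfl⟩
        rw [← map_mul, ← map_mul]
        exact congrArg π (Subtype.ext (c.comm_J hy hw))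
      not_dvd := fun h => by
        have h3 := Sylow.prime_dvd_card_quotient_normalizer (p := 3) (n := 2) h
          (show Nat.card S = 3 ^ 2 by rw [hS9]; norm_num)
        change 3 ∣ S.relIndex N at h3
        rw [hrel] at h3
        norm_num at h3
      cent := fun s hs hs1 => (hcent s hs hs1).le.trans Subgroup.le_normalizer }
  have hcoreE : ∀ L : Subgroup c.CE, L.Normal → ¬ 3 ∣ Nat.card L → L = ⊥ := by
    intro L hL h
    have hb : Cfsg.pPrimeCore 3 c.CE = ⊥ := by
      exact c.cores eOne isE_reps.1 (by decide +kernel)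
    rw [eq_bot_iff, ← hb]
    exact le_sSup ⟨hL, (Nat.prime_three.coprime_iff_not_dvd.2 h).symm⟩
  have hcore : ∀ L : Subgroup (c.CE ⧸ Z), L.Normal → ¬ 3 ∣ Nat.card L → L = ⊥ := by
    intro L hL h
    haveI := hL
    have hle : Z ≤ L.comap π := fun z hz => by
      rw [Subgroup.mem_comap, show π z = 1 from (QuotientGroup.eq_one_iff z).2 hz]; exact one_mem _
    have hp : IsPGroup 3 (Z.subgroupOf (L.comap π)) := by
      refine (IsPGroup.of_card (n := 1) ?_ : IsPGroup 3 Z).of_equiv
        (Subgroup.subgroupOfEquivOfLe hle).symm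
      rw [hZ, Nat.card_zpowers, he₀ord, pow_one]
    let P : Sylow 3 (L.comap π) := ⟨Z.subgroupOf (L.comap π), hp, fun {Q} hQ hQle => by
      refine (Subgroup.eq_of_le_of_card_ge hQle ?_).symm
      obtain ⟨k, hk⟩ := IsPGroup.iff_card.1 hQ
      have hd := Subgroup.card_subgroup_dvd_card Q
      rw [hpre L, hk] at hd
      rw [hk, Nat.card_congr (Subgroup.subgroupOfEquivOfLe hle).toEquiv, hZ, Nat.card_zpowers,
        he₀ord]
      rcases k with _ | _ | k
      · norm_num
      · norm_num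
      · exfalso
        refine h ?_
        have h9 : 3 * 3 ∣ 3 * Nat.card L := (Dvd.intro (3 ^ k) (by ring)).trans hd
        exact Nat.dvd_of_mul_dvd_mul_left (by norm_num) h9⟩
    have htop := sylow_eq_top_of_core hcoreE (L.comap π) P fun g _ =>
      Subgroup.mem_centralizer_iff.2 fun z hz => Subtype.ext (by
        obtain ⟨i, hi⟩ := Subgroup.mem_zpowers_iff.1 (show (z : c.CE) ∈ Z from hz)
        change (z : c.CE) * g = g * z
        rw [← hi]
        exact ((Commute.zpow_right (hcentral g) i).eq).symm)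
    refine (Subgroup.eq_bot_iff_forall _).2 fun q hq => ?_
    obtain ⟨z, rfl⟩ := hπsurj q
    exact (QuotientGroup.eq_one_iff z).2 (Subgroup.subgroupOf_eq_top.1 htop hq)
  rcases normal_or_simple d hcent hrel hcore with hn | hsimp
  · left
    intro z hz
    have : (⟨z, hz⟩ : c.CE) ∈ N.comap π := by
      rw [Subgroup.mem_comap, show N = ⊤ from Subgroup.normalizer_eq_top_iff.2 hn]
      trivial
    rwa [hNcomap] at this
  right
  have hG : ¬ IsMulCommutative (c.CE ⧸ Z) := by
    intro hG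
    obtain ⟨s, hs, hs1⟩ := (Subgroup.bot_or_exists_ne_one S).resolve_left fun e => by
      rw [e, Subgroup.card_bot] at hS9; omega
    have htop : S = ⊤ := by
      rw [← hcent s hs hs1, eq_top_iff]
      exact fun g _ => Subgroup.mem_centralizer_singleton_iff.2 (hG.is_comm.comm g s)
    have := Subgroup.card_le_of_le (le_top : N ≤ ⊤)
    rw [← htop, hS9, hN36] at this
    omega
  obtain ⟨ha, hb, hao, hbo, hab⟩ := two_cosets
  let jc : ∀ j : M, IsE j → c.CE := fun j hj => ⟨c.el j, hJC (c.el_mem_J hj)⟩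
  have hne : ∀ j (hj : IsE j), j ∉ [1, eOne, eOne * eOne] → π (jc j hj) ≠ 1 := by
    intro j hj hout h
    obtain ⟨n, hn⟩ := hpow _ ((QuotientGroup.eq_one_iff _).1 h)
    refine hout ?_
    rw [c.el_injective hn, pow_eq_pow_mod n (show eOne ^ 3 = 1 by rw [pow_succ, pow_two, he3M])]
    rcases (show n % 3 = 0 ∨ n % 3 = 1 ∨ n % 3 = 2 by omega) with e | e | e <;> simp [e, pow_two]
  have hconj : ¬ IsConj (π (jc _ ha)) (π (jc _ hb)) := by
    intro h
    obtain ⟨q, hq⟩ := isConj_iff.1 h
    obtain ⟨z, rfl⟩ := hπsurj q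
    have hd : (jc _ hb)⁻¹ * (z * jc _ ha * z⁻¹) ∈ Z := by
      rw [← QuotientGroup.eq_one_iff]
      show π _ = 1
      rw [map_mul, map_inv, map_mul, map_mul, map_inv, hq, inv_mul_cancel]
    obtain ⟨n, hn⟩ := hpow _ hd
    have h2 : (z : G) * c.el eTwo * (z : G)⁻¹ = c.el (eTwo * eThree * eOne ^ n) := by
      rw [map_mul, ← hn]
      simp [jc, mul_assoc]
    obtain ⟨m, hm⟩ := hloc.fusion _ _ ha
      ((AltNineThree.eSub).mul_mem hb ((AltNineThree.eSub).pow_mem isE_reps.1 n)) _ h2
    refine hab (eTwo * eThree * eOne ^ n) ?_ (by rw [← hm, AltNineThree.cls_conj])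
    rw [pow_eq_pow_mod n (show eOne ^ 3 = 1 by rw [pow_succ, pow_two, he3M])]
    rcases (show n % 3 = 0 ∨ n % 3 = 1 ∨ n % 3 = 2 by omega) with e | e | e <;> simp [e, pow_two]
  haveI := hsimp
  have h360 := d.card_eq_360 hcent hG (a := π (jc _ ha))
    (Subgroup.mem_map_of_mem _ (c.el_mem_J ha)) (hne _ ha hao) (b := π (jc _ hb))
    (Subgroup.mem_map_of_mem _ (c.el_mem_J hb)) (hne _ hb hbo) hconj
  have hcard : Nat.card c.CE = 1080 := by
    rw [Subgroup.card_eq_card_quotient_mul_card_subgroup Z, h360, hZ, Nat.card_zpowers, he₀ord]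
  refine ⟨hcard, fun θ z => ?_⟩
  have hZker : Z ≤ θ.ker := by
    refine Subgroup.zpowers_le.2 (MonoidHom.mem_ker.2 ?_)
    have h3 : θ e₀ ^ 3 = 1 := by rw [← map_pow, he₀3, map_one]
    have h2 : ∀ u : Multiplicative (ZMod 2), u ^ 3 = 1 → u = 1 := by decide
    exact h2 _ h3
  have hK : (θ.ker.map π).Normal := Subgroup.Normal.map inferInstance _ hπsurj
  rcases hK.eq_bot_or_eq_top with h | h
  · exfalso
    rw [Subgroup.map_eq_bot_iff, QuotientGroup.ker_mk'] at h
    have hk := Subgroup.card_le_of_le h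
    rw [hZ, Nat.card_zpowers, he₀ord] at hk
    have h2 : θ.ker.index ≤ 2 := by
      rw [Subgroup.index_ker]
      exact (Finite.card_subtype_le _).trans_eq (by simp)
    have := θ.ker.card_mul_index
    rw [hcard] at this
    nlinarith
  · have hz : π z ∈ θ.ker.map π := h ▸ Subgroup.mem_top _
    obtain ⟨w, hw, hwz⟩ := hz
    have hw' : w⁻¹ * z ∈ θ.ker := hZker (QuotientGroup.eq.1 hwz)
    have := θ.ker.mul_mem hw hw'
    rwa [mul_inv_cancel_left] at this

end Setup

end CfsgLib.AltNineRecog
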