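import Cfsg.Agent.AltNineRecog.Setup
import Cfsg.Agent.AltNineThree.Final

/-!
# Computed facts about the centralisers of the elements of weight one
-/

set_option autoImplicit false

namespace CfsgLib.AltNineRecog

open CfsgLib.AltNineThree (M IsE eOne eMix eAll eThree tOne tTwo gThree cls)

set_option maxRecDepth 100000
set_option synthInstance.maxHeartbeats 200000
set_option synthInstance.maxSize 1024

theorem isE_reps : IsE eOne ∧ eOne ≠ 1 ∧ IsE eMix ∧ eMix ≠ 1 ∧ IsE eAll ∧ eAll ≠ 1 ∧ IsE eThree ∧
    eThree ≠ 1 ∧ cls eThree = 1 ∧ cls eOne = 1 := by decide +kernel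

/-- Rotations of the blocks. -/
def eTwo : M := gThree * eOne * gThree⁻¹

/-- Nine elements representing the cosets of the line of `eOne`. -/
def cosetRep (p : Fin 3 × Fin 3) : M := eTwo ^ (p.1 : ℕ) * eThree ^ (p.2 : ℕ)

/-- In a coset of the line of `eOne` one element has a class of its own. -/
theorem coset_unique : ∀ j : M, IsE j → j ∉ [1, eOne, eOne * eOne] →
    ∃ t ∈ [j, j * eOne, j * (eOne * eOne)],
      (∀ u ∈ [t * eOne, t * (eOne * eOne)], cls u ≠ cls t) := by decide +kernel

theorem coset_heavy : ∀ j : M, IsE j → j ∉ [1, eOne, eOne * eOne] →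
    ∃ t ∈ [j, j * eOne, j * (eOne * eOne)], cls t = 11 ∨ cls t = 13 := by decide +kernel

theorem cent_pair : ∀ u : M, u * eOne = eOne * u → ∀ j : M, IsE j →
    j ∉ [1, eOne, eOne * eOne] → u * j = j * u → IsE u := by decide +kernel

theorem card_cent_eOne : (Finset.univ.filter fun u : M => u * eOne = eOne * u).card = 108 := by
  decide +kernel

theorem pow_reps : ∀ j : M, IsE j → ∃ k ∈ [0, 1, 2], ∃ p : Fin 3 × Fin 3,
    j = cosetRep p * eOne ^ k := by decide +kernel

/-- Two representatives with differently fused cosets. -/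
theorem two_cosets : IsE eTwo ∧ IsE (eTwo * eThree) ∧
    eTwo ∉ [1, eOne, eOne * eOne] ∧ eTwo * eThree ∉ [1, eOne, eOne * eOne] ∧
    ∀ u ∈ [eTwo * eThree, eTwo * eThree * eOne, eTwo * eThree * (eOne * eOne)],
      cls u ≠ cls eTwo := by decide +kernel

/-- The non-trivial linear character dies on an element centralising `eThree`. -/
theorem tTwo_split : ∃ k ∈ [gThree, gThree * gThree],
    (tTwo * (k * tOne * k⁻¹)) * eThree = eThree * (tTwo * (k * tOne * k⁻¹)) := by decide +kernel

theorem tOne_cent : tOne * eThree = eThree * tOne ∧ tOne * tTwo = tTwo * tOne ∧ tOne * tOne = 1 ∧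
    eMix * tTwo = tTwo * eMix ∧ eMix * eThree = eThree * eMix ∧ eThree * eThree * eThree = 1 ∧
    eMix * eMix * eMix = 1 ∧ tTwo * tTwo = 1 ∧ tOne * eMix * tOne = eMix * eMix ∧
    tTwo * eThree * tTwo = eThree * eThree ∧ gThree * gThree * gThree = 1 ∧
    eOne * eOne * eOne = 1 := by decide +kernel

theorem three_cent_eThree : ∀ u : M, u * u * u = 1 → u * eThree = eThree * u → IsE u := by
  decide +kernel

/-- An involution inverting `eThree` centralises an element outside its line. -/
theorem involution_fixes : ∀ m : M, m * m = 1 → m * eThree * m = eThree * eThree →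
    ∃ j : M, IsE j ∧ j ∉ [1, eThree, eThree * eThree] ∧ j * m = m * j := by decide +kernel

theorem stab_card : (Finset.univ.filter fun u : M =>
    u * eThree = eThree * u ∧ u * tTwo = tTwo * u).card = 6 := by decide +kernel

theorem stab_cent_eMix : ∀ u : M, u * eThree = eThree * u → u * tTwo = tTwo * u →
    u * eMix = eMix * u → u ∈ [1, eMix, eMix * eMix] := by decide +kernel

theorem commutator_line : ∀ j : M, IsE j →
    j⁻¹ * (tTwo * j * tTwo) ∈ [1, eThree, eThree * eThree] →
    ∃ k ∈ [0, 1, 2], ∃ l ∈ [0, 1, 2], j = eMix ^ k * eThree ^ l := by decide +kernel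

theorem eMix_outside : eMix ∉ [1, eThree, eThree * eThree] := by decide +kernel

end CfsgLib.AltNineRecog
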