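import Cfsg.Agent.AltNineRecog.CentSTwo
import Cfsg.Agent.LargeExtraspecial.Quotient

/-!
# The shape of the centraliser of the triple transposition

In the second case the centraliser of `s` has order 192, with an extraspecial normal subgroup of
order 32 on which `d` acts with centraliser `⟨s⟩`.
-/

set_option autoImplicit false
set_option linter.style.haveILetI false
set_option linter.unusedSectionVars false

namespace CfsgLib.AltNineRecog

open CfsgLib.AltNineThree (M IsE eOne eMix eAll eThree tOne tTwo gThree cls)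
open scoped commutatorElement Pointwise

set_option maxRecDepth 20000

universe u

namespace Setup

variable {G : Type u} [Group G] [Finite G] (c : Setup G)

namespace Klein

variable {c} {V : Subgroup G} (hV : c.Klein V)
include hV

/-- Facts about an abelian-to-be normal subgroup of order sixteen with `V` central. -/
theorem extraspecial {N : Subgroup (c.L ⧸ c.sGrp)} [hN : N.Normal] (h3 : ¬ 3 ∣ Nat.card N)
    (hUN : image c V ≤ N) (h16 : Nat.card N = 16)
    (hcl : ∀ a ∈ N, ∀ b ∈ N, ∀ e ∈ N, e * ⁅a, b⁆ = ⁅a, b⁆ * e)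
    (hcen : ∀ n ∈ N, ∀ u ∈ image c V, n * u = u * n)
    (hindex : N.index = 6) : c.CentShape := by
  classical
  haveI : Fact (Nat.Prime 2) := ⟨Nat.prime_two⟩
  have hS := hV.six
  set U := image c V with hU
  set UN := U.subgroupOf N with hUN'
  haveI : UN.Normal := ⟨fun u hu n => by
    rw [hUN', Subgroup.mem_subgroupOf] at hu ⊢
    simp only [Subgroup.coe_mul, Subgroup.coe_inv]
    rw [hcen _ n.2 _ hu, mul_inv_cancel_right]
    exact hu⟩
  have hUN4 : Nat.card UN = 4 := by
    rw [hUN', Nat.card_congr (Subgroup.subgroupOfEquivOfLe hUN).toEquiv, hV.card_image]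
  have hidx4 : UN.index = 4 := by
    have := UN.card_mul_index
    rw [hUN4, h16] at this
    omega
  have hdinv : ∀ {q}, q ∈ N → c.dY * q * c.dY⁻¹ ∈ N := fun hq => hN.conj_mem _ hq _
  -- `d` fixes only `U` modulo `U`
  have hfix : ∀ a ∈ N, a⁻¹ * (c.dY * a * c.dY⁻¹) ∈ U → a ∈ U := by
    intro a ha h
    obtain ⟨w, hw, hwe⟩ := hV.exists_comm_d (U.inv_mem h)
    have hfixed : a * w = 1 := by
      refine c.eq_one_of_fixed hS h3 (N.mul_mem ha (hUN hw)) ?_
      have e1 : c.dY * w * c.dY⁻¹ = (a⁻¹ * (c.dY * a * c.dY⁻¹))⁻¹ * w := by rw [← hwe]; group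
      calc c.dY * (a * w) * c.dY⁻¹ = c.dY * a * c.dY⁻¹ * (c.dY * w * c.dY⁻¹) := by group
        _ = a * w := by rw [e1]; group
    rw [eq_inv_of_mul_eq_one_left hfixed]
    exact U.inv_mem hw
  have hUd : ∀ {u}, u ∈ U → c.dY * u * c.dY⁻¹ ∈ U := fun hu => hV.image_conj_d hu
  have hd3 : ∀ a, c.dY * (c.dY * (c.dY * a * c.dY⁻¹) * c.dY⁻¹) * c.dY⁻¹ = a := fun a => by
    calc _ = c.dY ^ 3 * a * (c.dY ^ 3)⁻¹ := by simp only [pow_succ, pow_zero, one_mul]; group
      _ = a := by rw [c.dY_cube]; group
  -- the four cosets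
  have hcover : ∀ a ∈ N, a ∉ U → ∀ b ∈ N, ∃ u ∈ U, b = u ∨ b = a * u ∨
      b = c.dY * a * c.dY⁻¹ * u ∨ b = a * (c.dY * a * c.dY⁻¹) * u := by
    intro a ha haU b hb
    set a' := c.dY * a * c.dY⁻¹
    have ha' : a' ∈ N := hdinv ha
    have mk : ∀ (x : c.L ⧸ c.sGrp) (hx : x ∈ N) (y : c.L ⧸ c.sGrp) (hy : y ∈ N),
        ((⟨x, hx⟩ : N) : N ⧸ UN) = (⟨y, hy⟩ : N) ↔ x⁻¹ * y ∈ U := fun x hx y hy => by
      rw [QuotientGroup.eq, hUN', Subgroup.mem_subgroupOf]; rfl
    have ha'U : a' ∉ U := fun h => haU (by
      have := hUd (hUd h)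
      rwa [show c.dY * (c.dY * a' * c.dY⁻¹) * c.dY⁻¹ = a from hd3 a] at this)
    have h01 : (1 : c.L ⧸ c.sGrp)⁻¹ * a ∉ U := by simpa using haU
    have h02 : (1 : c.L ⧸ c.sGrp)⁻¹ * a' ∉ U := by simpa using ha'U
    have h12 : a⁻¹ * a' ∉ U := fun h => haU (hfix a ha h)
    have h03 : (1 : c.L ⧸ c.sGrp)⁻¹ * (a * a') ∉ U := by
      intro h
      rw [inv_one, one_mul] at h
      -- then `a'` is `a⁻¹` modulo `U`, and applying `d` twice fixes the coset of `a`
      have h' := hUd h
      rw [show c.dY * (a * a') * c.dY⁻¹ = a' * (c.dY * a' * c.dY⁻¹) by simp only [a']; group] at h'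
      set a'' := c.dY * a' * c.dY⁻¹
      have h4 : a⁻¹ * a'' ∈ U := by
        have ha'a : a' * a ∈ U := by
          rw [show a' * a = a⁻¹ * (a * a' * a) by group, ← hcen a ha _ h, inv_mul_cancel_left]
          exact h
        rw [show a⁻¹ * a'' = (a' * a)⁻¹ * (a' * a'') by group]
        exact U.mul_mem (U.inv_mem ha'a) h'
      refine haU (hfix a ha ?_)
      have h5 := U.inv_mem (hUd h4)
      rwa [show (c.dY * (a⁻¹ * a'') * c.dY⁻¹)⁻¹ = (c.dY * a'' * c.dY⁻¹)⁻¹ * a' by
        simp only [a']; group, show c.dY * a'' * c.dY⁻¹ = a from hd3 a] at h5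
    have h13 : a⁻¹ * (a * a') ∉ U := by simpa using ha'U
    have h23 : a'⁻¹ * (a * a') ∉ U := fun h => haU (by
      have hc := hcen a' ha' _ h
      have : a = a' * (a'⁻¹ * (a * a')) * a'⁻¹ := by group
      rw [this, hc, mul_inv_cancel_right]; exact h)
    haveI : Fintype (N ⧸ UN) := Fintype.ofFinite _
    have hc4 : Fintype.card (N ⧸ UN) = 4 := by
      rw [← Nat.card_eq_fintype_card, ← Subgroup.index_eq_card, hidx4]
    by_contra hcon
    push Not at hcon
    have hb0 : (1 : c.L ⧸ c.sGrp)⁻¹ * b ∉ U := fun h => (hcon _ h).1 (by group)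
    have hb1 : a⁻¹ * b ∉ U := fun h => (hcon _ h).2.1 (by group)
    have hb2 : a'⁻¹ * b ∉ U := fun h => (hcon _ h).2.2.1 (by group)
    have hb3 : (a * a')⁻¹ * b ∉ U := fun h => (hcon _ h).2.2.2 (by group)
    let s5 : Finset (N ⧸ UN) := {((1 : N) : N ⧸ UN), ((⟨a, ha⟩ : N) : N ⧸ UN),
      ((⟨a', ha'⟩ : N) : N ⧸ UN), ((⟨a * a', N.mul_mem ha ha'⟩ : N) : N ⧸ UN),
      ((⟨b, hb⟩ : N) : N ⧸ UN)}
    have h5 : s5.card ≤ 4 := hc4 ▸ Finset.card_le_univ s5
    have : s5.card = 5 := by
      simp only [s5]
      rw [Finset.card_insert_of_notMem, Finset.card_insert_of_notMem, Finset.card_insert_of_notMem,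
        Finset.card_insert_of_notMem, Finset.card_singleton] <;>
        simp only [Finset.mem_insert, Finset.mem_singleton, not_or] <;>
        refine ?_
      · exact fun e => hb3 ((mk _ _ _ _).1 e)
      · exact ⟨fun e => h23 ((mk _ _ _ _).1 e), fun e => hb2 ((mk _ _ _ _).1 e)⟩
      · exact ⟨fun e => h12 ((mk _ _ _ _).1 e), fun e => h13 ((mk _ _ _ _).1 e),
          fun e => hb1 ((mk _ _ _ _).1 e)⟩
      · exact ⟨fun e => h01 ((mk 1 (one_mem _) _ _).1 e), fun e => h02 ((mk 1 (one_mem _) _ _).1 e),
          fun e => h03 ((mk 1 (one_mem _) _ _).1 e), fun e => hb0 ((mk 1 (one_mem _) _ _).1 e)⟩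
    omega
  -- `N` is abelian
  have hcc : ∀ a ∈ N, ∀ b ∈ N, a * b = b * a := by
    intro a ha b hb
    by_contra hne
    set Z := N ⊓ Subgroup.centralizer (N : Set (c.L ⧸ c.sGrp)) with hZ
    have memZ : ∀ {z}, z ∈ Z ↔ z ∈ N ∧ ∀ n ∈ N, n * z = z * n := by
      intro z; rw [hZ, Subgroup.mem_inf, Subgroup.mem_centralizer_iff]; rfl
    have hUZ : U ≤ Z := fun u hu => memZ.2 ⟨hUN hu, fun n hn => hcen n hn u hu⟩
    have hZinv : ∀ z ∈ Z, c.dY * z * c.dY⁻¹ ∈ Z := by
      intro z hz
      obtain ⟨hzN, hzc⟩ := memZ.1 hz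
      refine memZ.2 ⟨hdinv hzN, fun n hn => ?_⟩
      have hn' : c.dY⁻¹ * n * c.dY ∈ N := by simpa using hN.conj_mem n hn c.dY⁻¹
      calc n * (c.dY * z * c.dY⁻¹) = c.dY * (c.dY⁻¹ * n * c.dY * z) * c.dY⁻¹ := by group
        _ = _ := by rw [hzc _ hn']; group
    have hZU : Z = U := by
      refine (Subgroup.eq_of_le_of_card_ge hUZ ?_).symm
      rw [hV.card_image]
      have hm : Nat.card Z % 3 = 1 :=
        c.mod_three hS (fun h => h3 (h.trans (Subgroup.card_dvd_of_le inf_le_left))) hZinv
      have hd : Nat.card Z ∣ 2 ^ 4 := by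
        have h := Subgroup.card_dvd_of_le (inf_le_left : Z ≤ N)
        rw [h16] at h
        exact h
      obtain ⟨k, hk4, hk⟩ := (Nat.dvd_prime_pow Nat.prime_two).1 hd
      rw [hk] at hm ⊢
      have hlt : k ≠ 4 := fun e => hne (by
        have heq := Subgroup.eq_of_le_of_card_ge (inf_le_left : Z ≤ N) (by rw [hk, h16, e]; norm_num)
        exact ((memZ.1 (show a ∈ Z by rw [hZ, heq]; exact ha)).2 b hb).symm)
      interval_cases k <;> first | omega | norm_num at hm | norm_num
    have haU : a ∉ U := fun h => hne ((hcen b hb a h).symm)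
    set a' := c.dY * a * c.dY⁻¹
    have ha' : a' ∈ N := hdinv ha
    have ha'U : a' ∉ U := fun h => haU (by
      have := hUd (hUd h)
      rwa [show c.dY * (c.dY * a' * c.dY⁻¹) * c.dY⁻¹ = a from hd3 a] at this)
    -- the commutator of `a` and `a'` is inverted by `d`
    set z := ⁅a, a'⁆ with hz
    have hzU : z ∈ U := by
      rw [← hZU]
      exact memZ.2 ⟨N.mul_mem (N.mul_mem (N.mul_mem ha ha') (N.inv_mem ha)) (N.inv_mem ha'),
        hcl a ha a' ha'⟩
    obtain ⟨u, hu, hcases⟩ := hcover a ha haU _ (hdinv ha')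
    have hu' := hcen _ ha u hu
    have hu'' := hcen _ ha' u hu
    have ha'' : c.dY * a' * c.dY⁻¹ = a * a' * u := by
      rcases hcases with e | e | e | e
      · exact absurd (by
          have := hUd (e ▸ hu : c.dY * a' * c.dY⁻¹ ∈ U)
          rwa [hd3 a] at this) haU
      · exfalso
        refine haU (hfix a ha ?_)
        have h5 : c.dY * (a * u) * c.dY⁻¹ = a := by rw [← e]; exact hd3 a
        have h6 : a' = a * (c.dY * u * c.dY⁻¹)⁻¹ := by
          calc a' = c.dY * (a * u) * c.dY⁻¹ * (c.dY * u * c.dY⁻¹)⁻¹ := by simp only [a']; group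
            _ = _ := by rw [h5]
        show a⁻¹ * a' ∈ U
        rw [h6, inv_mul_cancel_left]; exact U.inv_mem (hUd hu)
      · exfalso
        refine ha'U (hfix a' ha' ?_)
        rw [e]
        show a'⁻¹ * (a' * u) ∈ U
        rw [inv_mul_cancel_left]; exact hu
      · exact e
    have hzd : c.dY * z * c.dY⁻¹ = z⁻¹ := by
      rw [hz, commutatorElement_def]
      calc c.dY * (a * a' * a⁻¹ * a'⁻¹) * c.dY⁻¹
          = a' * (c.dY * a' * c.dY⁻¹) * a'⁻¹ * (c.dY * a' * c.dY⁻¹)⁻¹ := by simp only [a']; group
        _ = a' * (a * a') * (u * a'⁻¹ * u⁻¹) * a'⁻¹ * a⁻¹ := by rw [ha'']; group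
        _ = _ := by
          rw [(show Commute u a'⁻¹ from (show Commute a' u from hu'').symm.inv_right).eq,
            mul_inv_cancel_right]
          group
    have hz1 : z = 1 := by
      refine hV.image_free hzU ?_
      rw [hzd, inv_eq_of_mul_eq_one_right (hV.image_sq hzU)]
    have hcomm : a * a' = a' * a := commutatorElement_eq_one_iff_mul_comm.1 hz1
    obtain ⟨w, hw, hb'⟩ := hcover a ha haU b hb
    have hw' : Commute a w := hcen a ha w hw
    rcases hb' with e | e | e | e <;> subst e <;> refine hne ?_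
    · exact hw'.eq
    · exact ((Commute.refl a).mul_right hw').eq
    · exact ((show Commute a a' from hcomm).mul_right hw').eq
    · exact (((Commute.refl a).mul_right (show Commute a a' from hcomm)).mul_right hw').eq
  -- the preimage
  set P := N.comap c.pr with hP
  have hcomm : ∀ x ∈ P, ∀ y ∈ P, ((x * y : c.L) : G) = y * x ∨
      ((x * y : c.L) : G) = y * x * c.s := by
    intro x hx y hy
    have h := hcc _ hx _ hy
    rw [← map_mul, ← map_mul, eq_comm] at h
    rcases c.pr_eq_iff.1 h with e | e <;> simp only [Subgroup.coe_mul] at e ⊢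
    · exact Or.inl e
    · exact Or.inr e
  -- an element commuting with `v` and its conjugate is in `V ∪ V s`
  have htwo : ∀ (x : c.L) (v : G), v ∈ V → v ≠ 1 → (x : G) * v = v * x →
      (x : G) * (c.d * v * c.d⁻¹) = c.d * v * c.d⁻¹ * x → c.pr x ∈ U := by
    intro x v hv hv1 h1 h2
    exact hV.pr_mem_image (hV.comm_all hv (hV.conj_d v hv) hv1 (fun e => hv1 (conj_eq_one_iff.1 e))
      (fun e => hv1 (hV.free v hv (mul_inv_eq_iff_eq_mul.1 e.symm).symm)) h1 h2)
  have hsq : ∀ x ∈ P, c.pr x * c.pr x = 1 := by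
    intro x hx
    by_cases hxU : c.pr x ∈ U
    · exact hV.image_sq hxU
    -- squares lie in `U`
    have hsqU : ∀ b ∈ N, b * b ∈ U := by
      intro b hb
      by_contra hbb
      have h4 : b * b * (b * b) ∈ U := by
        have := Subgroup.pow_index_mem UN (⟨b, hb⟩ : N)
        rw [hidx4, hUN', Subgroup.mem_subgroupOf] at this
        simpa [pow_succ, mul_assoc] using this
      have hbU : b ∉ U := fun h => hbb (U.mul_mem h h)
      set b' := c.dY * b * c.dY⁻¹
      have hb' : b' ∈ N := hdinv hb
      have hback : ∀ y, c.dY * y * c.dY⁻¹ ∈ U → y ∈ U := fun y hy => by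
        have := hUd (hUd hy)
        rwa [hd3 y] at this
      obtain ⟨u, hu, e | e | e | e⟩ := hcover b hb hbU _ (N.mul_mem hb hb)
      · exact hbb (e ▸ hu)
      · exact hbU (mul_left_cancel e ▸ hu)
      · refine hbb (hback _ ?_)
        have hb'2 : b' * b' ∈ U := by
          have e2 : b * b * (b * b) = b' * b' * (u * u) := by
            rw [e]
            exact (show Commute u b' from (hcen b' hb' u hu).symm).mul_mul_mul_comm b' u
          rw [e2, hV.image_sq hu, mul_one] at h4
          exact h4
        rwa [show c.dY * (b * b) * c.dY⁻¹ = b' * b' by simp only [b']; group]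
      · refine hbU (hfix b hb ?_)
        show b⁻¹ * b' ∈ U
        have h6 : b = b' * u := mul_left_cancel (e.trans (mul_assoc b b' u))
        rw [show b' = b * u⁻¹ by rw [h6]; group, inv_mul_cancel_left]
        exact U.inv_mem hu
    obtain ⟨v, hv, hve⟩ := hV.mem_image.1 (hsqU _ hx)
    by_cases hv1 : (v : G) = 1
    · rw [← hve, show v = 1 from Subtype.ext hv1, map_one]
    exfalso
    -- `x` and its conjugate centralise their squares
    have hsq' : ∀ y ∈ P, (y : G) * ((x : G) * x) = (x : G) * x * y := by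
      intro y hy
      have hes : c.s * (x : G) = x * c.s := (c.comm_s x).symm
      rcases hcomm y hy x hx with e | e <;> simp only [Subgroup.coe_mul] at e
      · exact ((show Commute (y : G) x from e).mul_right e).eq
      · calc (y : G) * ((x : G) * x) = (y : G) * x * x := by group
          _ = x * ((y : G) * (c.s * x)) := by rw [e]; group
          _ = x * ((y : G) * x) * c.s := by rw [hes]; group
          _ = _ := by rw [e]; simp only [mul_assoc, c.s_sq, mul_one]
    have hcv : ∀ y ∈ P, (y : G) * v = v * y := by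
      intro y hy
      have h := hsq' y hy
      rw [← map_mul] at hve
      rcases c.pr_eq_iff.1 hve with e | e <;> rw [Subgroup.coe_mul] at e <;> rw [e] at h
      · exact h
      · calc (y : G) * v = (y : G) * ((v : G) * c.s) * c.s := by
              rw [mul_assoc, mul_assoc (v : G), c.s_sq, mul_one]
          _ = v * (c.s * ((y : G) * c.s)) := by rw [h]; group
          _ = v * y := by rw [c.comm_s y, ← mul_assoc c.s c.s, c.s_sq, one_mul]
    have hx' : c.dL * x * c.dL⁻¹ ∈ P := by
      rw [hP, Subgroup.mem_comap, map_mul, map_mul, map_inv]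
      exact hdinv hx
    have h1 := hcv _ hx'
    have h2 := hcv x hx
    refine hxU ?_
    have hxU' : c.pr (c.dL * x * c.dL⁻¹) ∈ U := by
      refine htwo _ v hv hv1 h1 ?_
      simp only [Subgroup.coe_mul, Subgroup.coe_inv, dL]
      calc c.d * (x : G) * c.d⁻¹ * (c.d * v * c.d⁻¹) = c.d * ((x : G) * v) * c.d⁻¹ := by group
        _ = _ := by rw [h2]; group
    rw [map_mul, map_mul, map_inv] at hxU'
    have := hUd (hUd hxU')
    rwa [show c.pr c.dL = c.dY from rfl, hd3] at this
  -- assembly
  have hPcard : Nat.card P = 32 := by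
    have : Nat.card P = Nat.card c.sGrp * Nat.card N :=
      QuotientGroup.card_preimage_mk c.sGrp (N : Set (c.L ⧸ c.sGrp))
    rw [this, c.card_sGrp, h16]
  set Q := P.map c.L.subtype with hQ
  have hQcard : Nat.card Q = 32 := by
    rw [hQ, Subgroup.card_map_of_injective c.L.subtype_injective, hPcard]
  have hsQ : c.s ∈ Q := ⟨c.sL, by
    show c.pr c.sL ∈ N
    rw [c.pr_eq_one_iff.2 (Or.inr rfl)]; exact one_mem _, rfl⟩
  refine ⟨Q, ?_, hsQ, hQcard, ?_, ?_, ?_, ?_⟩
  · rintro _ ⟨x, -, rfl⟩; exact x.2
  · show Nat.card c.L = 192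
    have := N.card_mul_index
    rw [h16, hindex] at this
    rw [c.card_L, ← this]
  · rintro l hl _ ⟨x, hx, rfl⟩
    refine ⟨⟨l, hl⟩ * x * ⟨l, hl⟩⁻¹, ?_, rfl⟩
    show c.pr _ ∈ N
    rw [map_mul, map_mul, map_inv]
    exact hN.conj_mem _ hx _
  · refine (CfsgLib.LargeExtraspecial.isExtraspecial_of_props (T := Q) (z := c.s)
      (IsPGroup.of_card (n := 5) (by rw [hQcard]; norm_num))
      (orderOf_eq_prime (by rw [pow_two, c.s_sq]) c.s_ne) hsQ ?_ ?_ ?_ ?_ ?_).1
    · rintro _ ⟨x, -, rfl⟩
      exact c.comm_s x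
    · rintro _ ⟨x, hx, rfl⟩
      have h := hsq x hx
      rw [← map_mul, c.pr_eq_one_iff] at h
      simpa using h
    · rintro _ ⟨x, hx, rfl⟩ _ ⟨y, hy, rfl⟩
      simp only [Subgroup.coe_subtype]
      rcases hcomm x hx y hy with e | e <;> simp only [Subgroup.coe_mul] at e
      · left; rw [e]; group
      · right
        rw [e, mul_assoc ((y : G) * x) c.s, ← ((show Commute (x : G) c.s from c.comm_s x).inv_left).eq]
        rw [← mul_assoc, mul_inv_cancel_right, mul_assoc, ← ((show Commute (y : G) c.s from c.comm_s y).inv_left).eq,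
          ← mul_assoc, mul_inv_cancel, one_mul]
    · rintro _ ⟨x, hx, rfl⟩ h
      simp only [Subgroup.coe_subtype] at h ⊢
      have hVP : ∀ v ∈ V, ∃ y ∈ P, ((y : c.L) : G) = v := fun v hv =>
        ⟨⟨v, hV.le_L hv⟩, hUN (hV.mem_image.2 ⟨_, hv, rfl⟩), rfl⟩
      have hxU : c.pr x ∈ U := hV.pr_mem_image fun v hv => by
        obtain ⟨y, hy, e⟩ := hVP v hv
        rw [← e]; exact (h _ ⟨y, hy, rfl⟩).symm
      obtain ⟨v, hv, hve⟩ := hV.mem_image.1 hxU
      have hxv : ∀ y ∈ P, (y : G) * v = v * y := fun y hy => by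
        have hyx : (y : G) * x = x * y := h _ ⟨y, hy, rfl⟩
        rcases c.pr_eq_iff.1 hve with e | e
        · rw [← e]; exact hyx
        · rw [show (v : G) = x * c.s by rw [e, mul_assoc, c.s_sq, mul_one]]
          exact ((show Commute (y : G) x from hyx).mul_right (c.comm_s y)).eq
      by_cases hv1 : (v : G) = 1
      · rcases c.pr_eq_iff.1 hve with e | e <;> rw [hv1] at e
        · exact Or.inl e
        · exact Or.inr (e.trans (one_mul _))
      exfalso
      -- then `V` is central in `Q`
      have hle : N ≤ U := by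
        intro n hn
        obtain ⟨y, rfl⟩ := c.pr_surjective n
        refine htwo y v hv hv1 (hxv y hn) ?_
        have hy' : c.dL⁻¹ * y * c.dL ∈ P := by
          rw [hP, Subgroup.mem_comap, map_mul, map_mul, map_inv]
          simpa using hN.conj_mem _ hn (c.pr c.dL)⁻¹
        have h1 := hxv _ hy'
        simp only [Subgroup.coe_mul, Subgroup.coe_inv, dL] at h1
        calc (y : G) * (c.d * v * c.d⁻¹) = c.d * (c.d⁻¹ * y * c.d * v) * c.d⁻¹ := by group
          _ = _ := by rw [h1]; group
      have h5 := Subgroup.card_le_of_le hle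
      rw [h16, hV.card_image] at h5
      omega
    · by_contra hne
      push Not at hne
      have hle : N ≤ U := by
        intro n hn
        obtain ⟨y, rfl⟩ := c.pr_surjective n
        refine hV.pr_mem_image fun v hv => ?_
        exact hne _ ⟨y, hn, rfl⟩ _ ⟨⟨v, hV.le_L hv⟩, hUN (hV.mem_image.2 ⟨_, hv, rfl⟩), rfl⟩
      have h5 := Subgroup.card_le_of_le hle
      rw [h16, hV.card_image] at h5
      omega
  · rintro _ ⟨x, hx, rfl⟩ hxd
    simp only [Subgroup.coe_subtype] at hxd ⊢
    refine c.pr_eq_one_iff.1 (c.eq_one_of_fixed hS h3 hx ?_)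
    rw [show c.dY = c.pr c.dL from rfl, ← map_mul, ← map_inv, ← map_mul]
    refine congrArg c.pr (Subtype.ext ?_)
    simp only [Subgroup.coe_mul, Subgroup.coe_inv, dL]
    rw [← hxd, mul_inv_cancel_right]

/-- The quotient has no elementary normal subgroup of index sixty with simple quotient. -/
theorem not_sixty {N : Subgroup (c.L ⧸ c.sGrp)} [hN : N.Normal] (hc : IsMulCommutative N)
    (he : ∀ n ∈ N, n ^ 2 = 1) (hidx : N.index = 60) (hs : IsSimpleGroup ((c.L ⧸ c.sGrp) ⧸ N)) :
    False := by
  classical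
  haveI : Fact (Nat.Prime 2) := ⟨Nat.prime_two⟩
  haveI : Fact (Nat.Prime 3) := ⟨Nat.prime_three⟩
  haveI : Fact (Nat.Prime 5) := ⟨by norm_num⟩
  have hS := hV.six
  set U := image c V with hU
  set C := Subgroup.centralizer (U : Set (c.L ⧸ c.sGrp)) with hC
  have h3 : ¬ 3 ∣ Nat.card N := by
    intro h
    obtain ⟨t, ht⟩ := exists_prime_orderOf_dvd_card' (G := N) 3 h
    have h2 := orderOf_dvd_of_pow_eq_one
      (show t ^ 2 = 1 from Subtype.ext (by simpa using he t t.2))
    rw [ht] at h2
    norm_num at h2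
  have h2 : IsPGroup 2 N := fun n => ⟨1, Subtype.ext (by simpa using he n n.2)⟩
  obtain ⟨k, hk⟩ := IsPGroup.iff_card.1 h2
  -- the four-group lies in `N`
  have hUN : U ≤ N := by
    by_contra hnot
    have hUN1 : ∀ u ∈ U, u ∈ N → u = 1 := by
      intro u hu huN
      by_contra hu1
      refine hnot fun w hw => ?_
      obtain ⟨v, hv, rfl⟩ := hV.mem_image.1 hu
      obtain ⟨w', hw', rfl⟩ := hV.mem_image.1 hw
      have hv1 : (v : G) ≠ 1 := fun e => hu1 (by rw [show v = 1 from Subtype.ext e, map_one])
      have h1 : c.pr (c.dL * v * c.dL⁻¹) ∈ N := by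
        rw [map_mul, map_mul, map_inv]; exact hN.conj_mem _ huN _
      have h2 : c.pr (c.dL * (c.dL * v * c.dL⁻¹) * c.dL⁻¹) ∈ N := by
        rw [map_mul, map_mul, map_inv]; exact hN.conj_mem _ h1 _
      rcases hV.d_orbit hv hv1 hw' with e | e | e | e
      · rw [show w' = 1 from Subtype.ext e, map_one]; exact one_mem _
      · rw [show w' = v from Subtype.ext e]; exact huN
      · rw [show w' = c.dL * v * c.dL⁻¹ from Subtype.ext e]; exact h1
      · rw [show w' = c.dL * (c.dL * v * c.dL⁻¹) * c.dL⁻¹ from Subtype.ext e]; exact h2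
    set π := QuotientGroup.mk' N with hπ
    set X := (U ⊔ Subgroup.zpowers c.dY).map π with hX
    have hdN : Subgroup.zpowers c.dY ≤ Subgroup.normalizer (U : Set (c.L ⧸ c.sGrp)) := by
      refine Subgroup.zpowers_le.2 (Subgroup.mem_normalizer_iff.2 fun y =>
        ⟨fun hy => hV.image_conj_d hy, fun hy => ?_⟩)
      have := hV.image_conj_d (hV.image_conj_d hy)
      rwa [show c.dY * (c.dY * (c.dY * y * c.dY⁻¹) * c.dY⁻¹) * c.dY⁻¹ =
          c.dY ^ 3 * y * (c.dY ^ 3)⁻¹ by simp only [pow_succ, pow_zero, one_mul]; group,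
        c.dY_cube, one_mul, inv_one, mul_one] at this
    have memX : ∀ {q}, q ∈ U ⊔ Subgroup.zpowers c.dY ↔
        ∃ u ∈ U, ∃ j : ℕ, q = u * c.dY ^ j := by
      intro q
      constructor
      · intro hq
        have hq' : q ∈ (U : Set (c.L ⧸ c.sGrp)) *
            (Subgroup.zpowers c.dY : Set (c.L ⧸ c.sGrp)) := by
          rw [← Subgroup.coe_mul_of_right_le_normalizer_left _ _ hdN]; exact hq
        obtain ⟨a, ha, b, hb, rfl⟩ := Set.mem_mul.1 hq'
        obtain ⟨j, hj⟩ := (mem_powers_iff_mem_zpowers (x := c.dY)).2 hb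
        exact ⟨a, ha, j, by rw [← show c.dY ^ j = b from hj]⟩
      · rintro ⟨u, hu, j, rfl⟩
        exact Subgroup.mul_mem_sup hu (pow_mem (Subgroup.mem_zpowers _) j)
    have hdX : π c.dY ∈ X := ⟨_, Subgroup.mem_sup_right (Subgroup.mem_zpowers _), rfl⟩
    have hord : orderOf (π c.dY) = 3 := by
      refine orderOf_eq_prime ?_ ?_
      · rw [← map_pow, c.dY_cube, map_one]
      · intro h
        have h' : c.dY ∈ N := (QuotientGroup.eq_one_iff _).1 h
        exact h3 ((c.hyp_Y hS).order ▸ Subgroup.orderOf_dvd_natCard N h')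
    have h12 : 12 ∣ Nat.card X := by
      have h4 : 4 ∣ Nat.card X := by
        have hinj : Function.Injective fun u : U => (⟨π u, u, Subgroup.mem_sup_left u.2, rfl⟩ : X) := by
          intro a b h
          have h' : π (a : c.L ⧸ c.sGrp) = π b := congrArg Subtype.val h
          have := hUN1 _ (U.mul_mem (U.inv_mem a.2) b.2) (QuotientGroup.eq.1 h')
          exact Subtype.ext (inv_mul_eq_one.1 this)
        have hle : U.map π ≤ X := Subgroup.map_mono le_sup_left
        have hc4 : Nat.card (U.map π) = 4 := by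
          rw [← hV.card_image]
          refine (Nat.card_eq_of_bijective (fun u : U => (⟨π u, u, u.2, rfl⟩ : U.map π))
            ⟨fun a b h => hinj (Subtype.ext (congrArg (fun x : U.map π => (x : (c.L ⧸ c.sGrp) ⧸ N)) h)),
              ?_⟩).symm
          rintro ⟨_, u, hu, rfl⟩
          exact ⟨⟨u, hu⟩, rfl⟩
        exact hc4 ▸ Subgroup.card_dvd_of_le hle
      have h3' : 3 ∣ Nat.card X := hord ▸ Subgroup.orderOf_dvd_natCard X hdX
      exact (show Nat.Coprime 4 3 by norm_num).mul_dvd_of_dvd_of_dvd h4 h3'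
    have hle12 : Nat.card X ≤ 12 := by
      let f : U × Fin 3 → X := fun p =>
        ⟨π ((p.1 : c.L ⧸ c.sGrp) * c.dY ^ (p.2 : ℕ)), _, memX.2 ⟨p.1, p.1.2, p.2, rfl⟩, rfl⟩
      have hf : Function.Surjective f := by
        rintro ⟨_, q, hq, rfl⟩
        obtain ⟨u, hu, j, rfl⟩ := memX.1 hq
        exact ⟨(⟨u, hu⟩, ⟨j % 3, Nat.mod_lt _ (by norm_num)⟩), Subtype.ext (by
          simp only [f]; rw [← pow_eq_pow_mod j c.dY_cube])⟩
      have := Nat.card_le_card_of_surjective f hf
      rwa [Nat.card_prod, hV.card_image, Nat.card_eq_fintype_card (α := Fin 3),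
        Fintype.card_fin] at this
    have hiX : π c.iY ∉ X := by
      rintro ⟨q, hq, hqe⟩
      obtain ⟨u, hu, j, rfl⟩ := memX.1 hq
      obtain ⟨w, hw, hwe⟩ := hV.exists_comm_d hu
      have hdc : Commute (c.dY ^ j) c.dY := (Commute.refl c.dY).pow_left j
      have h1 : π (c.dY * c.dY) = π (u * c.dY * u⁻¹) := by
        rw [← c.iY_conj_dY, map_mul, map_mul, map_inv, ← hqe, ← map_inv, ← map_mul, ← map_mul]
        refine congrArg π ?_
        calc u * c.dY ^ j * c.dY * (u * c.dY ^ j)⁻¹ = u * (c.dY ^ j * c.dY) * (c.dY ^ j)⁻¹ * u⁻¹ := by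
              group
          _ = _ := by rw [hdc.eq]; group
      have h2 : c.dY⁻¹ * (c.dY * c.dY)⁻¹ * (u * c.dY * u⁻¹) * c.dY ∈ N := by
        have := hN.conj_mem _ (QuotientGroup.eq.1 h1) c.dY⁻¹
        simpa [mul_assoc] using this
      -- so `d` lies in `U N`
      have h3' : π c.dY ∈ U.map π := by
        have e : π (c.dY * c.dY) = π u * π c.dY * (π u)⁻¹ := by
          rw [h1, map_mul, map_mul, map_inv]
        rw [map_mul] at e
        refine ⟨u * (c.dY * u⁻¹ * c.dY⁻¹), U.mul_mem hu (hV.image_conj_d (U.inv_mem hu)), ?_⟩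
        calc π (u * (c.dY * u⁻¹ * c.dY⁻¹)) = π u * π c.dY * (π u)⁻¹ * (π c.dY)⁻¹ := by
              simp only [map_mul, map_inv]; group
          _ = π c.dY := by rw [← e]; group
      obtain ⟨v, hv, hve⟩ := h3'
      have hv2 : π v * π v = 1 := by rw [← map_mul, hV.image_sq hv, map_one]
      rw [hve] at hv2
      have := orderOf_dvd_of_pow_eq_one (show (π c.dY) ^ 2 = 1 by rw [pow_two]; exact hv2)
      rw [hord] at this
      norm_num at this
    have hiN : π c.iY ∈ Subgroup.normalizer (X : Set ((c.L ⧸ c.sGrp) ⧸ N)) := by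
      have hmem : ∀ q ∈ U ⊔ Subgroup.zpowers c.dY,
          c.iY * q * c.iY⁻¹ ∈ U ⊔ Subgroup.zpowers c.dY := by
        intro q hq
        obtain ⟨u, hu, j, rfl⟩ := memX.1 hq
        refine memX.2 ⟨_, hV.image_conj_i hu, 2 * j, ?_⟩
        rw [pow_mul, pow_two, ← c.iY_conj_dY, conj_pow]; group
      have hinv2 : c.iY * c.iY = 1 := by
        rw [iY, ← map_mul, show c.iL * c.iL = 1 from Subtype.ext c.i_sq, map_one]
      refine Subgroup.mem_normalizer_iff.2 fun y => ⟨?_, ?_⟩
      · rintro ⟨q, hq, rfl⟩
        exact ⟨_, hmem q hq, by rw [map_mul, map_mul, map_inv]⟩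
      · rintro ⟨q, hq, hqe⟩
        refine ⟨_, hmem q hq, ?_⟩
        rw [map_mul, map_mul, map_inv, hqe]
        calc π c.iY * (π c.iY * y * (π c.iY)⁻¹) * (π c.iY)⁻¹
            = π c.iY * π c.iY * y * (π c.iY * π c.iY)⁻¹ := by group
          _ = y := by rw [← map_mul, hinv2, map_one]; group
    have hlt : X < Subgroup.normalizer (X : Set ((c.L ⧸ c.sGrp) ⧸ N)) :=
      lt_of_le_of_ne Subgroup.le_normalizer fun e => hiX (by rw [e]; exact hiN)
    have hq60 : Nat.card ((c.L ⧸ c.sGrp) ⧸ N) = 60 := by rw [← Subgroup.index_eq_card, hidx]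
    set K := Subgroup.normalizer (X : Set ((c.L ⧸ c.sGrp) ⧸ N))
    have hK60 : Nat.card K = 60 := by
      have hd1 := Subgroup.card_dvd_of_le hlt.le
      have hd2 := K.card_subgroup_dvd_card
      rw [hq60] at hd2
      have hX12 : Nat.card X = 12 := le_antisymm hle12 (Nat.le_of_dvd Nat.card_pos h12)
      rw [hX12] at hd1
      have hne : Nat.card K ≠ 12 := fun e => hlt.ne
        (Subgroup.eq_of_le_of_card_ge hlt.le (by rw [e, hX12]))
      obtain ⟨r, hr⟩ := hd1
      rw [hr] at hd2 hne ⊢
      have : r ≤ 5 := by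
        have := Nat.le_of_dvd (by norm_num) hd2
        omega
      interval_cases r <;> first | omega | norm_num at hd2 | norm_num
    have htop : K = ⊤ := Subgroup.eq_top_of_card_eq _ (by rw [hK60, hq60])
    haveI : X.Normal := Subgroup.normalizer_eq_top_iff.1 htop
    rcases hs.eq_bot_or_eq_top_of_normal X inferInstance with e | e
    · rw [e, Subgroup.card_bot] at h12; norm_num at h12
    · rw [e, Subgroup.card_top, hq60] at hle12; omega
  -- so `N` centralises it
  have hNC : N ≤ C := fun n hn => Subgroup.mem_centralizer_iff.2 fun u hu =>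
    congrArg Subtype.val (hc.is_comm.comm (⟨u, hUN hu⟩ : N) ⟨n, hn⟩)
  have hcard : Nat.card (c.L ⧸ c.sGrp) = Nat.card N * 60 := by rw [← hidx, N.card_mul_index]
  have hN16 := (Subgroup.card_le_of_le hNC).trans hV.cent_image.1
  have hm := c.mod_three hS h3 fun h hh => hN.conj_mem h hh _
  have h4 : 4 ≤ Nat.card N := hV.card_image ▸ Subgroup.card_le_of_le hUN
  have h416 : Nat.card N = 4 ∨ Nat.card N = 16 := by
    rw [hk] at hN16 hm h4 ⊢
    have : k ≤ 4 := by
      by_contra h
      have := Nat.pow_le_pow_right (show 0 < 2 by norm_num) (show 5 ≤ k by omega)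
      omega
    interval_cases k <;> simp at *
  rcases h416 with h | h
  · -- the group acts on `U = N`
    have hUN' := Subgroup.eq_of_le_of_card_ge hUN (by rw [h, hV.card_image])
    haveI : Fintype U := Fintype.ofFinite _
    haveI : U.Normal := by rw [hUN']; exact hN
    let φ : (c.L ⧸ c.sGrp) →* Equiv.Perm U :=
      { toFun := fun q => (MulAut.conjNormal q).toEquiv
        map_one' := by ext; simp
        map_mul' := fun a b => by ext; simp [mul_assoc] }
    have hker : φ.ker ≤ C := by
      intro q hq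
      refine Subgroup.mem_centralizer_iff.2 fun u hu => ?_
      have := congrArg (fun e : Equiv.Perm U => ((e ⟨u, hu⟩ : U) : c.L ⧸ c.sGrp))
        (MonoidHom.mem_ker.1 hq)
      simp only [φ, MonoidHom.coe_mk, OneHom.coe_mk, MulEquiv.toEquiv_eq_coe, MulEquiv.coe_toEquiv,
        MulAut.conjNormal_apply, Equiv.Perm.coe_one, id_eq] at this
      exact (mul_inv_eq_iff_eq_mul.1 this).symm
    have hidx24 : φ.ker.index ≤ 24 := by
      rw [Subgroup.index_ker]
      refine (Subgroup.card_le_card_group _).trans ?_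
      rw [Nat.card_perm, hV.card_image]
      norm_num [Nat.factorial]
    have hK : 10 ≤ Nat.card φ.ker := by
      have := φ.ker.card_mul_index
      rw [hcard, h] at this
      nlinarith
    haveI hCn : C.Normal := Subgroup.normal_centralizer
    have hlt : N < C := lt_of_le_of_ne hNC fun e => by
      have h' := Subgroup.card_le_of_le hker
      rw [← e, h] at h'
      omega
    rcases hs.eq_bot_or_eq_top_of_normal (C.map (QuotientGroup.mk' N))
      (hCn.map _ (QuotientGroup.mk'_surjective N)) with e | e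
    · refine hlt.not_ge fun q hq => ?_
      have : QuotientGroup.mk' N q ∈ (⊥ : Subgroup _) := e ▸ ⟨q, hq, rfl⟩
      exact (QuotientGroup.eq_one_iff q).1 (Subgroup.mem_bot.1 this)
    · have h60 : 60 ≤ Nat.card C := by
        have h1 : Nat.card ((c.L ⧸ c.sGrp) ⧸ N) = 60 := by rw [← Subgroup.index_eq_card, hidx]
        rw [← h1, ← Subgroup.card_top, ← e]
        exact Nat.le_of_dvd Nat.card_pos (Subgroup.card_map_dvd C (QuotientGroup.mk' N))
      have : Nat.card C ≤ 16 := hV.cent_image.1
      omega
  -- order sixteen: an element of order five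
  have hNCe : N = C := Subgroup.eq_of_le_of_card_ge hNC (by rw [h]; exact hV.cent_image.1)
  obtain ⟨y, hy⟩ := exists_prime_orderOf_dvd_card' (G := c.L) 5 (by
    rw [c.card_L, hcard, h]; norm_num)
  set yY := c.pr y with hyY
  have hy5 : y ^ 5 = 1 := hy ▸ pow_orderOf_eq_one y
  have hyY5 : yY ^ 5 = 1 := by rw [hyY, ← map_pow, hy5, map_one]
  have hyC : yY ∉ C := fun hmem => by
    have h4 := hV.cent_image.2 _ hmem
    have h1 : yY = 1 := by
      have := hyY5
      rw [pow_succ, h4, one_mul] at this
      exact this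
    rcases c.pr_eq_one_iff.1 h1 with e | e
    · rw [show y = 1 from Subtype.ext e, orderOf_one] at hy; norm_num at hy
    · rw [show y = c.sL from Subtype.ext e, c.orderOf_sL] at hy; norm_num at hy
  set Fx := N ⊓ Subgroup.centralizer ({yY} : Set (c.L ⧸ c.sGrp)) with hFx
  let α : MulAut N := MulAut.conjNormal yY
  let π5 : Equiv.Perm N := α.toEquiv
  have hα : ∀ (j : ℕ) (n : N), (((π5 ^ j) n : N) : c.L ⧸ c.sGrp) = yY ^ j * n * (yY ^ j)⁻¹ := by
    intro j
    induction j with
    | zero => intro n; simp
    | succ j ih =>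
      intro n
      rw [pow_succ', Equiv.Perm.mul_apply]
      show ((α ((π5 ^ j) n) : N) : c.L ⧸ c.sGrp) = _
      rw [MulAut.conjNormal_apply, ih, pow_succ']; group
  have hπ5 : π5 ^ 5 ^ 1 = 1 := Equiv.ext fun n => Subtype.ext (by
    rw [pow_one, hα, hyY5]; simp)
  have hfixed : ∀ n : N, π5 n = n → n = 1 := by
    -- the fixed subgroup has order one modulo five
    haveI : Fintype N := Fintype.ofFinite _
    have hfc := Equiv.Perm.card_compl_support_modEq (α := N) hπ5
    have hset : (π5.support)ᶜ = Finset.univ.filter fun n : N => (n : c.L ⧸ c.sGrp) ∈ Fx := by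
      ext n
      simp only [Finset.mem_compl, Equiv.Perm.mem_support, not_not, Finset.mem_filter,
        Finset.mem_univ, true_and]
      rw [hFx, Subgroup.mem_inf, Subgroup.mem_centralizer_singleton_iff, Subtype.ext_iff]
      show yY * (n : c.L ⧸ c.sGrp) * yY⁻¹ = n ↔ _
      rw [mul_inv_eq_iff_eq_mul]
      exact ⟨fun e => ⟨n.2, e.symm⟩, fun e => e.2.symm⟩
    have hFcard : (π5.support)ᶜ.card = Nat.card Fx := by
      rw [hset, ← Fintype.card_subtype, ← Nat.card_eq_fintype_card]
      exact Nat.card_congr ((Equiv.subtypeSubtypeEquivSubtype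
        (p := fun q => q ∈ N) (q := fun q => q ∈ Fx) (fun hq => hq.1)))
    rw [hFcard, ← Nat.card_eq_fintype_card, h] at hfc
    have hd : Nat.card Fx ∣ 2 ^ 4 := by
      have h' := Subgroup.card_dvd_of_le (inf_le_left : Fx ≤ N)
      rw [h] at h'
      exact h'
    obtain ⟨r, hr4, hr⟩ := (Nat.dvd_prime_pow Nat.prime_two).1 hd
    rw [hr] at hfc
    have hr' : r = 0 ∨ r = 4 := by
      interval_cases r <;> simp [Nat.ModEq] at hfc ⊢
    rcases hr' with e | e <;> rw [e] at hr
    · intro n hn
      haveI := (Nat.card_eq_one_iff_unique.1 (hr.trans (pow_zero 2))).1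
      have hmem : (n : c.L ⧸ c.sGrp) ∈ Fx := by
        refine ⟨n.2, Subgroup.mem_centralizer_singleton_iff.2 ?_⟩
        have h' : yY * (n : c.L ⧸ c.sGrp) * yY⁻¹ = n := congrArg Subtype.val hn
        exact (mul_inv_eq_iff_eq_mul.1 h').symm
      exact Subtype.ext (show (n : c.L ⧸ c.sGrp) = 1 from
        congrArg (fun z : Fx => (z : c.L ⧸ c.sGrp)) (Subsingleton.elim (⟨_, hmem⟩ : Fx) 1))
    · exfalso
      refine hyC (Subgroup.mem_centralizer_iff.2 fun u hu => ?_)
      have heq := Subgroup.eq_of_le_of_card_ge (inf_le_left : Fx ≤ N) (by rw [hr, h]; norm_num)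
      exact Subgroup.mem_centralizer_singleton_iff.1
        (show u ∈ Fx by rw [hFx, heq]; exact hUN hu).2
  -- the elements with non-trivial square
  have hlift : ∀ x x' : c.L, c.pr x = c.pr x' → (x' : G) * x' = x * x := by
    intro x x' e
    rcases c.pr_eq_iff.1 e with e' | e' <;> rw [e']
    rw [(show Commute c.s (x : G) from (c.comm_s x).symm).mul_mul_mul_comm, c.s_sq, mul_one]
  choose lift hliftpr using c.pr_surjective
  let Bad : N → Prop := fun n => ((lift n : c.L) : G) * lift n = c.s
  have hBad : ∀ (n : N) (x : c.L), c.pr x = n → (Bad n ↔ (x : G) * x = c.s) := fun n x e => by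
    show _ = _ ↔ _
    rw [hlift x (lift n) (e.trans (hliftpr _).symm)]
  have hsqs : ∀ x : c.L, c.pr x ∈ N → (x : G) * x = 1 ∨ (x : G) * x = c.s := by
    intro x hx
    have := he _ hx
    rw [pow_two, ← map_mul, c.pr_eq_one_iff] at this
    exact this
  haveI : Fintype N := Fintype.ofFinite _
  have h5 : 5 ∣ (Finset.univ.filter Bad).card := by
    set B := Finset.univ.filter Bad
    have hinv : ∀ n : N, Bad n → Bad (π5 n) := by
      intro n hn
      refine (hBad (π5 n) (y * lift n * y⁻¹) ?_).2 ?_
      · rw [map_mul, map_mul, map_inv, hliftpr]; rfl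
      · simp only [Subgroup.coe_mul, Subgroup.coe_inv]
        calc _ = (y : G) * ((lift n : c.L) * lift n : G) * (y : G)⁻¹ := by group
          _ = c.s := by rw [show ((lift n : c.L) * lift n : G) = c.s from hn, c.comm_s y,
              mul_inv_cancel_right]
    have hinv' : ∀ n : N, Bad (π5 n) → Bad n := by
      intro n hn
      have h1 : ∀ j, Bad ((π5 ^ j) (π5 n)) := by
        intro j
        induction j with
        | zero => simpa using hn
        | succ j ih => rw [pow_succ', Equiv.Perm.mul_apply]; exact hinv _ ih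
      have h4 := h1 4
      rwa [← Equiv.Perm.mul_apply, ← pow_succ, show π5 ^ (4 + 1) = 1 by rw [← hπ5, pow_one],
        Equiv.Perm.one_apply] at h4
    let πB : Equiv.Perm {n : N // Bad n} := π5.subtypePerm fun n => ⟨hinv' n, hinv n⟩
    have hπB : πB ^ 5 ^ 1 = 1 := Equiv.ext fun n => Subtype.ext (by
      rw [Equiv.Perm.subtypePerm_pow]; simp [show π5 ^ 5 = 1 by rw [← hπ5, pow_one]])
    have hfc := Equiv.Perm.card_compl_support_modEq (α := {n : N // Bad n}) hπB
    have hnone : (πB.support)ᶜ = ∅ := by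
      refine Finset.eq_empty_iff_forall_notMem.2 fun n hn => ?_
      simp only [Finset.mem_compl, Equiv.Perm.mem_support, not_not] at hn
      have h1 := hfixed n.1 (congrArg Subtype.val hn)
      have := (hBad n.1 1 (by rw [map_one, h1]; rfl)).1 n.2
      exact c.s_ne (by simpa using this.symm)
    rw [hnone, Finset.card_empty, Fintype.card_subtype] at hfc
    exact Nat.modEq_zero_iff_dvd.1 hfc.symm
  -- six such elements
  have h6 : (Finset.univ.filter Bad).card = 6 := by
    set UN := U.subgroupOf N with hUN'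
    haveI : Fintype (N ⧸ UN) := Fintype.ofFinite _
    have hUN4 : Nat.card UN = 4 := by
      rw [hUN', Nat.card_congr (Subgroup.subgroupOfEquivOfLe hUN).toEquiv, hV.card_image]
    have hq4 : Fintype.card (N ⧸ UN) = 4 := by
      rw [← Nat.card_eq_fintype_card]
      have := Subgroup.card_eq_card_quotient_mul_card_subgroup UN
      rw [hUN4, h] at this
      omega
    rw [Finset.card_eq_sum_card_fiberwise (f := fun n : N => (n : N ⧸ UN)) (t := Finset.univ)
      (fun _ _ => Finset.mem_univ _)]
    have hfib : ∀ q : N ⧸ UN, ((Finset.univ.filter Bad).filter fun n : N => (n : N ⧸ UN) = q).card =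
        if q = 1 then 0 else 2 := by
      intro q
      induction q using QuotientGroup.induction_on with
      | _ m =>
        split_ifs with hm
        · refine Finset.card_eq_zero.2 (Finset.eq_empty_iff_forall_notMem.2 fun n hn => ?_)
          simp only [Finset.mem_filter, Finset.mem_univ, true_and] at hn
          rw [hm, QuotientGroup.eq_one_iff, hUN', Subgroup.mem_subgroupOf] at hn
          obtain ⟨v, hv, hve⟩ := hV.mem_image.1 hn.2
          have := (hBad n v hve).1 hn.1
          rw [hV.sq _ hv] at this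
          exact c.s_ne this.symm
        · rw [QuotientGroup.eq_one_iff, hUN', Subgroup.mem_subgroupOf] at hm
          obtain ⟨x, hx⟩ := c.pr_surjective (m : c.L ⧸ c.sGrp)
          -- the two members of `U` that `x` moves
          have hmove : ∀ v ∈ V, (x : G) * v = v * x ∨ (x : G) * v = v * x * c.s := by
            intro v hv
            have h' : c.pr x * c.pr ⟨v, hV.le_L hv⟩ = c.pr ⟨v, hV.le_L hv⟩ * c.pr x := by
              rw [hx]
              exact congrArg Subtype.val (hc.is_comm.comm m
                ⟨_, hUN (hV.mem_image.2 ⟨⟨v, hV.le_L hv⟩, hv, rfl⟩)⟩)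
            rw [← map_mul, ← map_mul] at h'
            rcases c.pr_eq_iff.1 h'.symm with e | e <;> simp only [Subgroup.coe_mul] at e
            · exact Or.inl e
            · exact Or.inr e
          have hxs : ∀ v ∈ V, (x : G) * v * ((x : G) * v) =
              (x : G) * x * (if (x : G) * v = v * x then 1 else c.s) := by
            intro v hv
            split_ifs with hcom
            · rw [(show Commute v (x : G) from hcom.symm).mul_mul_mul_comm, hV.sq v hv]
            · have e := (hmove v hv).resolve_left hcom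
              have e' : v * (x : G) = x * v * c.s := by
                rw [e, mul_assoc, c.s_sq, mul_one]
              calc (x : G) * v * ((x : G) * v) = x * (v * x) * v := by group
                _ = x * x * (v * (c.s * v)) := by rw [e']; group
                _ = _ := by rw [← hV.comm_s v hv, ← mul_assoc v v, hV.sq v hv, one_mul]
          -- some element of `V` does not commute with `x`, and exactly two
          obtain ⟨v₁, hv₁, hv₁x⟩ : ∃ v ∈ V, (x : G) * v ≠ v * x := by
            by_contra hcon
            push Not at hcon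
            exact hm (hx ▸ hV.pr_mem_image hcon)
          haveI : Fintype V := Fintype.ofFinite _
          have hkey : ∀ v ∈ V, ((x : G) * v = v * x ↔
              ¬ (x : G) * (v₁ * v) = v₁ * v * x) := by
            intro v hv
            constructor
            · intro h1 h2
              refine hv₁x ?_
              have h3 : Commute (x : G) (v₁ * v * v) := (show Commute _ _ from h2).mul_right h1
              rw [mul_assoc, hV.sq v hv, mul_one] at h3
              exact h3.eq
            · intro h2
              by_contra h1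
              refine h2 ?_
              have e1 := (hmove v₁ hv₁).resolve_left hv₁x
              have e2 := (hmove v hv).resolve_left h1
              calc (x : G) * (v₁ * v) = (x : G) * v₁ * v := by group
                _ = v₁ * ((x : G) * (c.s * v)) := by rw [e1]; group
                _ = v₁ * ((x : G) * v) * c.s := by rw [← hV.comm_s v hv]; group
                _ = _ := by rw [e2]; simp only [mul_assoc, c.s_sq, mul_one]
          have hhalf : (Finset.univ.filter fun v : V => (x : G) * v = v * x).card = 2 := by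
            have hpart := Finset.card_filter_add_card_filter_not (s := (Finset.univ : Finset V))
              (fun v : V => (x : G) * v = v * x)
            have hbij : (Finset.univ.filter fun v : V => (x : G) * v = v * x).card =
                (Finset.univ.filter fun v : V => ¬ (x : G) * v = v * x).card := by
              refine Finset.card_equiv (Equiv.mulLeft (⟨v₁, hv₁⟩ : V)) fun v => ?_
              simp only [Finset.mem_filter, Finset.mem_univ, true_and]
              exact hkey v v.2
            rw [Finset.card_univ, ← Nat.card_eq_fintype_card, hV.card_eq] at hpart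
            omega
          have hhalf' : (Finset.univ.filter fun v : V => ¬ (x : G) * v = v * x).card = 2 := by
            have hpart := Finset.card_filter_add_card_filter_not (s := (Finset.univ : Finset V))
              (fun v : V => (x : G) * v = v * x)
            rw [Finset.card_univ, ← Nat.card_eq_fintype_card, hV.card_eq] at hpart
            omega
          let g : V → N := fun v => m * ⟨c.pr ⟨v, hV.le_L v.2⟩,
            hUN (hV.mem_image.2 ⟨_, v.2, rfl⟩)⟩
          have hg : Function.Injective g := fun a b e => by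
            have := hV.pr_injOn (a := ⟨a, hV.le_L a.2⟩) (b := ⟨b, hV.le_L b.2⟩) a.2 b.2
              (congrArg Subtype.val (mul_left_cancel e))
            exact Subtype.ext (congrArg (fun l : c.L => (l : G)) this)
          have hbadg : ∀ v : V, Bad (g v) ↔
              (x : G) * x * (if (x : G) * v = v * x then 1 else c.s) = c.s := by
            intro v
            rw [hBad (g v) (x * ⟨v, hV.le_L v.2⟩) (by rw [map_mul, hx]; rfl),
              ← hxs v v.2]
            rfl
          have himg : (Finset.univ.filter Bad).filter (fun n : N => (n : N ⧸ UN) = m) =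
              (Finset.univ.filter fun v : V => Bad (g v)).image g := by
            ext n
            simp only [Finset.mem_filter, Finset.mem_univ, true_and, Finset.mem_image]
            constructor
            · rintro ⟨hn, hnm⟩
              rw [eq_comm, QuotientGroup.eq, hUN', Subgroup.mem_subgroupOf] at hnm
              obtain ⟨v, hv, hve⟩ := hV.mem_image.1 hnm
              refine ⟨⟨v, hv⟩, ?_⟩
              have hgn : g ⟨v, hv⟩ = n := by
                refine Subtype.ext ?_
                show (m : c.L ⧸ c.sGrp) * c.pr v = n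
                rw [hve]; simp
              exact ⟨hgn.symm ▸ hn, hgn⟩
            · rintro ⟨v, hv, rfl⟩
              refine ⟨hv, ?_⟩
              rw [eq_comm, QuotientGroup.eq, hUN', Subgroup.mem_subgroupOf]
              simp only [g, inv_mul_cancel_left]
              exact hV.mem_image.2 ⟨_, v.2, rfl⟩
          rw [himg, Finset.card_image_of_injective _ hg]
          have hxN : c.pr x ∈ N := hx ▸ m.2
          rcases hsqs x hxN with e | e
          · refine (congrArg Finset.card (Finset.filter_congr fun v _ => ?_)).trans hhalf'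
            rw [hbadg, e, one_mul]
            split_ifs with h' <;> simp [h', c.s_ne.symm]
          · refine (congrArg Finset.card (Finset.filter_congr fun v _ => ?_)).trans hhalf
            rw [hbadg, e]
            split_ifs with h' <;> simp [h', c.s_sq, c.s_ne.symm]
    simp only [hfib]
    rw [Finset.sum_ite, Finset.sum_const_zero, zero_add, Finset.sum_const, smul_eq_mul,
      Finset.filter_ne', Finset.card_erase_of_mem (Finset.mem_univ _), Finset.card_univ, hq4]
  rw [h6] at h5
  norm_num at h5

end Klein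

/-- The shape of the centraliser of `s`. -/
theorem centShape (hS : c.Six) : c.CentShape := by
  obtain ⟨V, hV⟩ := c.exists_klein hS
  haveI : Fact (Nat.Prime 2) := ⟨Nat.prime_two⟩
  have hyp := c.hyp_Y hS
  have h16 : 16 ∣ Nat.card (c.L ⧸ c.sGrp) := by
    have h := hV.thirty_two_dvd
    change 32 ∣ Nat.card c.L at h
    rw [c.card_L] at h
    omega
  rcases SelfCentralThree.shape hyp with ⟨N, hN, hnil, hcop, hidx⟩ |
      ⟨N, hN, hc, he, hidx, hs⟩ | ⟨h168, -⟩
  · have h3 : ¬ 3 ∣ Nat.card N := (Nat.prime_three.coprime_iff_not_dvd).1 hcop.symm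
    have hidx6 : N.index = 6 := by
      refine hidx.resolve_left fun h => ?_
      have hq3 : Nat.card ((c.L ⧸ c.sGrp) ⧸ N) = 3 := by rw [← Subgroup.index_eq_card, h]
      have hi : c.iY ∈ N := by
        rw [← QuotientGroup.eq_one_iff]
        have h1 : (QuotientGroup.mk c.iY : (c.L ⧸ c.sGrp) ⧸ N) ^ 3 = 1 := by
          rw [← hq3]; exact pow_card_eq_one'
        have h2 : (QuotientGroup.mk c.iY : (c.L ⧸ c.sGrp) ⧸ N) ^ 2 = 1 := by
          rw [← QuotientGroup.mk_pow, show c.iY ^ 2 = 1 by
            rw [iY, ← map_pow, show c.iL ^ 2 = 1 from Subtype.ext (by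
              rw [SubmonoidClass.coe_pow, pow_two, OneMemClass.coe_one]; exact c.i_sq), map_one],
            QuotientGroup.mk_one]
        rwa [pow_succ, h2, one_mul] at h1
      have hd : c.dY ∈ N := by
        have h1 := N.mul_mem hi (hN.conj_mem _ (N.inv_mem hi) c.dY)
        rw [show c.iY * (c.dY * c.iY⁻¹ * c.dY⁻¹) = c.iY * c.dY * c.iY⁻¹ * c.dY⁻¹ by group,
          c.iY_conj_dY, mul_inv_cancel_right] at h1
        exact h1
      exact h3 (hyp.order ▸ Subgroup.orderOf_dvd_natCard N hd)
    have hUN : Klein.image c V ≤ N := by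
      intro u hu
      obtain ⟨w, hw, rfl⟩ := hV.exists_comm_d hu
      set π := QuotientGroup.mk' N
      have hq6 : Nat.card ((c.L ⧸ c.sGrp) ⧸ N) = 6 := by rw [← Subgroup.index_eq_card, hidx6]
      have hord : orderOf (π c.dY) = 3 := by
        refine orderOf_eq_prime (hp := ⟨Nat.prime_three⟩)
          (by rw [← map_pow, c.dY_cube, map_one]) fun e => ?_
        exact h3 (hyp.order ▸ Subgroup.orderOf_dvd_natCard N ((QuotientGroup.eq_one_iff _).1 e))
      haveI : (Subgroup.zpowers (π c.dY)).Normal := by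
        refine Subgroup.normal_of_index_eq_two ?_
        have := (Subgroup.zpowers (π c.dY)).card_mul_index
        rw [Nat.card_zpowers, hord, hq6] at this
        omega
      have hmem : π (c.dY * w * c.dY⁻¹ * w⁻¹) ∈ Subgroup.zpowers (π c.dY) := by
        rw [map_mul, map_mul, map_mul, map_inv, map_inv,
          show π c.dY * π w * (π c.dY)⁻¹ * (π w)⁻¹ = π c.dY * (π w * (π c.dY)⁻¹ * (π w)⁻¹) by group]
        exact Subgroup.mul_mem _ (Subgroup.mem_zpowers _) (Subgroup.Normal.conj_mem inferInstance _
          (Subgroup.inv_mem _ (Subgroup.mem_zpowers _)) _)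
      refine (QuotientGroup.eq_one_iff _).1 (orderOf_eq_one_iff.1 (Nat.dvd_one.1 ?_))
      have h1 := Subgroup.orderOf_dvd_natCard _ hmem
      rw [Nat.card_zpowers, hord] at h1
      have h2 : orderOf (π (c.dY * w * c.dY⁻¹ * w⁻¹)) ∣ 2 := orderOf_dvd_of_pow_eq_one (by
        rw [pow_two, ← map_mul, hV.image_sq hu, map_one])
      exact Nat.dvd_gcd h2 h1
    have h2 := hV.two_group hnil hUN
    have hcl' := SelfCentralThree.nilpotent_and_class_two hyp (W := N)
      (by rw [Subgroup.normalizer_eq_top]; trivial) h3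
    have hcen := hV.image_central h3 hUN h2 hcl'.2
    have hNC : N ≤ Subgroup.centralizer (Klein.image c V : Set (c.L ⧸ c.sGrp)) := fun n hn =>
      Subgroup.mem_centralizer_iff.2 fun u hu => (hcen n hn u hu).symm
    have hcard : Nat.card N = 16 := by
      obtain ⟨k, hk⟩ := IsPGroup.iff_card.1 h2
      have hle := (Subgroup.card_le_of_le hNC).trans hV.cent_image.1
      have hm := c.mod_three hS h3 fun h hh => hN.conj_mem h hh _
      have h6 := N.card_mul_index
      rw [hidx6] at h6
      rw [← h6, hk] at h16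
      rw [hk] at hle hm ⊢
      have : k ≤ 4 := by
        by_contra h
        have := Nat.pow_le_pow_right (show 0 < 2 by norm_num) (show 5 ≤ k by omega)
        omega
      interval_cases k <;> first | rfl | omega | norm_num at h16 | norm_num at hm
    exact hV.extraspecial h3 hUN hcard hcl'.2 hcen hidx6
  · exact (hV.not_sixty hc he hidx hs).elim
  · rw [h168] at h16
    norm_num at h16

end Setup

end CfsgLib.AltNineRecog
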