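import Cfsg.Agent.AltNineRecog.CentSModel
import Cfsg.Agent.AltNineRecog.CentE
import Cfsg.Agent.SelfCentralThree.Main
import Cfsg.Agent.Coprime.Generation

/-!
# The centraliser of the four-group

The four-group `V` of the second case has the group `V × S₃` of order 24 as centraliser.
-/

set_option autoImplicit false
set_option linter.style.haveILetI false
set_option linter.unusedSectionVars false

namespace CfsgLib.AltNineRecog

open CfsgLib.AltNineThree (M IsE eOne eMix eAll eThree tOne tTwo gThree cls)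

set_option maxRecDepth 20000

universe u

namespace Setup

variable {G : Type u} [Group G] [Finite G] (c : Setup G)

/-- What is known of the four-group. -/
structure Klein (V : Subgroup G) : Prop where
  six : c.Six
  card_eq : Nat.card V = 4
  sq : ∀ v ∈ V, v * v = 1
  comm_g : ∀ v ∈ V, v * c.g = c.g * v
  comm_s : ∀ v ∈ V, v * c.s = c.s * v
  conj_d : ∀ v ∈ V, c.d * v * c.d⁻¹ ∈ V
  conj_i : ∀ v ∈ V, c.i * v * c.i⁻¹ ∈ V
  free : ∀ v ∈ V, v * c.d = c.d * v → v = 1

theorem exists_klein (hS : c.Six) : ∃ V : Subgroup G, c.Klein V := by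
  obtain ⟨V, h1, h2, h3, h4, h5, h6⟩ := hS.exists_four
  exact ⟨V, hS, h1, h2, fun v hv => (h3 v hv).1, fun v hv => (h3 v hv).2, h4, h5, h6⟩

theorem d_cube : c.d ^ 3 = 1 := by
  rw [d, ← map_pow, pow_succ, pow_two, tOne_cent.2.2.2.2.2.2.1, map_one]

theorem g_cube : c.g ^ 3 = 1 := by
  rw [g, ← map_pow, pow_succ, pow_two, tOne_cent.2.2.2.2.2.1, map_one]

theorem s_sq : c.s * c.s = 1 := by
  rw [s, ← map_mul, tOne_cent.2.2.2.2.2.2.2.1, map_one]

theorem s_inv : c.s⁻¹ = c.s := inv_eq_of_mul_eq_one_right c.s_sq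

theorem i_sq : c.i * c.i = 1 := by rw [i, ← map_mul, tOne_cent.2.2.1, map_one]

theorem i_inv : c.i⁻¹ = c.i := inv_eq_of_mul_eq_one_right c.i_sq

theorem d_comm_s : c.d * c.s = c.s * c.d := by
  rw [d, s, ← map_mul, tOne_cent.2.2.2.1, map_mul]

theorem d_comm_g : c.d * c.g = c.g * c.d := by
  rw [d, g, ← map_mul, tOne_cent.2.2.2.2.1, map_mul]

theorem i_comm_g : c.i * c.g = c.g * c.i := by rw [i, g, ← map_mul, tOne_cent.1, map_mul]

theorem i_comm_s : c.i * c.s = c.s * c.i := by rw [i, s, ← map_mul, tOne_cent.2.1, map_mul]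

theorem i_conj_d : c.i * c.d * c.i⁻¹ = c.d * c.d := by
  rw [c.i_inv, i, d, ← map_mul, ← map_mul, centS_rels.2.2.1, map_mul]

theorem s_conj_g : c.s * c.g * c.s⁻¹ = c.g * c.g := by
  rw [c.s_inv, s, g, ← map_mul, ← map_mul, tOne_cent.2.2.2.2.2.2.2.2.2.1, map_mul]

theorem el_cube {m : M} (hm : IsE m) : c.el m ^ 3 = 1 := by
  rw [← map_pow, pow_succ, pow_two, hm.2, map_one]

theorem g_pow_mod (k : ℕ) : c.g ^ k = c.g ^ (k % 3) := pow_eq_pow_mod k c.g_cube

theorem d_ne : c.d ≠ 1 := fun e => isE_reps.2.2.2.1 (c.el_injective (e.trans (map_one _).symm))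

theorem g_ne : c.g ≠ 1 :=
  fun e => isE_reps.2.2.2.2.2.2.2.1 (c.el_injective (e.trans (map_one _).symm))

theorem orderOf_g : orderOf c.g = 3 :=
  haveI : Fact (Nat.Prime 3) := ⟨Nat.prime_three⟩
  orderOf_eq_prime c.g_cube c.g_ne

theorem card_cH : Nat.card c.H = 648 := by
  rw [Nat.card_congr c.e.toEquiv, Nat.card_eq_fintype_card, AltNineThree.card_M]

namespace Klein

variable {c} {V : Subgroup G} (hV : c.Klein V)
include hV

theorem comm {v w : G} (hv : v ∈ V) (hw : w ∈ V) : v * w = w * v := by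
  have h1 := hV.sq _ (V.mul_mem hv hw)
  calc v * w = (v * w)⁻¹ := (inv_eq_of_mul_eq_one_right h1).symm
    _ = w⁻¹ * v⁻¹ := mul_inv_rev v w
    _ = w * v := by
      rw [inv_eq_of_mul_eq_one_right (hV.sq v hv), inv_eq_of_mul_eq_one_right (hV.sq w hw)]

theorem inv_eq {v : G} (hv : v ∈ V) : v⁻¹ = v := inv_eq_of_mul_eq_one_right (hV.sq v hv)

theorem conj_d_inv {v : G} (hv : v ∈ V) : c.d⁻¹ * v * c.d ∈ V := by
  have h := hV.conj_d _ (hV.conj_d v hv)
  have e : c.d⁻¹ = c.d * c.d := inv_eq_of_mul_eq_one_right (by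
    rw [← mul_assoc, ← pow_two, ← pow_succ, c.d_cube])
  rwa [show c.d⁻¹ * v * c.d = c.d * c.d * v * (c.d * c.d)⁻¹ by rw [← e, inv_inv],
    show c.d * c.d * v * (c.d * c.d)⁻¹ = c.d * (c.d * v * c.d⁻¹) * c.d⁻¹ by group]

/-- A power of `g` in `V` is trivial. -/
theorem g_pow_eq_one {k : ℕ} (h : c.g ^ k ∈ V) : c.g ^ k = 1 := by
  have h2 := hV.sq _ h
  have h3 : (c.g ^ k) ^ 3 = 1 := by rw [← pow_mul, mul_comm, pow_mul, c.g_cube, one_pow]
  rwa [pow_succ, pow_two, h2, one_mul] at h3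

theorem eq_one_of_cube {v : G} (hv : v ∈ V) (h : v ^ 3 = 1) : v = 1 := by
  rwa [pow_succ, pow_two, hV.sq v hv, one_mul] at h

theorem eq_one_of_mem_H {v : G} (hv : v ∈ V) (hvH : v ∈ c.H) : v = 1 := by
  obtain ⟨m, rfl⟩ := c.exists_el hvH
  refine hV.free _ hv ?_
  have hd : c.d * c.el m * c.d⁻¹ * (c.el m)⁻¹ = c.el (eMix * (m * eMix⁻¹ * m⁻¹)) := by
    simp only [d, map_mul, map_inv]; group
  have hE : IsE (eMix * (m * eMix⁻¹ * m⁻¹)) := (AltNineThree.eSub).mul_mem isE_reps.2.2.1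
    (AltNineThree.E_conj _ ((AltNineThree.eSub).inv_mem isE_reps.2.2.1) m)
  have hmem : c.el (eMix * (m * eMix⁻¹ * m⁻¹)) ∈ V := by
    rw [← hd]; exact V.mul_mem (hV.conj_d _ hv) (V.inv_mem hv)
  have h1 := hV.eq_one_of_cube hmem (c.el_cube hE)
  rw [← hd] at h1
  exact (mul_inv_eq_iff_eq_mul.1 (mul_inv_eq_one.1 h1)).symm

theorem exists_ne_one : ∃ v ∈ V, v ≠ 1 := by
  by_contra h
  push Not at h
  have : V = ⊥ := (Subgroup.eq_bot_iff_forall V).2 h
  have h4 := hV.card_eq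
  rw [this, Subgroup.card_bot] at h4
  omega

/-- The elements of `J` centralising `V`. -/
theorem line_of_comm {j : M} (hj : IsE j) (h : ∀ v ∈ V, v * c.el j = c.el j * v) :
    j ∈ [1, eThree, eThree * eThree] := by
  by_contra hout
  obtain ⟨t, ht, hcls⟩ := coset_heavy_three j hj hout
  obtain ⟨v, hv, hv1⟩ := hV.exists_ne_one
  refine hv1 (hV.eq_one_of_mem_H hv (c.cent_heavy hV.six.loc hcls
    (Subgroup.mem_centralizer_singleton_iff.2 ?_)))
  have h1 : Commute v (c.el j) := h v hv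
  have h2 : Commute v (c.el eThree) := hV.comm_g v hv
  simp only [List.mem_cons, List.not_mem_nil, or_false] at ht
  rcases ht with e | e | e <;> subst e
  · exact h1.eq
  · rw [map_mul]; exact (h1.mul_right h2).eq
  · rw [map_mul, map_mul]; exact (h1.mul_right (h2.mul_right h2)).eq

theorem eq_g_pow_of_comm {j : M} (hj : IsE j) (h : ∀ v ∈ V, v * c.el j = c.el j * v) :
    ∃ k : ℕ, c.el j = c.g ^ k := by
  have := hV.line_of_comm hj h
  simp only [List.mem_cons, List.not_mem_nil, or_false] at this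
  rcases this with e | e | e <;> subst e
  · exact ⟨0, by rw [map_one, pow_zero]⟩
  · exact ⟨1, by rw [pow_one]; rfl⟩
  · exact ⟨2, by rw [map_mul, pow_two]; rfl⟩

/-- An element of `C(g)` fixing `d` modulo `g` lies in `J`. -/
theorem mem_J_of_fix {z : G} (hz : z * c.g = c.g * z) {k : ℕ}
    (h : z * c.d * z⁻¹ = c.d * c.g ^ k) : ∃ j : M, IsE j ∧ c.el j = z := by
  have hE : IsE (eMix * eThree ^ (k % 3)) := (AltNineThree.eSub).mul_mem isE_reps.2.2.1
    ((AltNineThree.eSub).pow_mem isE_reps.2.2.2.2.2.2.1 _)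
  have h' : z * c.el eMix * z⁻¹ = c.el (eMix * eThree ^ (k % 3)) := by
    rw [map_mul, map_pow]
    change z * c.d * z⁻¹ = c.d * c.g ^ (k % 3)
    rw [h, c.g_pow_mod k]
  obtain ⟨m, hm⟩ := hV.six.loc.fusion _ _ isE_reps.2.2.1 hE z h'
  have hc : cls (eMix * eThree ^ (k % 3)) = cls eMix := by rw [← hm, AltNineThree.cls_conj]
  have h0 : k % 3 = 0 := by
    by_contra h0
    rcases (show k % 3 = 1 ∨ k % 3 = 2 by omega) with e | e <;> rw [e] at hc
    · rw [pow_one] at hc; exact plane_not_fused.1 hc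
    · rw [pow_two] at hc; exact plane_not_fused.2.1 hc
  rw [c.g_pow_mod, h0, pow_zero, mul_one] at h
  have hzd : z * c.d = c.d * z := mul_inv_eq_iff_eq_mul.1 h
  obtain ⟨u, rfl⟩ := c.exists_el
    (hV.six.loc.centD (Subgroup.mem_centralizer_singleton_iff.2 hzd))
  refine ⟨u, cent_eMix_eThree u (c.el_injective ?_) (c.el_injective ?_), rfl⟩
  · rw [map_mul, map_mul]; exact hzd
  · rw [map_mul, map_mul]; exact hz

/-- The elements centralising `g` and `V`. -/
theorem exists_of_comm {z : G} (hzg : z * c.g = c.g * z) (hzV : ∀ v ∈ V, z * v = v * z) :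
    ∃ v ∈ V, ∃ k : ℕ, z = v * c.g ^ k := by
  classical
  haveI : Fact (Nat.Prime 5) := ⟨by norm_num⟩
  set K := Subgroup.centralizer ({c.g} : Set G) ⊓ Subgroup.centralizer (V : Set G) with hK
  have memK : ∀ {y : G}, y ∈ K ↔ y * c.g = c.g * y ∧ ∀ v ∈ V, v * y = y * v := by
    intro y
    rw [hK, Subgroup.mem_inf, Subgroup.mem_centralizer_singleton_iff, Subgroup.mem_centralizer_iff]
    rfl
  have hgK : c.g ∈ K := memK.2 ⟨rfl, hV.comm_g⟩
  have hVK : V ≤ K := fun v hv => memK.2 ⟨hV.comm_g v hv, fun w hw => hV.comm hw hv⟩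
  set N := (Subgroup.zpowers c.g).subgroupOf K with hN
  haveI hNn : N.Normal := ⟨fun n hn y => by
    obtain ⟨i, hi⟩ := Subgroup.mem_zpowers_iff.1 (Subgroup.mem_subgroupOf.1 hn)
    have : Commute (y : G) (n : G) := by rw [← hi]; exact Commute.zpow_right (memK.1 y.2).1 i
    have e : y * n * y⁻¹ = n := Subtype.ext (by
      simp only [Subgroup.coe_mul, Subgroup.coe_inv]
      rw [this.eq, mul_inv_cancel_right])
    rw [e]; exact hn⟩
  have hN3 : Nat.card N = 3 := by
    rw [Nat.card_congr (Subgroup.subgroupOfEquivOfLe (Subgroup.zpowers_le.2 hgK)).toEquiv,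
      Nat.card_zpowers, c.orderOf_g]
  have hdn : ∀ y ∈ K, c.d * y * c.d⁻¹ ∈ K := fun y hy => by
    obtain ⟨hy1, hy2⟩ := memK.1 hy
    refine memK.2 ⟨?_, fun v hv => ?_⟩
    · exact ((Commute.mul_left (Commute.mul_left c.d_comm_g hy1)
        (show Commute c.d c.g from c.d_comm_g).inv_left)).eq
    · have h := hy2 _ (hV.conj_d_inv hv)
      calc v * (c.d * y * c.d⁻¹) = c.d * (c.d⁻¹ * v * c.d * y) * c.d⁻¹ := by group
        _ = _ := by rw [h]; group
  have hd3 : ∀ y : G, c.d * (c.d * (c.d * y * c.d⁻¹) * c.d⁻¹) * c.d⁻¹ = y := fun y => by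
    calc _ = c.d ^ 3 * y * (c.d ^ 3)⁻¹ := by simp only [pow_succ, pow_zero, one_mul]; group
      _ = y := by rw [c.d_cube]; group
  let δ : MulAut K :=
    { toFun := fun y => ⟨_, hdn y y.2⟩
      invFun := fun y => ⟨_, hdn _ (hdn y y.2)⟩
      left_inv := fun y => Subtype.ext (hd3 _)
      right_inv := fun y => Subtype.ext (hd3 _)
      map_mul' := fun y z => Subtype.ext (by simp [mul_assoc]) }
  have hδ : ∀ y : K, ((δ y : K) : G) = c.d * y * c.d⁻¹ := fun _ => rfl
  have hfix : ∀ n ∈ N, δ n = n := fun n hn => by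
    obtain ⟨i, hi⟩ := Subgroup.mem_zpowers_iff.1 (Subgroup.mem_subgroupOf.1 hn)
    refine Subtype.ext ?_
    rw [hδ, ← hi, (Commute.zpow_right c.d_comm_g i).eq, mul_inv_cancel_right]
  have hmap : N.map δ.toMonoidHom = N := by
    refine le_antisymm ?_ fun n hn => ⟨n, hn, hfix n hn⟩
    rintro _ ⟨n, hn, rfl⟩
    change δ n ∈ N
    rw [hfix n hn]; exact hn
  let σ : MulAut (K ⧸ N) := QuotientGroup.congr N N δ hmap
  have hσ : ∀ y : K, σ (QuotientGroup.mk y) = QuotientGroup.mk (δ y) := fun _ => rfl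
  have h3 : ∀ q, σ (σ (σ q)) = q := fun q => by
    induction q using QuotientGroup.induction_on with
    | _ y => rw [hσ, hσ, hσ]; exact congrArg QuotientGroup.mk (Subtype.ext (hd3 _))
  have hfp : ∀ q, σ q = q → q = 1 := fun q => by
    induction q using QuotientGroup.induction_on with
    | _ y =>
      intro h
      rw [hσ, eq_comm, QuotientGroup.eq] at h
      have h' : (y : G)⁻¹ * (c.d * y * c.d⁻¹) ∈ Subgroup.zpowers c.g := h
      obtain ⟨k, hk⟩ := (mem_powers_iff_mem_zpowers (x := c.g)).2 h'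
      have hk' : c.g ^ k = (y : G)⁻¹ * (c.d * y * c.d⁻¹) := hk
      obtain ⟨hy1, hy2⟩ := memK.1 y.2
      have hfixd : (y : G)⁻¹ * c.d * y = c.d * c.g ^ k := by
        have e : (y : G)⁻¹ * c.d * y = c.g ^ k * c.d := by rw [hk']; group
        rw [e, (Commute.pow_left c.d_comm_g.symm k).eq]
      obtain ⟨j, hj, hje⟩ := hV.mem_J_of_fix (z := (y : G)⁻¹)
        (show Commute (y : G) c.g from hy1).inv_left.eq (k := k) (by rw [inv_inv, hfixd])
      obtain ⟨l, hl⟩ := hV.eq_g_pow_of_comm hj fun v hv => by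
        rw [hje]; exact (show Commute v (y : G) from hy2 v hv).inv_right.eq
      refine (QuotientGroup.eq_one_iff y).2 (Subgroup.mem_subgroupOf.2 ?_)
      rw [← inv_inv (y : G), ← hje, hl]
      exact Subgroup.inv_mem _ (Subgroup.pow_mem _ (Subgroup.mem_zpowers _) _)
  have hKB : Nat.card K = Nat.card (K ⧸ N) * 3 := by
    rw [Subgroup.card_eq_card_quotient_mul_card_subgroup N, hN3]
  have hdvd : Nat.card (K ⧸ N) ∣ 360 := by
    have h1 := Subgroup.card_dvd_of_le (inf_le_left : K ≤ Subgroup.centralizer ({c.g} : Set G))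
    rw [hV.six.card_cent, hKB, show 1080 = 360 * 3 from rfl] at h1
    exact Nat.dvd_of_mul_dvd_mul_right (by norm_num) h1
  have h4 : 4 ∣ Nat.card (K ⧸ N) := by
    have h1 := Subgroup.card_dvd_of_le hVK
    rw [hV.card_eq, hKB] at h1
    exact (show Nat.Coprime 4 3 by norm_num).dvd_of_dvd_mul_right h1
  have hmod := CfsgLib.FpfThree.card_mod_three σ h3 hfp ⊤ fun w _ => Subgroup.mem_top _
  rw [Subgroup.card_top] at hmod
  haveI := SelfCentralThree.isNilpotent_of_fpf σ h3 hfp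
  have h5 : ¬ 5 ∣ Nat.card (K ⧸ N) := by
    intro h5
    let P : Sylow 5 (K ⧸ N) := default
    haveI hPn : (P : Subgroup (K ⧸ N)).Normal :=
      Sylow.normal_of_normalizerCondition Group.normalizerCondition_of_isNilpotent P
    haveI := Sylow.characteristic_of_normal P hPn
    have hinv : ∀ t ∈ (P : Subgroup (K ⧸ N)), σ t ∈ (P : Subgroup (K ⧸ N)) := fun t ht =>
      (SetLike.ext_iff.1 (Subgroup.Characteristic.fixed (H := (P : Subgroup (K ⧸ N))) inferInstance σ) t).2 ht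
    have h1 := CfsgLib.FpfThree.card_mod_three σ h3 hfp P hinv
    obtain ⟨n, hn⟩ := IsPGroup.iff_card.1 P.2
    have hlow := P.dvd_card_of_dvd_card h5
    have hup := (P : Subgroup (K ⧸ N)).card_subgroup_dvd_card.trans hdvd
    rw [hn] at h1 hlow hup
    rcases n with _ | _ | n
    · norm_num at hlow
    · norm_num at h1
    · exact absurd ((pow_dvd_pow 5 (by omega : 2 ≤ n + 2)).trans hup) (by norm_num)
  have hB : Nat.card (K ⧸ N) = 4 := by
    obtain ⟨r, hr⟩ := h4
    have hpos : 0 < Nat.card (K ⧸ N) := Nat.card_pos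
    have hr' : r ≤ 90 := by
      have := Nat.le_of_dvd (by norm_num) hdvd
      omega
    rw [hr] at hdvd hmod h5 hpos ⊢
    interval_cases r <;> first | omega | norm_num at hdvd | norm_num at h5
  rw [hB] at hKB
  let φ : V × Fin 3 → K := fun p =>
    ⟨(p.1 : G) * c.g ^ (p.2 : ℕ), K.mul_mem (hVK p.1.2) (K.pow_mem hgK _)⟩
  have hinj : Function.Injective φ := by
    rintro ⟨v, a⟩ ⟨w, b⟩ h
    have h' : (v : G) * c.g ^ (a : ℕ) = (w : G) * c.g ^ (b : ℕ) := congrArg Subtype.val h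
    have h1 : (w : G)⁻¹ * v = c.g ^ ((b : ℕ) + 2 * (a : ℕ)) := by
      have e : c.g ^ (2 * (a : ℕ)) = (c.g ^ (a : ℕ))⁻¹ := eq_inv_of_mul_eq_one_left (by
        rw [← pow_add, show 2 * (a : ℕ) + a = 3 * a by ring, pow_mul, c.g_cube, one_pow])
      rw [pow_add, e]
      calc (w : G)⁻¹ * v = (w : G)⁻¹ * (v * c.g ^ (a : ℕ)) * (c.g ^ (a : ℕ))⁻¹ := by group
        _ = _ := by rw [h']; group
    have h2 := hV.g_pow_eq_one (h1 ▸ V.mul_mem (V.inv_mem w.2) v.2)
    rw [h2, inv_mul_eq_one] at h1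
    have hvw : v = w := Subtype.ext h1.symm
    subst hvw
    have h3 := mul_left_cancel h'
    rw [← Nat.mod_eq_of_lt a.2, ← Nat.mod_eq_of_lt b.2] at h3
    have := pow_inj_mod.1 h3
    rw [c.orderOf_g, Nat.mod_mod, Nat.mod_mod, Nat.mod_eq_of_lt a.2, Nat.mod_eq_of_lt b.2] at this
    rw [Fin.ext this]
  obtain ⟨⟨v, a⟩, hva⟩ := (hinj.bijective_of_nat_card_le (by
    rw [Nat.card_prod, hV.card_eq, Nat.card_eq_fintype_card (α := Fin 3), Fintype.card_fin, hKB])).2
    ⟨z, memK.2 ⟨hzg, fun v hv => (hzV v hv).symm⟩⟩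
  exact ⟨v, v.2, a, (congrArg Subtype.val hva).symm⟩

end Klein

end Setup

end CfsgLib.AltNineRecog
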