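import Cfsg.Agent.AltNineRecog.CentEFacts

/-!
# Computed facts used for the centraliser of the triple transposition
-/

set_option autoImplicit false

namespace CfsgLib.AltNineRecog

open CfsgLib.AltNineThree (M IsE eOne eMix eAll eThree tOne tTwo gThree cls)

set_option maxRecDepth 100000
set_option synthInstance.maxHeartbeats 200000
set_option synthInstance.maxSize 1024

/-- The orders and relations of the four distinguished elements. -/
theorem centS_rels : tTwo ≠ 1 ∧ tOne ≠ 1 ∧ tOne * eMix * tOne = eMix * eMix ∧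
    eMix * tOne ≠ tOne * eMix ∧ eMix * eMix ≠ 1 ∧ tTwo * eThree ≠ eThree * tTwo ∧
    tOne * tOne * tOne ≠ 1 ∧ eThree * eThree ≠ 1 ∧ ¬ IsE tTwo ∧ ¬ IsE tOne := by decide +kernel

/-- Outside the line of `eThree`, some element of the coset has weight at least two. -/
theorem coset_heavy_three : ∀ j : M, IsE j → j ∉ [1, eThree, eThree * eThree] →
    ∃ t ∈ [j, j * eThree, j * (eThree * eThree)], cls t = 11 ∨ cls t = 13 := by decide +kernel

/-- The other elements of `⟨eMix, eThree⟩` have weight at least two. -/
theorem plane_heavy : ∀ a ∈ [eMix, eMix * eMix], ∀ b ∈ [1, eThree, eThree * eThree],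
    (cls (a * b) = 11 ∨ cls (a * b) = 13) ∧ IsE (a * b) := by decide +kernel

/-- No element carries `eMix` to another element of its coset modulo the line of `eThree`. -/
theorem plane_not_fused : cls (eMix * eThree) ≠ cls eMix ∧ cls (eMix * (eThree * eThree)) ≠ cls eMix ∧
    cls eThree ≠ cls eMix ∧ cls eThree ≠ cls (eMix * eMix) := by decide +kernel

theorem cent_eMix_tTwo : ∀ u : M, u * eMix = eMix * u → u * tTwo = tTwo * u →
    u ∈ [1, eMix, eMix * eMix, tTwo, tTwo * eMix, tTwo * (eMix * eMix)] := by decide +kernel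

theorem cent_eMix_eThree : ∀ u : M, u * eMix = eMix * u → u * eThree = eThree * u → IsE u := by
  decide +kernel

theorem list_eMix_cube : ∀ u ∈ [1, eMix, eMix * eMix, tTwo, tTwo * eMix, tTwo * (eMix * eMix)],
    (u * u = 1 → u = 1 ∨ u = tTwo) ∧ (u * u * u = 1 → u = 1 ∨ u = eMix ∨ u = eMix * eMix) := by
  decide +kernel

end CfsgLib.AltNineRecog
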