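import Cfsg.Agent.AltNineRecog.CentSTransfer

/-!
# The centraliser of `s` modulo `s`
-/

set_option autoImplicit false
set_option linter.style.haveILetI false
set_option linter.unusedSectionVars false

namespace CfsgLib.AltNineRecog

open CfsgLib.AltNineThree (M IsE eOne eMix eAll eThree tOne tTwo gThree cls)

set_option maxRecDepth 20000

universe u

namespace Setup

variable {G : Type u} [Group G] [Finite G] (c : Setup G)

/-- The centraliser of `s`. -/
abbrev L : Subgroup G := Subgroup.centralizer ({c.s} : Set G)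

/-- `s` as an element of its centraliser. -/
def sL : c.L := ⟨c.s, Subgroup.mem_centralizer_singleton_iff.2 rfl⟩

/-- `d` as an element of the centraliser of `s`. -/
def dL : c.L := ⟨c.d, Subgroup.mem_centralizer_singleton_iff.2 c.d_comm_s⟩

/-- `i` as an element of the centraliser of `s`. -/
def iL : c.L := ⟨c.i, Subgroup.mem_centralizer_singleton_iff.2 c.i_comm_s⟩

/-- The subgroup generated by `s`. -/
def sGrp : Subgroup c.L := Subgroup.zpowers c.sL

theorem comm_sL (l : c.L) : l * c.sL = c.sL * l :=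
  Subtype.ext (Subgroup.mem_centralizer_singleton_iff.1 l.2)

theorem comm_s (l : c.L) : (l : G) * c.s = c.s * l :=
  Subgroup.mem_centralizer_singleton_iff.1 l.2

instance : c.sGrp.Normal := ⟨fun n hn y => by
  obtain ⟨k, rfl⟩ := Subgroup.mem_zpowers_iff.1 hn
  rw [(Commute.zpow_right (c.comm_sL y) k).eq, mul_inv_cancel_right]
  exact Subgroup.zpow_mem _ (Subgroup.mem_zpowers _) k⟩

theorem orderOf_sL : orderOf c.sL = 2 := by
  rw [← Subgroup.orderOf_coe]
  exact orderOf_eq_prime (hp := ⟨Nat.prime_two⟩) (by rw [pow_two]; exact c.s_sq) c.s_ne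

theorem card_sGrp : Nat.card c.sGrp = 2 := by rw [sGrp, Nat.card_zpowers, c.orderOf_sL]

theorem mem_sGrp {l : c.L} : l ∈ c.sGrp ↔ (l : G) = 1 ∨ (l : G) = c.s := by
  constructor
  · intro h
    obtain ⟨k, hk⟩ := (mem_powers_iff_mem_zpowers (x := c.sL)).2 h
    have hk' : c.sL ^ k = l := hk
    rw [← pow_mod_orderOf, c.orderOf_sL] at hk'
    rcases Nat.mod_two_eq_zero_or_one k with e | e <;> rw [e] at hk' <;> subst hk'
    · exact Or.inl (by simp)
    · exact Or.inr (by simp [sL])
  · rintro (e | e)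
    · rw [show l = 1 from Subtype.ext e]; exact one_mem _
    · rw [show l = c.sL from Subtype.ext e]; exact Subgroup.mem_zpowers _

/-- The quotient map. -/
def pr : c.L →* c.L ⧸ c.sGrp := QuotientGroup.mk' c.sGrp

theorem pr_surjective : Function.Surjective c.pr := QuotientGroup.mk'_surjective _

theorem pr_eq_iff {a b : c.L} : c.pr a = c.pr b ↔ (b : G) = a ∨ (b : G) = a * c.s := by
  refine (QuotientGroup.eq).trans (c.mem_sGrp.trans ?_)
  simp only [Subgroup.coe_mul, Subgroup.coe_inv, inv_mul_eq_iff_eq_mul, mul_one]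

theorem pr_eq_one_iff {a : c.L} : c.pr a = 1 ↔ (a : G) = 1 ∨ (a : G) = c.s :=
  (QuotientGroup.eq_one_iff a).trans c.mem_sGrp

theorem card_L : Nat.card c.L = Nat.card (c.L ⧸ c.sGrp) * 2 := by
  rw [Subgroup.card_eq_card_quotient_mul_card_subgroup c.sGrp, c.card_sGrp]

/-- The image of `d`. -/
def dY : c.L ⧸ c.sGrp := c.pr c.dL

/-- The image of `i`. -/
def iY : c.L ⧸ c.sGrp := c.pr c.iL

theorem iY_conj_dY : c.iY * c.dY * c.iY⁻¹ = c.dY * c.dY := by
  rw [iY, dY, ← map_inv, ← map_mul, ← map_mul, ← map_mul]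
  exact congrArg c.pr (Subtype.ext c.i_conj_d)

theorem hyp_Y (hS : c.Six) : SelfCentralizing.Hyp (c.L ⧸ c.sGrp) 3 c.dY := by
  haveI : Fact (Nat.Prime 3) := ⟨Nat.prime_three⟩
  refine ⟨Nat.prime_three, orderOf_eq_prime ?_ ?_, le_antisymm (fun q hq => ?_)
    (Subgroup.zpowers_le.2 (Subgroup.mem_centralizer_singleton_iff.2 rfl))⟩
  · rw [dY, ← map_pow, show c.dL ^ 3 = 1 from Subtype.ext c.d_cube, map_one]
  · intro h
    rcases c.pr_eq_one_iff.1 h with e | e
    · exact c.d_ne e
    · have h2 := c.s_sq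
      rw [← (show c.d = c.s from e)] at h2
      have h3 := c.d_cube
      rw [pow_succ, pow_two, h2, one_mul] at h3
      exact c.d_ne h3
  · obtain ⟨l, rfl⟩ := c.pr_surjective q
    have h := Subgroup.mem_centralizer_singleton_iff.1 hq
    rw [dY, ← map_mul, ← map_mul, c.pr_eq_iff] at h
    simp only [Subgroup.coe_mul, dL] at h
    have hld : (l : G) * c.d = c.d * l := by
      rcases h with e | e
      · exact e.symm
      · exfalso
        -- a cube gives `s = 1`
        have h1 : (l : G)⁻¹ * c.d * l = c.d * c.s := by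
          calc (l : G)⁻¹ * c.d * l = (l : G)⁻¹ * (c.d * l) := by group
            _ = c.d * c.s := by rw [e]; group
        have h2 : ((l : G)⁻¹ * c.d * l) ^ 3 = (l : G)⁻¹ * c.d ^ 3 * l := by
          simp only [pow_succ, pow_zero, one_mul]; group
        rw [h1, (show Commute c.d c.s from c.d_comm_s).mul_pow, c.d_cube, one_mul, mul_one,
          inv_mul_cancel, pow_succ, pow_two, c.s_sq, one_mul] at h2
        exact c.s_ne h2
    obtain ⟨m, hm, hme⟩ := c.cent_s_d (c.comm_s l) hld hS
    have hpow : ∀ k : ℕ, ((l : G) = c.d ^ k ∨ (l : G) = c.s * c.d ^ k) →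
        c.pr l ∈ Subgroup.zpowers c.dY := by
      intro k hk
      have : c.pr (c.dL ^ k) = c.pr l := c.pr_eq_iff.2 (by
        rcases hk with e | e
        · exact Or.inl (by simp [dL, e])
        · refine Or.inr ?_
          simp only [dL, SubmonoidClass.coe_pow]
          rw [e, ((show Commute c.d c.s from c.d_comm_s).pow_left k).eq])
      rw [← this, map_pow]
      exact pow_mem (Subgroup.mem_zpowers _) k
    simp only [List.mem_cons, List.not_mem_nil, or_false] at hm
    rcases hm with e | e | e | e | e | e <;> subst e <;> (try simp only [map_mul, map_one] at hme)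
    · exact hpow 0 (Or.inl (by rw [pow_zero]; exact hme.symm))
    · exact hpow 1 (Or.inl (by rw [pow_one]; exact hme.symm))
    · exact hpow 2 (Or.inl (by rw [pow_two]; exact hme.symm))
    · exact hpow 0 (Or.inr (by rw [pow_zero, mul_one]; exact hme.symm))
    · exact hpow 1 (Or.inr (by rw [pow_one]; exact hme.symm))
    · exact hpow 2 (Or.inr (by rw [pow_two]; exact hme.symm))

namespace Klein

variable {c} {V : Subgroup G} (hV : c.Klein V)
include hV

omit hV in
/-- The image of `V`. -/
def image (c : Setup G) (V : Subgroup G) : Subgroup (c.L ⧸ c.sGrp) := (V.subgroupOf c.L).map c.pr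

theorem le_L : V ≤ c.L := fun v hv => Subgroup.mem_centralizer_singleton_iff.2 (hV.comm_s v hv)

theorem mem_image {q : c.L ⧸ c.sGrp} :
    q ∈ image c V ↔ ∃ v : c.L, (v : G) ∈ V ∧ c.pr v = q := by
  simp only [image, Subgroup.mem_map, Subgroup.mem_subgroupOf]

theorem pr_injOn {a b : c.L} (ha : (a : G) ∈ V) (hb : (b : G) ∈ V) (h : c.pr a = c.pr b) :
    a = b := by
  rcases c.pr_eq_iff.1 h with e | e
  · exact Subtype.ext e.symm
  · exfalso
    have : c.s ∈ V := by
      rw [show c.s = (a : G)⁻¹ * b by rw [e]; group]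
      exact V.mul_mem (V.inv_mem ha) hb
    exact c.s_ne (hV.eq_one_of_mem_H this (c.el_mem tTwo))

theorem card_image : Nat.card (image c V) = 4 := by
  rw [← hV.card_eq, ← Nat.card_congr (Subgroup.subgroupOfEquivOfLe hV.le_L).toEquiv]
  refine (Nat.card_eq_of_bijective (fun v : V.subgroupOf c.L => (⟨c.pr v.1, v.1, v.2, rfl⟩ :
    image c V)) ⟨fun a b h => Subtype.ext (hV.pr_injOn a.2 b.2 (congrArg Subtype.val h)), ?_⟩).symm
  rintro ⟨_, a, ha, rfl⟩
  exact ⟨⟨a, ha⟩, rfl⟩

theorem image_sq {u : c.L ⧸ c.sGrp} (hu : u ∈ image c V) : u * u = 1 := by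
  obtain ⟨v, hv, rfl⟩ := hV.mem_image.1 hu
  rw [← map_mul, show v * v = 1 from Subtype.ext (hV.sq _ hv), map_one]

theorem image_conj_d {u : c.L ⧸ c.sGrp} (hu : u ∈ image c V) :
    c.dY * u * c.dY⁻¹ ∈ image c V := by
  obtain ⟨v, hv, rfl⟩ := hV.mem_image.1 hu
  rw [dY, ← map_inv, ← map_mul, ← map_mul]
  exact hV.mem_image.2 ⟨_, by simpa [dL] using hV.conj_d _ hv, rfl⟩

theorem image_conj_i {u : c.L ⧸ c.sGrp} (hu : u ∈ image c V) :
    c.iY * u * c.iY⁻¹ ∈ image c V := by
  obtain ⟨v, hv, rfl⟩ := hV.mem_image.1 hu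
  rw [iY, ← map_inv, ← map_mul, ← map_mul]
  exact hV.mem_image.2 ⟨_, by simpa [iL] using hV.conj_i _ hv, rfl⟩

theorem image_free {u : c.L ⧸ c.sGrp} (hu : u ∈ image c V) (h : c.dY * u * c.dY⁻¹ = u) : u = 1 := by
  obtain ⟨v, hv, rfl⟩ := hV.mem_image.1 hu
  rw [dY, ← map_inv, ← map_mul, ← map_mul] at h
  have h1 := hV.pr_injOn (by simpa [dL] using hV.conj_d _ hv) hv h
  rw [show v = 1 from Subtype.ext (hV.free _ hv (mul_inv_eq_iff_eq_mul.1
    (congrArg Subtype.val h1 : c.d * v * c.d⁻¹ = v)).symm), map_one]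

/-- Every element of the four-group is a commutator with `d`. -/
theorem exists_comm_d {u : c.L ⧸ c.sGrp} (hu : u ∈ image c V) :
    ∃ w ∈ image c V, c.dY * w * c.dY⁻¹ * w⁻¹ = u := by
  let f : image c V → image c V := fun w =>
    ⟨c.dY * w * c.dY⁻¹ * (w : c.L ⧸ c.sGrp)⁻¹,
      (image c V).mul_mem (hV.image_conj_d w.2) ((image c V).inv_mem w.2)⟩
  have hcomm : ∀ a ∈ image c V, ∀ b ∈ image c V, a * b = b * a := by
    intro a ha b hb
    obtain ⟨v, hv, rfl⟩ := hV.mem_image.1 ha
    obtain ⟨w, hw, rfl⟩ := hV.mem_image.1 hb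
    rw [← map_mul, ← map_mul, show v * w = w * v from Subtype.ext (hV.comm hv hw)]
  have hf : Function.Injective f := by
    intro a b h
    have h' : c.dY * a * c.dY⁻¹ * (a : c.L ⧸ c.sGrp)⁻¹ = c.dY * b * c.dY⁻¹ * (b : c.L ⧸ c.sGrp)⁻¹ :=
      congrArg Subtype.val h
    have hab : (b : c.L ⧸ c.sGrp)⁻¹ * a ∈ image c V :=
      (image c V).mul_mem ((image c V).inv_mem b.2) a.2
    refine Subtype.ext ?_
    have := hV.image_free hab (by
      calc c.dY * ((b : c.L ⧸ c.sGrp)⁻¹ * a) * c.dY⁻¹
          = (c.dY * b * c.dY⁻¹)⁻¹ * (c.dY * a * c.dY⁻¹ * (a : c.L ⧸ c.sGrp)⁻¹) * a := by group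
        _ = (b : c.L ⧸ c.sGrp)⁻¹ * a := by rw [h']; group)
    exact (inv_mul_eq_one.1 this).symm
  obtain ⟨w, hw⟩ := Finite.surjective_of_injective hf ⟨u, hu⟩
  exact ⟨w, w.2, congrArg Subtype.val hw⟩

theorem exists_ne_image : ∃ u ∈ image c V, u ≠ 1 := by
  obtain ⟨v, hv, hv1⟩ := hV.exists_ne_one
  refine ⟨_, hV.mem_image.2 ⟨⟨v, hV.le_L hv⟩, hv, rfl⟩, fun h => hv1 ?_⟩
  have := hV.pr_injOn (a := ⟨v, hV.le_L hv⟩) (b := 1) hv (by simp) (h.trans (map_one _).symm)
  exact congrArg Subtype.val this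

/-- The centraliser of the image of `V`. -/
theorem cent_image :
    Nat.card (Subgroup.centralizer (image c V : Set (c.L ⧸ c.sGrp))) ≤ 16 ∧
      ∀ q ∈ Subgroup.centralizer (image c V : Set (c.L ⧸ c.sGrp)), q ^ 4 = 1 := by
  classical
  set C := Subgroup.centralizer (image c V : Set (c.L ⧸ c.sGrp))
  set P := C.comap c.pr with hPdef
  have hmove : ∀ l ∈ P, ∀ v ∈ V, (l : G) * v * (l : G)⁻¹ = v ∨
      (l : G) * v * (l : G)⁻¹ = v * c.s := by
    intro l hl v hv
    have h := Subgroup.mem_centralizer_iff.1 (Subgroup.mem_comap.1 hl) _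
      (hV.mem_image.2 ⟨⟨v, hV.le_L hv⟩, hv, rfl⟩)
    rw [← map_mul, ← map_mul] at h
    rcases c.pr_eq_iff.1 h with e | e <;> simp only [Subgroup.coe_mul] at e
    · exact Or.inl (by rw [e]; group)
    · refine Or.inr ?_
      rw [e]
      calc v * (l : G) * c.s * (l : G)⁻¹ = v * ((l : G) * c.s) * (l : G)⁻¹ := by group
        _ = _ := by rw [c.comm_s l]; group
  have hsq : ∀ l ∈ P, ∀ v ∈ V, (l : G) * (l : G) * v = v * ((l : G) * (l : G)) := by
    intro l hl v hv
    refine mul_inv_eq_iff_eq_mul.1 ?_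
    rw [show (l : G) * l * v * ((l : G) * l)⁻¹ = l * ((l : G) * v * (l : G)⁻¹) * (l : G)⁻¹ by group]
    rcases hmove l hl v hv with e | e <;> rw [e]
    · exact e
    · calc (l : G) * (v * c.s) * (l : G)⁻¹
          = (l : G) * v * (l : G)⁻¹ * ((l : G) * c.s * (l : G)⁻¹) := by group
        _ = v * c.s * c.s := by rw [e, c.comm_s l, mul_inv_cancel_right]
        _ = v := by rw [mul_assoc, c.s_sq, mul_one]
  refine ⟨?_, fun q hq => ?_⟩
  · have hP : Nat.card P = Nat.card c.sGrp * Nat.card C :=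
      QuotientGroup.card_preimage_mk c.sGrp (C : Set (c.L ⧸ c.sGrp))
    obtain ⟨v₀, hv₀, hv₀1⟩ := hV.exists_ne_one
    set v₁ := c.d * v₀ * c.d⁻¹
    have hv₁ : v₁ ∈ V := hV.conj_d v₀ hv₀
    haveI : Fintype c.L := Fintype.ofFinite _
    haveI : Fintype V := Fintype.ofFinite _
    let f : c.L → G × G := fun l => ((l : G) * v₀ * (l : G)⁻¹, (l : G) * v₁ * (l : G)⁻¹)
    set Pf := Finset.univ.filter fun l : c.L => l ∈ P with hPf
    have himg : (Pf.image f).card ≤ 4 := by
      refine (Finset.card_le_card (t := ({v₀, v₀ * c.s} : Finset G) ×ˢ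
        ({v₁, v₁ * c.s} : Finset G)) ?_).trans ?_
      · intro p hp
        obtain ⟨l, hl, rfl⟩ := Finset.mem_image.1 hp
        have hl' : l ∈ P := (Finset.mem_filter.1 hl).2
        simp only [f, Finset.mem_product, Finset.mem_insert, Finset.mem_singleton]
        exact ⟨hmove l hl' v₀ hv₀, hmove l hl' v₁ hv₁⟩
      · rw [Finset.card_product]
        exact Nat.mul_le_mul Finset.card_le_two Finset.card_le_two
    have hfib : ∀ p ∈ Pf.image f, (Pf.filter fun l => f l = p).card ≤ 8 := by
      intro p hp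
      obtain ⟨l₀, -, rfl⟩ := Finset.mem_image.1 hp
      let E : Finset G := (Finset.univ.image fun v : V => (v : G)) ∪
        (Finset.univ.image fun v : V => (v : G) * c.s)
      have hE : E.card ≤ 8 := by
        refine (Finset.card_union_le _ _).trans ?_
        have h4 : Fintype.card V = 4 := by rw [← Nat.card_eq_fintype_card, hV.card_eq]
        refine (Nat.add_le_add Finset.card_image_le Finset.card_image_le).trans ?_
        rw [Finset.card_univ, h4]
      refine (Finset.card_le_card_of_injOn (fun l : c.L => (l₀ : G)⁻¹ * l) ?_ ?_).trans hE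
      · intro l hl
        have hfl := (Finset.mem_filter.1 hl).2
        simp only [f, Prod.mk.injEq] at hfl
        have h0 : ∀ w, (l : G) * w * (l : G)⁻¹ = l₀ * w * (l₀ : G)⁻¹ →
            (l₀ : G)⁻¹ * l * w = w * ((l₀ : G)⁻¹ * l) := fun w e => by
          calc (l₀ : G)⁻¹ * l * w = (l₀ : G)⁻¹ * ((l : G) * w * (l : G)⁻¹) * l := by group
            _ = _ := by rw [e]; group
        have hall : ∀ v ∈ V, (l₀ : G)⁻¹ * l * v = v * ((l₀ : G)⁻¹ * l) := by
          intro v hv
          have e0 := h0 v₀ hfl.1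
          have e1 := h0 v₁ hfl.2
          rcases hV.d_orbit hv₀ hv₀1 hv with e | e | e | e
          · rw [e, mul_one, one_mul]
          · rw [e]; exact e0
          · rw [e]; exact e1
          · rcases hV.d_orbit hv₀ hv₀1 (V.mul_mem hv₀ hv₁) with g | g | g | g
            · exact absurd (hV.free v₀ hv₀ (by
                have : v₁ = v₀ := by rw [eq_inv_of_mul_eq_one_right g, hV.inv_eq hv₀]
                exact (mul_inv_eq_iff_eq_mul.1 this).symm)) hv₀1
            · have : v₁ = 1 := mul_left_cancel (g.trans (mul_one _).symm)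
              exact absurd (conj_eq_one_iff.1 this) hv₀1
            · exact absurd (mul_right_cancel (g.trans (one_mul v₁).symm)) hv₀1
            · rw [e, ← g]; exact ((show Commute _ v₀ from e0).mul_right e1).eq
        obtain ⟨w, hw, hw'⟩ := hV.cent_s hall
          (((show Commute (l₀ : G) c.s from c.comm_s l₀).inv_left).mul_left (c.comm_s l)).eq
        simp only [E, Finset.coe_union, Set.mem_union, Finset.coe_image, Set.mem_image,
          Finset.coe_univ, Set.mem_univ, true_and]
        rcases hw' with e | e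
        · exact Or.inl ⟨⟨w, hw⟩, e.symm⟩
        · exact Or.inr ⟨⟨w, hw⟩, e.symm⟩
      · intro a _ b _ h
        exact Subtype.ext (mul_left_cancel h)
    have h32 := (Finset.card_le_mul_card_image Pf 8 hfib).trans (Nat.mul_le_mul_left 8 himg)
    have hPc : Nat.card P = Pf.card := by
      rw [hPf, ← Fintype.card_subtype, Nat.card_eq_fintype_card]
    rw [← hPc, hP, c.card_sGrp] at h32
    omega
  · obtain ⟨l, rfl⟩ := c.pr_surjective q
    have hl : l ∈ P := hq
    obtain ⟨w, hw, e⟩ := hV.cent_s (z := (l : G) * l) (hsq l hl)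
      (((show Commute (l : G) c.s from c.comm_s l)).mul_left (c.comm_s l)).eq
    rw [← map_pow, c.pr_eq_one_iff]
    left
    simp only [SubmonoidClass.coe_pow]
    rw [show (l : G) ^ 4 = (l : G) * l * ((l : G) * l) by
      simp only [pow_succ, pow_zero, one_mul, mul_assoc]]
    rcases e with e | e <;> rw [e]
    · exact hV.sq w hw
    · rw [(show Commute c.s w from (hV.comm_s w hw).symm).mul_mul_mul_comm, hV.sq w hw, c.s_sq,
        one_mul]

/-- An element whose image centralises the image of `V` and which centralises `V` is in `V ∪ V s`. -/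
theorem pr_mem_image {l : c.L} (h : ∀ v ∈ V, (l : G) * v = v * l) : c.pr l ∈ image c V := by
  obtain ⟨w, hw, e⟩ := hV.cent_s h (c.comm_s l)
  refine hV.mem_image.2 ⟨⟨w, hV.le_L hw⟩, hw, c.pr_eq_iff.2 ?_⟩
  rcases e with e | e
  · exact Or.inl e
  · exact Or.inr e

/-- Commuting with two members of a `d`-orbit is commuting with `V`. -/
theorem comm_all {x v w : G} (hv : v ∈ V) (hw : w ∈ V) (hv1 : v ≠ 1) (hw1 : w ≠ 1) (hvw : v ≠ w)
    (h1 : x * v = v * x) (h2 : x * w = w * x) : ∀ u ∈ V, x * u = u * x := by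
  classical
  intro u hu
  suffices h : u = 1 ∨ u = v ∨ u = w ∨ u = v * w by
    rcases h with e | e | e | e <;> rw [e]
    · rw [mul_one, one_mul]
    · exact h1
    · exact h2
    · exact ((show Commute x v from h1).mul_right h2).eq
  have hp1 : v * w ≠ 1 := fun e => hvw (by rw [eq_inv_of_mul_eq_one_left e, hV.inv_eq hw])
  have hpv : v * w ≠ v := fun e => hw1 (mul_left_cancel (e.trans (mul_one v).symm))
  have hpw : v * w ≠ w := fun e => hv1 (mul_right_cancel (e.trans (one_mul w).symm))
  by_contra h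
  push Not at h
  have hsub : ({1, v, w, v * w, u} : Finset G) ⊆ (Set.toFinite (V : Set G)).toFinset := by
    intro y hy
    simp only [Finset.mem_insert, Finset.mem_singleton] at hy
    simp only [Set.Finite.mem_toFinset, SetLike.mem_coe]
    rcases hy with rfl | rfl | rfl | rfl | rfl
    exacts [one_mem _, hv, hw, V.mul_mem hv hw, hu]
  have h5 := Finset.card_le_card hsub
  rw [← Nat.card_eq_card_finite_toFinset, show Nat.card (V : Set G) = 4 from hV.card_eq] at h5
  have : ({1, v, w, v * w, u} : Finset G).card = 5 := by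
    rw [Finset.card_insert_of_notMem, Finset.card_insert_of_notMem, Finset.card_insert_of_notMem,
      Finset.card_insert_of_notMem, Finset.card_singleton] <;>
      simp only [Finset.mem_insert, Finset.mem_singleton] <;>
      grind
  omega

end Klein

end Setup

end CfsgLib.AltNineRecog
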