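import Cfsg.Agent.AltNineRecog.CentSZ
import Cfsg.Agent.S0111

/-!
# A Sylow 2-subgroup of the centraliser of `s` has order more than sixteen

Otherwise Thompson's transfer lemma gives a subgroup of index two not containing `s`.
-/

set_option autoImplicit false
set_option linter.style.haveILetI false
set_option linter.unusedSectionVars false

namespace CfsgLib.AltNineRecog

open CfsgLib.AltNineThree (M IsE eOne eMix eAll eThree tOne tTwo gThree cls)

set_option maxRecDepth 20000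

universe u

namespace Setup

variable {G : Type u} [Group G] [Finite G] (c : Setup G)

theorem s_ne : c.s ≠ 1 := fun e => centS_rels.1 (c.el_injective (e.trans (map_one _).symm))

theorem s_not_comm_g : c.s * c.g ≠ c.g * c.s := fun h =>
  centS_rels.2.2.2.2.2.1 (c.el_injective (by rw [map_mul, map_mul]; exact h))

theorem pow_conj_s_g (n : ℕ) : c.s * c.g ^ n * c.s⁻¹ = c.g ^ (2 * n) := by
  rw [← conj_pow, c.s_conj_g, ← pow_two, ← pow_mul]

theorem g_pow_eq_of_comm_s {k : ℕ} (h : c.g ^ k * c.s = c.s * c.g ^ k) : c.g ^ k = 1 := by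
  have h1 := c.pow_conj_s_g k
  rw [← h, mul_inv_cancel_right, two_mul, pow_add] at h1
  exact mul_left_cancel (a := c.g ^ k) (by rw [mul_one]; exact h1.symm)

/-- The elements of `C(s)` commuting with `d`. -/
theorem cent_s_d {l : G} (hs : l * c.s = c.s * l) (hd : l * c.d = c.d * l) (hS : c.Six) :
    ∃ m ∈ [1, eMix, eMix * eMix, tTwo, tTwo * eMix, tTwo * (eMix * eMix)], c.el m = l := by
  obtain ⟨u, rfl⟩ := c.exists_el (hS.loc.centD (Subgroup.mem_centralizer_singleton_iff.2 hd))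
  exact ⟨u, cent_eMix_tTwo u (c.el_injective (by rw [map_mul, map_mul]; exact hd))
    (c.el_injective (by rw [map_mul, map_mul]; exact hs)), rfl⟩

theorem orderOf_d : orderOf c.d = 3 :=
  haveI : Fact (Nat.Prime 3) := ⟨Nat.prime_three⟩
  orderOf_eq_prime c.d_cube c.d_ne

/-- The Sylow 3-subgroup of `C(s)` is generated by `d`. -/
theorem exists_sylow_three (hS : c.Six) :
    ∃ P : Sylow 3 (Subgroup.centralizer ({c.s} : Set G)),
      ∀ l, l ∈ (P : Subgroup (Subgroup.centralizer ({c.s} : Set G))) ↔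
        (l : G) ∈ Subgroup.zpowers c.d := by
  haveI : Fact (Nat.Prime 3) := ⟨Nat.prime_three⟩
  set L := Subgroup.centralizer ({c.s} : Set G) with hL
  set dL : L := ⟨c.d, Subgroup.mem_centralizer_singleton_iff.2 c.d_comm_s⟩ with hdL
  have hord : orderOf dL = 3 := by rw [← Subgroup.orderOf_coe]; exact c.orderOf_d
  have hdP : IsPGroup 3 (Subgroup.zpowers dL) :=
    IsPGroup.of_card (n := 1) (by rw [Nat.card_zpowers, hord, pow_one])
  obtain ⟨P, hP⟩ := hdP.exists_le_sylow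
  have hdmem : dL ∈ (P : Subgroup L) := hP (Subgroup.mem_zpowers _)
  have small : ∀ r : L, r ∈ (P : Subgroup L) → (r : G) * c.d = c.d * r →
      (r : G) ∈ Subgroup.zpowers c.d := by
    intro r hr hrd
    obtain ⟨m, hm, hme⟩ := c.cent_s_d (Subgroup.mem_centralizer_singleton_iff.1 r.2) hrd hS
    obtain ⟨n, hn⟩ := P.isPGroup' ⟨r, hr⟩
    have hn' : (r : G) ^ 3 ^ n = 1 := congrArg (fun x : (P : Subgroup L) => ((x : L) : G)) hn
    have hodd : ∀ q : M, c.el (tTwo * q) = r → eMix * eMix * eMix = 1 →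
        q ∈ [1, eMix, eMix * eMix] → False := by
      intro q hq _ hqm
      have hqd : ∃ k : ℕ, c.el q = c.d ^ k := by
        simp only [List.mem_cons, List.not_mem_nil, or_false] at hqm
        rcases hqm with e | e | e <;> subst e
        · exact ⟨0, by simp⟩
        · exact ⟨1, by rw [pow_one]; rfl⟩
        · exact ⟨2, by rw [map_mul, pow_two]; rfl⟩
      obtain ⟨k, hk⟩ := hqd
      rw [map_mul, hk] at hq
      have hc : Commute c.s (c.d ^ k) := (show Commute c.s c.d from c.d_comm_s.symm).pow_right k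
      change c.s * c.d ^ k = r at hq
      rw [← hq, hc.mul_pow] at hn'
      obtain ⟨j, hj⟩ : Odd (3 ^ n) := (show Odd 3 by decide).pow
      rw [hj, pow_succ, pow_mul c.s, pow_two, c.s_sq, one_pow, one_mul, ← pow_mul] at hn'
      have h3 : c.s ^ 3 = 1 := by
        rw [eq_inv_of_mul_eq_one_left hn', inv_pow, ← pow_mul, mul_comm, pow_mul, c.d_cube, one_pow,
          inv_one]
      rw [pow_succ, pow_two, c.s_sq, one_mul] at h3
      exact c.s_ne h3
    have h3M := tOne_cent.2.2.2.2.2.2.1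
    simp only [List.mem_cons, List.not_mem_nil, or_false] at hm
    rcases hm with e | e | e | e | e | e <;> subst e
    · rw [← hme, map_one]; exact one_mem _
    · rw [← hme]; exact Subgroup.mem_zpowers c.d
    · rw [← hme, map_mul]; exact mul_mem (Subgroup.mem_zpowers c.d) (Subgroup.mem_zpowers c.d)
    · exact (hodd 1 (by rw [mul_one]; exact hme) h3M (by simp)).elim
    · exact (hodd eMix hme h3M (by simp)).elim
    · exact (hodd (eMix * eMix) hme h3M (by simp)).elim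
  refine ⟨P, fun l => ⟨fun hl => ?_, fun hl => ?_⟩⟩
  · -- a non-trivial central element of `P` lies in `⟨d⟩`
    haveI : Nontrivial (P : Subgroup L) := ⟨⟨dL, hdmem⟩, 1, fun e => c.d_ne (by
      have := congrArg (fun x : (P : Subgroup L) => ((x : L) : G)) e
      simpa [hdL] using this)⟩
    haveI := P.isPGroup'.center_nontrivial
    obtain ⟨z, hz⟩ := exists_ne (1 : Subgroup.center (P : Subgroup L))
    have hzc : ∀ r : L, r ∈ (P : Subgroup L) → (r : G) * ((z.1 : L) : G) = ((z.1 : L) : G) * r :=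
      fun r hr => congrArg (fun x : (P : Subgroup L) => ((x : L) : G))
        (Subgroup.mem_center_iff.1 z.2 ⟨r, hr⟩)
    have hzd := small z.1 z.1.2 (hzc dL hdmem).symm
    have hz1 : ((z.1 : L) : G) ≠ 1 := fun e => hz (Subtype.ext (Subtype.ext (Subtype.ext e)))
    have hgen : c.d ∈ Subgroup.zpowers ((z.1 : L) : G) := by
      have heq := Subgroup.eq_of_le_of_card_ge (Subgroup.zpowers_le.2 hzd) (by
        rw [Nat.card_zpowers, Nat.card_zpowers, c.orderOf_d]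
        have hdvd : orderOf ((z.1 : L) : G) ∣ 3 := by
          have h0 := Subgroup.orderOf_dvd_natCard _ hzd
          rwa [Nat.card_zpowers, c.orderOf_d] at h0
        rcases (Nat.dvd_prime Nat.prime_three).1 hdvd with h | h
        · exact absurd (orderOf_eq_one_iff.1 h) hz1
        · exact h.ge)
      rw [heq]; exact Subgroup.mem_zpowers _
    obtain ⟨k, hk⟩ := Subgroup.mem_zpowers_iff.1 hgen
    refine small l hl ?_
    rw [← hk]
    exact (Commute.zpow_right (hzc l hl) k).eq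
  · obtain ⟨k, hk⟩ := Subgroup.mem_zpowers_iff.1 hl
    rw [show l = dL ^ k from Subtype.ext (by rw [SubgroupClass.coe_zpow]; exact hk.symm)]
    exact Subgroup.zpow_mem _ hdmem k

/-- No element of `C(g)` is conjugate to `s`. -/
theorem not_conj_s (hS : c.Six) {t w : G} (hw : w * c.g = c.g * w) : t * c.s * t⁻¹ ≠ w := by
  intro h
  haveI : Fact (Nat.Prime 3) := ⟨Nat.prime_three⟩
  set L := Subgroup.centralizer ({c.s} : Set G) with hL
  have hy : t⁻¹ * c.g * t ∈ L := Subgroup.mem_centralizer_singleton_iff.2 (by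
    rw [← h] at hw
    calc t⁻¹ * c.g * t * c.s = t⁻¹ * (c.g * (t * c.s * t⁻¹)) * t := by group
      _ = c.s * (t⁻¹ * c.g * t) := by rw [← hw]; group)
  have hord : orderOf (⟨_, hy⟩ : L) = 3 := by
    rw [← Subgroup.orderOf_coe]
    change orderOf (t⁻¹ * c.g * t) = 3
    have := MulEquiv.orderOf_eq (MulAut.conj t⁻¹) c.g
    rw [MulAut.conj_apply, inv_inv, c.orderOf_g] at this
    exact this
  obtain ⟨Q, hQ⟩ := (IsPGroup.of_card (n := 1)
    (show Nat.card (Subgroup.zpowers (⟨_, hy⟩ : L)) = 3 ^ 1 by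
      rw [Nat.card_zpowers, hord, pow_one])).exists_le_sylow
  obtain ⟨P, hP⟩ := c.exists_sylow_three hS
  obtain ⟨l, hl⟩ := MulAction.exists_smul_eq L Q P
  have hmem : l * ⟨_, hy⟩ * l⁻¹ ∈ (P : Subgroup L) := by
    rw [← hl]
    exact ⟨_, hQ (Subgroup.mem_zpowers _), rfl⟩
  have hmem' : (l : G) * (t⁻¹ * c.g * t) * (l : G)⁻¹ ∈ Subgroup.zpowers c.d := (hP _).1 hmem
  obtain ⟨k, hk⟩ := (mem_powers_iff_mem_zpowers (x := c.d)).2 hmem'
  have hk' : c.d ^ (k % 3) = ((l : G) * t⁻¹) * c.el eThree * ((l : G) * t⁻¹)⁻¹ := by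
    rw [← pow_eq_pow_mod k c.d_cube, show c.d ^ k = _ from hk]
    change (l : G) * (t⁻¹ * c.g * t) * (l : G)⁻¹ = ((l : G) * t⁻¹) * c.g * ((l : G) * t⁻¹)⁻¹
    group
  have hgE := isE_reps.2.2.2.2.2.2.1
  have hdE := isE_reps.2.2.1
  rcases (show k % 3 = 0 ∨ k % 3 = 1 ∨ k % 3 = 2 by omega) with e | e | e <;> rw [e] at hk'
  · rw [pow_zero] at hk'
    exact c.g_ne (conj_eq_one_iff.1 hk'.symm)
  · rw [pow_one] at hk'
    obtain ⟨m, hm⟩ := hS.loc.fusion _ _ hgE hdE _ hk'.symm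
    exact plane_not_fused.2.2.1 (by rw [← hm, AltNineThree.cls_conj])
  · rw [pow_two, d, ← map_mul] at hk'
    obtain ⟨m, hm⟩ := hS.loc.fusion _ _ hgE ((AltNineThree.eSub).mul_mem hdE hdE) _ hk'.symm
    exact plane_not_fused.2.2.2 (by rw [← hm, AltNineThree.cls_conj])

namespace Klein

variable {c} {V : Subgroup G} (hV : c.Klein V)
include hV

theorem exists_cent {z : G} (hz : ∀ v ∈ V, z * v = v * z) :
    ∃ v ∈ V, ∃ k : ℕ, z = v * c.g ^ k ∨ z = v * c.g ^ k * c.s := by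
  classical
  set Z := Subgroup.centralizer (V : Set G)
  have memZ : ∀ {y : G}, y ∈ Z ↔ ∀ v ∈ V, v * y = y * v := Subgroup.mem_centralizer_iff
  have hgZ : c.g ∈ Z := memZ.2 hV.comm_g
  have hsZ : c.s ∈ Z := memZ.2 hV.comm_s
  have hVZ : V ≤ Z := fun v hv => memZ.2 fun w hw => hV.comm hw hv
  let φ : (V × Fin 3) × Fin 2 → Z := fun p =>
    ⟨(p.1.1 : G) * c.g ^ (p.1.2 : ℕ) * c.s ^ (p.2 : ℕ),
      Z.mul_mem (Z.mul_mem (hVZ p.1.1.2) (Z.pow_mem hgZ _)) (Z.pow_mem hsZ _)⟩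
  have hcomm : ∀ (v : V) (a : Fin 3), Commute ((v : G) * c.g ^ (a : ℕ)) c.g := fun v a =>
    (show Commute (v : G) c.g from hV.comm_g v v.2).mul_left ((Commute.refl c.g).pow_left _)
  have hone : ∀ {v w : V} {a b : Fin 3},
      (v : G) * c.g ^ (a : ℕ) = (w : G) * c.g ^ (b : ℕ) * c.s → False := fun {v w a b} h => by
    refine c.s_not_comm_g ?_
    have hs : c.s = ((w : G) * c.g ^ (b : ℕ))⁻¹ * ((v : G) * c.g ^ (a : ℕ)) := by rw [h]; group
    rw [hs]
    exact ((hcomm w b).inv_left.mul_left (hcomm v a)).eq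
  have hinj : Function.Injective φ := by
    rintro ⟨⟨v, a⟩, e⟩ ⟨⟨w, b⟩, f⟩ h
    have h' : (v : G) * c.g ^ (a : ℕ) * c.s ^ (e : ℕ) = (w : G) * c.g ^ (b : ℕ) * c.s ^ (f : ℕ) :=
      congrArg Subtype.val h
    fin_cases e <;> fin_cases f <;> simp only [pow_zero, mul_one, pow_one, mul_left_inj] at h'
    · exact Prod.ext (inj h') rfl
    · exact (hone h').elim
    · exact (hone h'.symm).elim
    · exact Prod.ext (inj h') rfl
  obtain ⟨⟨⟨v, a⟩, e⟩, hva⟩ := (hinj.bijective_of_nat_card_le (by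
    rw [Nat.card_prod, Nat.card_prod, hV.card_eq, Nat.card_eq_fintype_card (α := Fin 3),
      Nat.card_eq_fintype_card (α := Fin 2), Fintype.card_fin, Fintype.card_fin, hV.card_cent])).2
    ⟨z, memZ.2 fun v hv => (hz v hv).symm⟩
  have hva' : (v : G) * c.g ^ (a : ℕ) * c.s ^ (e : ℕ) = z := congrArg Subtype.val hva
  refine ⟨v, v.2, a, ?_⟩
  fin_cases e <;> simp only [pow_zero, mul_one, pow_one] at hva'
  · exact Or.inl hva'.symm
  · exact Or.inr hva'.symm
where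
  inj {v w : V} {a b : Fin 3} (h : (v : G) * c.g ^ (a : ℕ) = (w : G) * c.g ^ (b : ℕ)) :
      (v, a) = (w, b) := by
    have e : c.g ^ (2 * (a : ℕ)) = (c.g ^ (a : ℕ))⁻¹ := eq_inv_of_mul_eq_one_left (by
      rw [← pow_add, show 2 * (a : ℕ) + a = 3 * a by ring, pow_mul, c.g_cube, one_pow])
    have h1 : (w : G)⁻¹ * v = c.g ^ ((b : ℕ) + 2 * (a : ℕ)) := by
      rw [pow_add, e]
      calc (w : G)⁻¹ * v = (w : G)⁻¹ * (v * c.g ^ (a : ℕ)) * (c.g ^ (a : ℕ))⁻¹ := by group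
        _ = _ := by rw [h]; group
    have h2 := hV.g_pow_eq_one (h1 ▸ V.mul_mem (V.inv_mem w.2) v.2)
    rw [h2, inv_mul_eq_one] at h1
    have hvw : v = w := Subtype.ext h1.symm
    subst hvw
    have h3 := pow_inj_mod.1 (mul_left_cancel h)
    rw [c.orderOf_g, Nat.mod_eq_of_lt a.2, Nat.mod_eq_of_lt b.2] at h3
    rw [Fin.ext h3]

theorem cent_s {z : G} (hz : ∀ v ∈ V, z * v = v * z) (hs : z * c.s = c.s * z) :
    ∃ v ∈ V, z = v ∨ z = v * c.s := by
  obtain ⟨v, hv, k, h⟩ := hV.exists_cent hz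
  have hvs : Commute v c.s := hV.comm_s v hv
  have hk : c.g ^ k = 1 := c.g_pow_eq_of_comm_s (by
    have h1 : Commute (c.g ^ k) c.s := by
      rcases h with e | e
      · rw [show c.g ^ k = v⁻¹ * z by rw [e]; group]; exact hvs.inv_left.mul_left hs
      · rw [show c.g ^ k = v⁻¹ * z * c.s⁻¹ by rw [e]; group]
        exact (hvs.inv_left.mul_left hs).mul_left (Commute.refl c.s).inv_left
    exact h1.eq)
  rw [hk, mul_one] at h
  exact ⟨v, hv, h⟩

theorem cube_cent {z : G} (hz : ∀ v ∈ V, z * v = v * z) (h3 : z ^ 3 = 1) : ∃ k : ℕ, z = c.g ^ k := by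
  obtain ⟨v, hv, k, h | h⟩ := hV.exists_cent hz
  · refine ⟨k, ?_⟩
    rw [h, (Commute.pow_right (hV.comm_g v hv) k).mul_pow, ← pow_mul, mul_comm k, pow_mul, c.g_cube,
      one_pow, mul_one] at h3
    rw [h, hV.eq_one_of_cube hv h3, one_mul]
  · refine ⟨0, ?_⟩
    have h2 : z * z = 1 := by
      have hg : c.g ^ k * c.s * (c.g ^ k * c.s) = 1 := by
        have h1 := c.pow_conj_s_g k
        rw [c.s_inv] at h1
        calc c.g ^ k * c.s * (c.g ^ k * c.s) = c.g ^ k * (c.s * c.g ^ k * c.s) := by group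
          _ = 1 := by rw [h1, ← pow_add, show k + 2 * k = 3 * k by ring, pow_mul, c.g_cube, one_pow]
      have hc : Commute (c.g ^ k * c.s) v :=
        ((show Commute v c.g from hV.comm_g v hv).pow_right k |>.mul_right (hV.comm_s v hv)).symm
      rw [h, mul_assoc v, hc.mul_mul_mul_comm, hV.sq v hv, one_mul, hg]
    rw [pow_succ, pow_two, h2, one_mul] at h3
    rw [h3, pow_zero]

theorem d_orbit {v w : G} (hv : v ∈ V) (hv1 : v ≠ 1) (hw : w ∈ V) :
    w = 1 ∨ w = v ∨ w = c.d * v * c.d⁻¹ ∨ w = c.d * (c.d * v * c.d⁻¹) * c.d⁻¹ := by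
  classical
  set a := c.d * v * c.d⁻¹
  set b := c.d * a * c.d⁻¹
  have ha : a ∈ V := hV.conj_d v hv
  have hb : b ∈ V := hV.conj_d a ha
  have hav : a ≠ v := fun e => hv1 (hV.free v hv (mul_inv_eq_iff_eq_mul.1 e).symm)
  have ha1 : a ≠ 1 := fun e => hv1 (conj_eq_one_iff.1 e)
  have hb1 : b ≠ 1 := fun e => ha1 (conj_eq_one_iff.1 e)
  have hba : b ≠ a := fun e => ha1 (hV.free a ha (mul_inv_eq_iff_eq_mul.1 e).symm)
  have hbv : b ≠ v := fun e => by
    have : c.d * b * c.d⁻¹ = v := by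
      calc c.d * b * c.d⁻¹ = c.d ^ 3 * v * (c.d ^ 3)⁻¹ := by
            simp only [a, b, pow_succ, pow_zero, one_mul]; group
        _ = v := by rw [c.d_cube]; group
    exact hv1 (hV.free v hv (mul_inv_eq_iff_eq_mul.1 (e ▸ this)).symm)
  by_contra h
  push Not at h
  have hsub : ({1, v, a, b, w} : Finset G) ⊆ (Set.toFinite (V : Set G)).toFinset := by
    intro y hy
    simp only [Finset.mem_insert, Finset.mem_singleton] at hy
    simp only [Set.Finite.mem_toFinset, SetLike.mem_coe]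
    rcases hy with rfl | rfl | rfl | rfl | rfl
    exacts [one_mem _, hv, ha, hb, hw]
  have h5 := Finset.card_le_card hsub
  rw [← Nat.card_eq_card_finite_toFinset, show Nat.card (V : Set G) = 4 from hV.card_eq] at h5
  have : ({1, v, a, b, w} : Finset G).card = 5 := by
    rw [Finset.card_insert_of_notMem, Finset.card_insert_of_notMem, Finset.card_insert_of_notMem,
      Finset.card_insert_of_notMem, Finset.card_singleton] <;>
      simp only [Finset.mem_insert, Finset.mem_singleton] <;>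
      grind
  omega

/-- Every element `v * s` with `v` in `V` is conjugate to `s` as soon as one is, `v ≠ 1`. -/
theorem conj_s_of_conj {v w t : G} (hv : v ∈ V) (hv1 : v ≠ 1) (hw : w ∈ V) (hw1 : w ≠ 1)
    (h : t * c.s * t⁻¹ = v * c.s) : ∃ t' : G, t' * c.s * t'⁻¹ = w * c.s := by
  have step : ∀ {u x : G}, x * c.s * x⁻¹ = u * c.s →
      c.d * x * c.s * (c.d * x)⁻¹ = c.d * u * c.d⁻¹ * c.s := fun {u x} e => by
    have hds : c.d⁻¹ * c.s = c.s * c.d⁻¹ := ((show Commute c.d c.s from c.d_comm_s).inv_left).eq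
    calc c.d * x * c.s * (c.d * x)⁻¹ = c.d * (x * c.s * x⁻¹) * c.d⁻¹ := by group
      _ = c.d * u * (c.s * c.d⁻¹) := by rw [e]; group
      _ = c.d * u * c.d⁻¹ * c.s := by rw [← hds]; group
  rcases hV.d_orbit hv hv1 hw with e | e | e | e
  · exact absurd e hw1
  · exact ⟨t, e ▸ h⟩
  · exact ⟨c.d * t, e ▸ step h⟩
  · exact ⟨c.d * (c.d * t), e ▸ step (step h)⟩

/-- The action of `C(g) ∩ N(V)` fixes `s` modulo `⟨g⟩`. -/
theorem conj_s_of_normalizes {a : G} (hag : a * c.g = c.g * a)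
    (haV : ∀ v ∈ V, a * v * a⁻¹ ∈ V) {v₀ : G} (hv₀ : v₀ ∈ V) (hv₀1 : v₀ ≠ 1)
    (hi : c.i * v₀ * c.i⁻¹ = v₀) : ∃ k : ℕ, a * c.s * a⁻¹ = c.g ^ k * c.s * (c.g ^ k)⁻¹ := by
  obtain ⟨j, hj⟩ : ∃ j : ℕ, c.d ^ j * v₀ * (c.d ^ j)⁻¹ = a * v₀ * a⁻¹ := by
    rcases hV.d_orbit hv₀ hv₀1 (haV v₀ hv₀) with e | e | e | e
    · exact absurd (conj_eq_one_iff.1 e) hv₀1
    · exact ⟨0, by rw [pow_zero, one_mul, inv_one, mul_one, e]⟩
    · exact ⟨1, by rw [pow_one, e]⟩
    · exact ⟨2, by rw [e]; simp only [pow_two]; group⟩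
  have hdpow : ∀ (n : ℕ) {v : G}, v ∈ V → c.d ^ n * v * (c.d ^ n)⁻¹ ∈ V := fun n => by
    induction n with
    | zero => intro v hv; simpa using hv
    | succ n ih =>
      intro v hv
      rw [show c.d ^ (n + 1) * v * (c.d ^ (n + 1))⁻¹ = c.d ^ n * (c.d * v * c.d⁻¹) * (c.d ^ n)⁻¹ by
        rw [pow_succ]; group]
      exact ih (hV.conj_d v hv)
  have hdinv : (c.d ^ j)⁻¹ = c.d ^ (2 * j) := inv_eq_of_mul_eq_one_right (by
    rw [← pow_add, show j + 2 * j = 3 * j by ring, pow_mul, c.d_cube, one_pow])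
  set a₁ := (c.d ^ j)⁻¹ * a with ha₁
  have h₁ : a₁ * v₀ * a₁⁻¹ = v₀ := by
    rw [ha₁, show (c.d ^ j)⁻¹ * a * v₀ * ((c.d ^ j)⁻¹ * a)⁻¹ =
      (c.d ^ j)⁻¹ * (a * v₀ * a⁻¹) * c.d ^ j by group, ← hj]
    group
  have h₁V : ∀ v ∈ V, a₁ * v * a₁⁻¹ ∈ V := fun v hv => by
    rw [show a₁ * v * a₁⁻¹ = (c.d ^ j)⁻¹ * (a * v * a⁻¹) * c.d ^ j by rw [ha₁]; group]
    have := hdpow (2 * j) (haV v hv)
    rwa [← hdinv, inv_inv] at this
  set v₁ := c.d * v₀ * c.d⁻¹ with hv₁def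
  have hv₁ : v₁ ∈ V := hV.conj_d v₀ hv₀
  have hv₁0 : v₁ ≠ v₀ := fun e => hv₀1 (hV.free v₀ hv₀ (mul_inv_eq_iff_eq_mul.1 e).symm)
  have hv₁1 : v₁ ≠ 1 := fun e => hv₀1 (conj_eq_one_iff.1 e)
  have himove : c.i * v₁ * c.i⁻¹ ≠ v₁ := fun e => by
    have h : c.d * c.d * v₀ * (c.d * c.d)⁻¹ = c.d * v₀ * c.d⁻¹ := by
      calc c.d * c.d * v₀ * (c.d * c.d)⁻¹ = c.i * c.d * c.i⁻¹ * v₀ * (c.i * c.d * c.i⁻¹)⁻¹ := by
            rw [c.i_conj_d]
        _ = c.i * (c.d * (c.i⁻¹ * v₀ * c.i) * c.d⁻¹) * c.i⁻¹ := by group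
        _ = c.i * (c.d * v₀ * c.d⁻¹) * c.i⁻¹ := by
          rw [show c.i⁻¹ * v₀ * c.i = v₀ by
            conv_lhs => rw [← hi]
            group]
        _ = _ := e
    refine hv₁1 (hV.free v₁ hv₁ (mul_inv_eq_iff_eq_mul.1 (?_ : c.d * v₁ * c.d⁻¹ = v₁)).symm)
    rw [hv₁def]
    calc c.d * (c.d * v₀ * c.d⁻¹) * c.d⁻¹ = c.d * c.d * v₀ * (c.d * c.d)⁻¹ := by group
      _ = _ := h
  -- an element `w` of `⟨d, i⟩` acting as `a` does
  obtain ⟨w, hwg, hws, hwV⟩ : ∃ w : G, w * c.g = c.g * w ∧ w * c.s = c.s * w ∧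
      ∀ v ∈ V, w⁻¹ * a * v = v * (w⁻¹ * a) := by
    have hdg : Commute (c.d ^ j) c.g := (show Commute c.d c.g from c.d_comm_g).pow_left j
    have hds : Commute (c.d ^ j) c.s := (show Commute c.d c.s from c.d_comm_s).pow_left j
    have hall : ∀ {b : G}, b * v₀ * b⁻¹ = v₀ → b * v₁ * b⁻¹ = v₁ → ∀ v ∈ V, b * v * b⁻¹ = v := by
      intro b hb0 hb1 v hv
      have hfour : v = 1 ∨ v = v₀ ∨ v = v₁ ∨ v = v₀ * v₁ := by
        rcases hV.d_orbit hv₀ hv₀1 hv with e | e | e | e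
        · exact Or.inl e
        · exact Or.inr (Or.inl e)
        · exact Or.inr (Or.inr (Or.inl e))
        · rcases hV.d_orbit hv₀ hv₀1 (V.mul_mem hv₀ hv₁) with f | f | f | f
          · exact absurd (eq_inv_of_mul_eq_one_right f |>.trans (hV.inv_eq hv₀)) hv₁0
          · exact absurd (mul_left_cancel (f.trans (mul_one v₀).symm)) hv₁1
          · exact absurd (mul_right_cancel (f.trans (one_mul v₁).symm)) hv₀1
          · exact Or.inr (Or.inr (Or.inr (e.trans f.symm)))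
      rcases hfour with e | e | e | e <;> subst e
      · simp
      · exact hb0
      · exact hb1
      · calc b * (v₀ * v₁) * b⁻¹ = b * v₀ * b⁻¹ * (b * v₁ * b⁻¹) := by group
          _ = _ := by rw [hb0, hb1]
    have hv₂ := hV.d_orbit hv₀ hv₀1 (h₁V v₁ hv₁)
    have hnot1 : a₁ * v₁ * a₁⁻¹ ≠ 1 := fun e => hv₁1 (conj_eq_one_iff.1 e)
    have hnot0 : a₁ * v₁ * a₁⁻¹ ≠ v₀ := fun e =>
      hv₁0 (mul_left_cancel (mul_right_cancel (e.trans h₁.symm)))
    rcases hv₂ with e | e | e | e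
    · exact absurd e hnot1
    · exact absurd e hnot0
    · refine ⟨c.d ^ j, hdg.eq, hds.eq, fun v hv => ?_⟩
      exact mul_inv_eq_iff_eq_mul.1 (hall h₁ e v hv)
    · refine ⟨c.d ^ j * c.i, (hdg.mul_left c.i_comm_g).eq, (hds.mul_left c.i_comm_s).eq,
        fun v hv => ?_⟩
      refine mul_inv_eq_iff_eq_mul.1 (hall ?_ ?_ v hv)
      · calc (c.d ^ j * c.i)⁻¹ * a * v₀ * ((c.d ^ j * c.i)⁻¹ * a)⁻¹
            = c.i⁻¹ * (a₁ * v₀ * a₁⁻¹) * c.i := by rw [ha₁]; group
          _ = v₀ := by rw [h₁]; conv_lhs => rw [← hi]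
                       group
      · have hiv : c.i * v₁ * c.i⁻¹ = c.d * v₁ * c.d⁻¹ := by
          rcases hV.d_orbit hv₀ hv₀1 (hV.conj_i v₁ hv₁) with f | f | f | f
          · exact absurd (conj_eq_one_iff.1 f) hv₁1
          · exact absurd (mul_left_cancel (mul_right_cancel (f.trans hi.symm))) hv₁0
          · exact absurd f himove
          · exact f
        calc (c.d ^ j * c.i)⁻¹ * a * v₁ * ((c.d ^ j * c.i)⁻¹ * a)⁻¹
            = c.i⁻¹ * (a₁ * v₁ * a₁⁻¹) * c.i := by rw [ha₁]; group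
          _ = c.i⁻¹ * (c.i * v₁ * c.i⁻¹) * c.i := by rw [e, hiv]
          _ = v₁ := by group
  have hwa : w⁻¹ * a * c.g = c.g * (w⁻¹ * a) :=
    ((show Commute w c.g from hwg).inv_left.mul_left hag).eq
  obtain ⟨v, hv, k, hk⟩ := hV.exists_of_comm hwa hwV
  refine ⟨k, ?_⟩
  have hgs : c.g ^ k * c.s * (c.g ^ k)⁻¹ = c.g ^ (2 * k) * c.s := by
    rw [← c.pow_conj_s_g k]
    have hk' : (c.g ^ k)⁻¹ = c.g ^ (2 * k) := inv_eq_of_mul_eq_one_right (by
      rw [← pow_add, show k + 2 * k = 3 * k by ring, pow_mul, c.g_cube, one_pow])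
    have h1 := c.pow_conj_s_g (2 * k)
    rw [← hk'] at h1
    calc c.g ^ k * c.s * (c.g ^ k)⁻¹ = c.g ^ k * (c.s * (c.g ^ k)⁻¹ * c.s⁻¹) * c.s := by group
      _ = c.g ^ k * c.g ^ (2 * (2 * k)) * c.s := by rw [h1]
      _ = c.g ^ (2 * k) * c.s := by
        rw [← pow_add, c.g_pow_mod (k + 2 * (2 * k)), c.g_pow_mod (2 * k)]
        congr 2
        omega
      _ = c.s * c.g ^ k * c.s⁻¹ * c.s := by rw [c.pow_conj_s_g]
  rw [show a = w * (w⁻¹ * a) by group, hk]
  have hvs : Commute v c.s := hV.comm_s v hv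
  have hvgk : Commute v (c.g ^ k) := (show Commute v c.g from hV.comm_g v hv).pow_right k
  calc w * (v * c.g ^ k) * c.s * (w * (v * c.g ^ k))⁻¹
      = w * (v * (c.g ^ k * c.s * (c.g ^ k)⁻¹) * v⁻¹) * w⁻¹ := by group
    _ = w * (c.g ^ (2 * k) * c.s) * w⁻¹ := by
      rw [hgs, (((show Commute v c.g from hV.comm_g v hv).pow_right _).mul_right hvs).eq,
        mul_inv_cancel_right]
    _ = c.g ^ (2 * k) * c.s := by
      rw [(((show Commute w c.g from hwg).pow_right _).mul_right hws).eq, mul_inv_cancel_right]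
    _ = _ := hgs.symm

end Klein

end Setup

end CfsgLib.AltNineRecog
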