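import Cfsg.Agent.AltNineRecog.CentSSixteen
import Mathlib.GroupTheory.SpecificGroups.Cyclic

/-!
# Thompson transfer in the small case
-/

set_option autoImplicit false
set_option linter.style.haveILetI false
set_option linter.unusedSectionVars false

namespace CfsgLib.AltNineRecog

open CfsgLib.AltNineThree (M IsE eOne eMix eAll eThree tOne tTwo gThree cls)

set_option maxRecDepth 20000

universe u

namespace Setup

variable {G : Type u} [Group G] [Finite G] (c : Setup G)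

namespace Klein

variable {c} {V : Subgroup G} (hV : c.Klein V)
include hV

theorem i_notMem : c.i ∉ V := fun h =>
  centS_rels.2.1 (c.el_injective ((hV.eq_one_of_mem_H h (c.el_mem tOne)).trans (map_one _).symm))

theorem conj_i_conj_i (v : G) : c.i * (c.i * v * c.i⁻¹) * c.i⁻¹ = v := by
  calc c.i * (c.i * v * c.i⁻¹) * c.i⁻¹ = c.i * c.i * v * (c.i * c.i)⁻¹ := by group
    _ = v := by rw [c.i_sq]; group

/-- The involution of `V` fixed by `i`. -/
theorem exists_fixed : ∃ v₀ ∈ V, v₀ ≠ 1 ∧ c.i * v₀ * c.i⁻¹ = v₀ ∧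
    ∀ v ∈ V, c.i * v * c.i⁻¹ = v → v = 1 ∨ v = v₀ := by
  obtain ⟨v, hv, hv1⟩ := hV.exists_ne_one
  obtain ⟨v₀, hv₀, hv₀1, hi⟩ : ∃ v₀ ∈ V, v₀ ≠ 1 ∧ c.i * v₀ * c.i⁻¹ = v₀ := by
    by_cases h : c.i * v * c.i⁻¹ = v
    · exact ⟨v, hv, hv1, h⟩
    · refine ⟨v * (c.i * v * c.i⁻¹), V.mul_mem hv (hV.conj_i v hv), fun e => h ?_, ?_⟩
      · rw [eq_inv_of_mul_eq_one_right e, hV.inv_eq hv]
      · calc c.i * (v * (c.i * v * c.i⁻¹)) * c.i⁻¹
            = c.i * v * c.i⁻¹ * (c.i * (c.i * v * c.i⁻¹) * c.i⁻¹) := by group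
          _ = c.i * v * c.i⁻¹ * v := by rw [hV.conj_i_conj_i]
          _ = _ := hV.comm (hV.conj_i v hv) hv
  refine ⟨v₀, hv₀, hv₀1, hi, fun w hw hwi => ?_⟩
  rcases hV.d_orbit hv₀ hv₀1 hw with e | e | e | e
  · exact Or.inl e
  · exact Or.inr e
  all_goals exfalso
  · subst e
    have h : c.d * c.d * v₀ * (c.d * c.d)⁻¹ = c.d * v₀ * c.d⁻¹ := by
      calc c.d * c.d * v₀ * (c.d * c.d)⁻¹ = c.i * c.d * c.i⁻¹ * v₀ * (c.i * c.d * c.i⁻¹)⁻¹ := by
            rw [c.i_conj_d]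
        _ = c.i * (c.d * (c.i⁻¹ * v₀ * c.i) * c.d⁻¹) * c.i⁻¹ := by group
        _ = c.i * (c.d * v₀ * c.d⁻¹) * c.i⁻¹ := by
          rw [show c.i⁻¹ * v₀ * c.i = v₀ by
            conv_lhs => rw [← hi]
            group]
        _ = _ := hwi
    refine hv₀1 (conj_eq_one_iff.1 (hV.free _ hw (mul_inv_eq_iff_eq_mul.1
      (?_ : c.d * (c.d * v₀ * c.d⁻¹) * c.d⁻¹ = c.d * v₀ * c.d⁻¹)).symm))
    calc c.d * (c.d * v₀ * c.d⁻¹) * c.d⁻¹ = c.d * c.d * v₀ * (c.d * c.d)⁻¹ := by group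
      _ = _ := h
  · subst e
    set u := c.d * v₀ * c.d⁻¹
    have h : c.d * c.d * v₀ * (c.d * c.d)⁻¹ = c.i * (c.d * v₀ * c.d⁻¹) * c.i⁻¹ := by
      calc c.d * c.d * v₀ * (c.d * c.d)⁻¹ = c.i * c.d * c.i⁻¹ * v₀ * (c.i * c.d * c.i⁻¹)⁻¹ := by
            rw [c.i_conj_d]
        _ = c.i * (c.d * (c.i⁻¹ * v₀ * c.i) * c.d⁻¹) * c.i⁻¹ := by group
        _ = _ := by
          rw [show c.i⁻¹ * v₀ * c.i = v₀ by
            conv_lhs => rw [← hi]
            group]
    have h1 : c.d * u * c.d⁻¹ = c.i * u * c.i⁻¹ := by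
      rw [← h]; simp only [u]; group
    have h2 : u = c.d * u * c.d⁻¹ := by
      have := hwi
      rw [h1, hV.conj_i_conj_i] at this
      rw [h1]; exact this
    have hu : u ∈ V := hV.conj_d v₀ hv₀
    exact hv₀1 (conj_eq_one_iff.1 (hV.free u hu (mul_inv_eq_iff_eq_mul.1 h2.symm).symm))

/-- A Sylow 2-subgroup of `C(g)`. -/
theorem exists_dihedral : ∃ D : Subgroup G, Nat.card D = 8 ∧
    ∀ x, x ∈ D ↔ ∃ v ∈ V, x = v ∨ x = v * c.i := by
  classical
  have hiv : ∀ {v}, v ∈ V → c.i * v = (c.i * v * c.i⁻¹) * c.i := fun {v} _ => by group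
  let D : Subgroup G :=
    { carrier := {x | ∃ v ∈ V, x = v ∨ x = v * c.i}
      one_mem' := ⟨1, one_mem _, Or.inl rfl⟩
      mul_mem' := by
        rintro a b ⟨v, hv, e1 | e1⟩ ⟨w, hw, e2 | e2⟩ <;> rw [e1, e2]
        · exact ⟨_, V.mul_mem hv hw, Or.inl rfl⟩
        · exact ⟨_, V.mul_mem hv hw, Or.inr (by group)⟩
        · refine ⟨_, V.mul_mem hv (hV.conj_i w hw), Or.inr ?_⟩
          rw [mul_assoc v c.i, hiv hw]; group
        · refine ⟨_, V.mul_mem hv (hV.conj_i w hw), Or.inl ?_⟩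
          calc v * c.i * (w * c.i) = v * (c.i * w * c.i⁻¹) * (c.i * c.i) := by group
            _ = _ := by rw [c.i_sq, mul_one]
      inv_mem' := by
        rintro x ⟨v, hv, e | e⟩ <;> rw [e]
        · exact ⟨_, V.inv_mem hv, Or.inl rfl⟩
        · refine ⟨_, hV.conj_i _ (V.inv_mem hv), Or.inr ?_⟩
          rw [inv_mul_cancel_right, mul_inv_rev, c.i_inv] }
  refine ⟨D, ?_, fun x => Iff.rfl⟩
  let φ : V × Fin 2 → D := fun p => ⟨(p.1 : G) * c.i ^ (p.2 : ℕ), p.1, p.1.2, by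
    obtain ⟨v, e⟩ := p; fin_cases e
    · exact Or.inl (by simp)
    · exact Or.inr (by simp)⟩
  have hbij : Function.Bijective φ := by
    refine ⟨?_, ?_⟩
    · rintro ⟨v, e⟩ ⟨w, f⟩ h
      have h' : (v : G) * c.i ^ (e : ℕ) = (w : G) * c.i ^ (f : ℕ) := congrArg Subtype.val h
      fin_cases e <;> fin_cases f <;> simp only [pow_zero, mul_one, pow_one, mul_left_inj] at h'
      · rw [Subtype.ext h']
      · exact absurd (show c.i ∈ V by
          rw [show c.i = (w : G)⁻¹ * v by rw [h']; group]; exact V.mul_mem (V.inv_mem w.2) v.2)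
          hV.i_notMem
      · exact absurd (show c.i ∈ V by
          rw [show c.i = (v : G)⁻¹ * w by rw [← h']; group]; exact V.mul_mem (V.inv_mem v.2) w.2)
          hV.i_notMem
      · rw [Subtype.ext h']
    · rintro ⟨x, v, hv, e | e⟩ <;> subst x
      · exact ⟨(⟨v, hv⟩, 0), Subtype.ext (by simp [φ])⟩
      · exact ⟨(⟨v, hv⟩, 1), Subtype.ext (by simp [φ])⟩
  rw [← Nat.card_congr (Equiv.ofBijective φ hbij), Nat.card_prod, hV.card_eq,
    Nat.card_eq_fintype_card (α := Fin 2), Fintype.card_fin]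

/-- Thompson's transfer lemma applies when `32` does not divide `|C(s)|`. -/
theorem thirty_two_dvd : 32 ∣ Nat.card (Subgroup.centralizer ({c.s} : Set G)) := by
  classical
  by_contra h32
  haveI : Fact (Nat.Prime 2) := ⟨Nat.prime_two⟩
  obtain ⟨v₀, hv₀, hv₀1, hi₀, hv₀u⟩ := hV.exists_fixed
  obtain ⟨D, hD8, memD⟩ := hV.exists_dihedral
  have hVD : V ≤ D := fun v hv => (memD v).2 ⟨v, hv, Or.inl rfl⟩
  have hiD : c.i ∈ D := (memD _).2 ⟨1, one_mem _, Or.inr (one_mul _).symm⟩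
  have hDg : ∀ a ∈ D, a * c.g = c.g * a := by
    intro a ha
    obtain ⟨v, hv, rfl | rfl⟩ := (memD a).1 ha
    · exact hV.comm_g _ hv
    · exact ((show Commute v c.g from hV.comm_g v hv).mul_left c.i_comm_g).eq
  have hDs : ∀ a ∈ D, a * c.s = c.s * a := by
    intro a ha
    obtain ⟨v, hv, rfl | rfl⟩ := (memD a).1 ha
    · exact hV.comm_s _ hv
    · exact ((show Commute v c.s from hV.comm_s v hv).mul_left c.i_comm_s).eq
  have hDsq : ∀ a ∈ D, a * a = 1 ∨ a * a = v₀ := by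
    intro a ha
    obtain ⟨v, hv, rfl | rfl⟩ := (memD a).1 ha
    · exact Or.inl (hV.sq _ hv)
    · have e : v * c.i * (v * c.i) = v * (c.i * v * c.i⁻¹) := by
        calc v * c.i * (v * c.i) = v * (c.i * v * c.i⁻¹) * (c.i * c.i) := by group
          _ = _ := by rw [c.i_sq, mul_one]
      rw [e]
      refine hv₀u _ (V.mul_mem hv (hV.conj_i v hv)) ?_
      calc c.i * (v * (c.i * v * c.i⁻¹)) * c.i⁻¹
          = c.i * v * c.i⁻¹ * (c.i * (c.i * v * c.i⁻¹) * c.i⁻¹) := by group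
        _ = c.i * v * c.i⁻¹ * v := by rw [hV.conj_i_conj_i]
        _ = _ := hV.comm (hV.conj_i v hv) hv
  -- a square that is not trivial
  obtain ⟨q, hqD, hq⟩ : ∃ q ∈ D, q * q = v₀ := by
    set v₁ := c.d * v₀ * c.d⁻¹ with hv₁
    have hq : v₁ * c.i ∈ D := (memD _).2 ⟨v₁, hV.conj_d v₀ hv₀, Or.inr rfl⟩
    refine ⟨_, hq, (hDsq _ hq).resolve_left fun e => ?_⟩
    have hfix : c.i * v₁ * c.i⁻¹ = v₁ := by
      rw [c.i_inv]
      calc c.i * v₁ * c.i = v₁⁻¹ * (v₁ * c.i * (v₁ * c.i)) := by group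
        _ = v₁ := by rw [e, mul_one, hV.inv_eq (hV.conj_d v₀ hv₀)]
    rcases hv₀u v₁ (hV.conj_d v₀ hv₀) hfix with e' | e'
    · exact hv₀1 (conj_eq_one_iff.1 e')
    · exact hv₀1 (hV.free v₀ hv₀ (mul_inv_eq_iff_eq_mul.1 e').symm)
  have hnsD : c.s ∉ D := fun h => c.s_not_comm_g (hDg _ h)
  let T : Subgroup G :=
    { carrier := {x | ∃ a ∈ D, x = a ∨ x = a * c.s}
      one_mem' := ⟨1, one_mem _, Or.inl rfl⟩
      mul_mem' := by
        rintro x y ⟨a, ha, e1 | e1⟩ ⟨b, hb, e2 | e2⟩ <;> rw [e1, e2]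
        · exact ⟨_, D.mul_mem ha hb, Or.inl rfl⟩
        · exact ⟨_, D.mul_mem ha hb, Or.inr (by group)⟩
        · refine ⟨_, D.mul_mem ha hb, Or.inr ?_⟩
          rw [mul_assoc a c.s, ← hDs b hb, ← mul_assoc]
        · refine ⟨_, D.mul_mem ha hb, Or.inl ?_⟩
          calc a * c.s * (b * c.s) = a * (c.s * b) * c.s := by group
            _ = a * b * (c.s * c.s) := by rw [← hDs b hb]; group
            _ = _ := by rw [c.s_sq, mul_one]
      inv_mem' := by
        rintro _ ⟨a, ha, rfl | rfl⟩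
        · exact ⟨_, D.inv_mem ha, Or.inl rfl⟩
        · refine ⟨_, D.inv_mem ha, Or.inr ?_⟩
          rw [mul_inv_rev, c.s_inv, ← hDs _ (D.inv_mem ha)] }
  have hsT : c.s ∈ T := ⟨1, one_mem _, Or.inr (one_mul _).symm⟩
  have hDT : D ≤ T := fun a ha => ⟨a, ha, Or.inl rfl⟩
  have hTsq : ∀ x ∈ T, x * x = 1 ∨ x * x = v₀ := by
    rintro _ ⟨a, ha, rfl | rfl⟩
    · exact hDsq _ ha
    · rw [(show Commute c.s a from (hDs a ha).symm).mul_mul_mul_comm, c.s_sq, mul_one]
      exact hDsq a ha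
  have hT16 : Nat.card T = 16 := by
    let φ : D × Fin 2 → T := fun p => ⟨(p.1 : G) * c.s ^ (p.2 : ℕ), p.1, p.1.2, by
      obtain ⟨v, e⟩ := p; fin_cases e
      · exact Or.inl (by simp)
      · exact Or.inr (by simp)⟩
    have hbij : Function.Bijective φ := by
      refine ⟨?_, ?_⟩
      · rintro ⟨v, e⟩ ⟨w, f⟩ h
        have h' : (v : G) * c.s ^ (e : ℕ) = (w : G) * c.s ^ (f : ℕ) := congrArg Subtype.val h
        fin_cases e <;> fin_cases f <;> simp only [pow_zero, mul_one, pow_one, mul_left_inj] at h'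
        · rw [Subtype.ext h']
        · exact absurd (show c.s ∈ D by
            rw [show c.s = (w : G)⁻¹ * v by rw [h']; group]; exact D.mul_mem (D.inv_mem w.2) v.2) hnsD
        · exact absurd (show c.s ∈ D by
            rw [show c.s = (v : G)⁻¹ * w by rw [← h']; group]; exact D.mul_mem (D.inv_mem v.2) w.2) hnsD
        · rw [Subtype.ext h']
      · rintro ⟨x, a, ha, e | e⟩ <;> subst x
        · exact ⟨(⟨a, ha⟩, 0), Subtype.ext (by simp [φ])⟩
        · exact ⟨(⟨a, ha⟩, 1), Subtype.ext (by simp [φ])⟩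
    rw [← Nat.card_congr (Equiv.ofBijective φ hbij), Nat.card_prod, hD8,
      Nat.card_eq_fintype_card (α := Fin 2), Fintype.card_fin]
  have hT2 : IsPGroup 2 T := IsPGroup.of_card (n := 4) (by rw [hT16]; norm_num)
  set L := Subgroup.centralizer ({c.s} : Set G) with hL
  have hTL : T ≤ L := by
    rintro _ ⟨a, ha, rfl | rfl⟩ <;> refine Subgroup.mem_centralizer_singleton_iff.2 ?_
    · exact hDs _ ha
    · exact ((show Commute a c.s from hDs a ha).mul_left (Commute.refl c.s)).eq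
  obtain ⟨S, hTS⟩ := hT2.exists_le_sylow
  have hSL : (S : Subgroup G) ⊓ L = T := by
    refine (Subgroup.eq_of_le_of_card_ge (le_inf hTS hTL) ?_).symm
    obtain ⟨n, hn⟩ := IsPGroup.iff_card.1 (S.isPGroup'.to_le (inf_le_left : (S : Subgroup G) ⊓ L ≤ _))
    rw [hn, hT16]
    by_contra h
    exact h32 ((pow_dvd_pow 2 (show 5 ≤ n by
      by_contra h5
      exact h (by
        calc 2 ^ n ≤ 2 ^ 4 := Nat.pow_le_pow_right (by norm_num) (by omega)
          _ = 16 := by norm_num))).trans (hn ▸ Subgroup.card_dvd_of_le inf_le_right))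
  have hDmax : ∀ R : Subgroup G, IsPGroup 2 R → D ≤ R → (∀ a ∈ R, a * c.g = c.g * a) → R = D := by
    intro R hR hDR hRg
    refine (Subgroup.eq_of_le_of_card_ge hDR ?_).symm
    obtain ⟨n, hn⟩ := IsPGroup.iff_card.1 hR
    rw [hn, hD8]
    by_contra h
    have hle : R ≤ Subgroup.centralizer ({c.g} : Set G) := fun a ha =>
      Subgroup.mem_centralizer_singleton_iff.2 (hRg a ha)
    have h16 := (pow_dvd_pow 2 (show 4 ≤ n by
      by_contra h4
      exact h (by
        calc 2 ^ n ≤ 2 ^ 3 := Nat.pow_le_pow_right (by norm_num) (by omega)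
          _ = 8 := by norm_num))).trans (hn ▸ Subgroup.card_dvd_of_le hle)
    rw [hV.six.card_cent] at h16
    norm_num at h16
  by_cases hST : (S : Subgroup G) ≤ L
  · have hTS' : T = (S : Subgroup G) := by rw [← hSL]; exact inf_eq_left.2 hST
    rcases Cfsg.Agent.S0111.thompson_transfer S D (hTS' ▸ hDT) (by
        have h1 := Subgroup.relIndex_mul_relIndex ⊥ D T bot_le hDT
        rw [Subgroup.relIndex_bot_left, Subgroup.relIndex_bot_left, hD8, hT16] at h1
        rw [← hTS']; omega) c.s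
        (orderOf_eq_prime (by rw [pow_two, c.s_sq]) c.s_ne) (hTS hsT) hnsD with
      ⟨M, hM, hM2, hsM⟩ | ⟨t, ht⟩
    · haveI := hM
      have hc2 : Nat.card (G ⧸ M) = 2 := by rw [← Subgroup.index_eq_card]; exact hM2
      let e := mulEquivOfPrimeCardEq (p := 2) (G' := Multiplicative (ZMod 2)) hc2 (by simp)
      have := hV.six.hom_two (e.toMonoidHom.comp (QuotientGroup.mk' M)) c.s (c.el_mem tTwo)
      exact hsM ((QuotientGroup.eq_one_iff c.s).1 (e.injective (this.trans e.map_one.symm)))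
    · exact c.not_conj_s hV.six (hDg _ ht) rfl
  -- an element of the normaliser of `T` moving `s`
  obtain ⟨t, htS, htT, htL⟩ :
      ∃ t ∈ (S : Subgroup G), (∀ x ∈ T, t * x * t⁻¹ ∈ T) ∧ t ∉ L := by
    haveI : Group.IsNilpotent (S : Subgroup G) := S.isPGroup'.isNilpotent
    have hne : T.subgroupOf (S : Subgroup G) < ⊤ := by
      refine lt_top_iff_ne_top.2 fun h => hST fun x hx => ?_
      have : (⟨x, hx⟩ : (S : Subgroup G)) ∈ T.subgroupOf (S : Subgroup G) := by rw [h]; trivial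
      exact hTL (Subgroup.mem_subgroupOf.1 this)
    obtain ⟨t, ht, htn⟩ := SetLike.exists_of_lt
      (Group.normalizerCondition_of_isNilpotent (T.subgroupOf (S : Subgroup G)) hne)
    refine ⟨t, t.2, fun x hx => ?_, fun h => htn ?_⟩
    · have := (Subgroup.mem_normalizer_iff.1 ht ⟨x, hTS hx⟩).1 (Subgroup.mem_subgroupOf.2 hx)
      exact Subgroup.mem_subgroupOf.1 this
    · rw [Subgroup.mem_subgroupOf, ← hSL]
      exact ⟨t.2, h⟩
  have htT' : ∀ x ∈ T, t⁻¹ * x * t ∈ T := by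
    intro x hx
    have hmap : T.map (MulAut.conj t).toMonoidHom = T := Subgroup.eq_of_le_of_card_ge
      (by rintro _ ⟨y, hy, rfl⟩; exact htT y hy)
      (le_of_eq (Subgroup.card_map_of_injective (MulAut.conj t).injective).symm)
    rw [← hmap] at hx
    obtain ⟨y, hy, rfl⟩ := hx
    simpa [mul_assoc] using hy
  have hs' : t * c.s * t⁻¹ = v₀ * c.s := by
    have hsC : ∀ x ∈ T, t * c.s * t⁻¹ * x = x * (t * c.s * t⁻¹) := by
      intro x hx
      have h := Subgroup.mem_centralizer_singleton_iff.1 (hTL (htT' x hx))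
      calc t * c.s * t⁻¹ * x = t * (c.s * (t⁻¹ * x * t)) * t⁻¹ := by group
        _ = _ := by rw [← h]; group
    have hfix : ∀ a ∈ D, (∀ v ∈ V, a * v = v * a) → a * c.i = c.i * a → a = 1 ∨ a = v₀ := by
      intro a ha haV hai
      obtain ⟨v, hv, rfl | rfl⟩ := (memD a).1 ha
      · exact hv₀u _ hv (mul_inv_eq_iff_eq_mul.2 hai.symm)
      · exfalso
        have hd := hV.conj_d v₀ hv₀
        have h1 := haV _ hd
        have hfix : c.i * (c.d * v₀ * c.d⁻¹) * c.i⁻¹ = c.d * v₀ * c.d⁻¹ := by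
          refine mul_inv_eq_iff_eq_mul.2 ?_
          calc c.i * (c.d * v₀ * c.d⁻¹) = v⁻¹ * (v * c.i * (c.d * v₀ * c.d⁻¹)) := by group
            _ = v⁻¹ * (c.d * v₀ * c.d⁻¹ * v * c.i) := by rw [h1]; group
            _ = c.d * v₀ * c.d⁻¹ * c.i := by rw [hV.comm hd hv]; group
        rcases hv₀u _ hd hfix with e | e
        · exact hv₀1 (conj_eq_one_iff.1 e)
        · exact hv₀1 (hV.free v₀ hv₀ (mul_inv_eq_iff_eq_mul.1 e).symm)
    obtain ⟨a, ha, e | e⟩ := htT _ hsT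
    · exact absurd e (c.not_conj_s hV.six (hDg a ha))
    · have hac : ∀ x ∈ D, a * x = x * a := fun x hx => by
        have h := hsC x (hDT hx)
        rw [e, mul_assoc, ← hDs x hx, ← mul_assoc, ← mul_assoc] at h
        exact mul_right_cancel h
      rcases hfix a ha (fun v hv => hac v (hVD hv)) (hac _ hiD) with rfl | rfl
      · exact absurd (Subgroup.mem_centralizer_singleton_iff.2
          (mul_inv_eq_iff_eq_mul.1 (e.trans (one_mul _)))) htL
      · exact e
  have htv₀ : t * v₀ * t⁻¹ = v₀ := by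
    have h : t * q * t⁻¹ * (t * q * t⁻¹) = t * v₀ * t⁻¹ := by rw [← hq]; group
    rcases hTsq _ (htT q (hDT hqD)) with e | e
    · exact absurd (conj_eq_one_iff.1 (h.symm.trans e)) hv₀1
    · exact h.symm.trans e
  -- the image of `V`
  have hWD : ∀ v ∈ V, t * v * t⁻¹ ∈ D := by
    intro v hv
    obtain ⟨a, ha, e | e⟩ := htT v (hDT (hVD hv))
    · rw [e]; exact ha
    · exfalso
      have hv₀s : Commute v₀ c.s := hV.comm_s v₀ hv₀
      have h1 : a = t * (v * v₀ * c.s) * t⁻¹ := by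
        calc a = a * c.s * (v₀ * v₀) * c.s := by
              rw [hV.sq v₀ hv₀, mul_one, mul_assoc, c.s_sq, mul_one]
          _ = a * c.s * (v₀ * (v₀ * c.s)) := by group
          _ = t * v * t⁻¹ * (t * v₀ * t⁻¹ * (t * c.s * t⁻¹)) := by rw [e, htv₀, hs']
          _ = _ := by group
      obtain ⟨t', ht'⟩ : ∃ t' : G, t' * c.s * t'⁻¹ = v * v₀ * c.s := by
        by_cases hvv : v * v₀ = 1
        · exact ⟨1, by rw [hvv]; group⟩
        · exact hV.conj_s_of_conj hv₀ hv₀1 (V.mul_mem hv hv₀) hvv hs'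
      exact c.not_conj_s hV.six (t := t * t') (hDg a ha) (by rw [h1, ← ht']; group)
  set W := V.map (MulAut.conj t).toMonoidHom with hWdef
  have hW4 : Nat.card W = 4 := by
    rw [hWdef, Subgroup.card_map_of_injective (MulAut.conj t).injective, hV.card_eq]
  have memW : ∀ {w}, w ∈ W → ∃ v ∈ V, t * v * t⁻¹ = w := fun hw => by
    obtain ⟨v, hv, e⟩ := hw; exact ⟨v, hv, e⟩
  have hWle : W ≤ D := fun w hw => by obtain ⟨v, hv, rfl⟩ := memW hw; exact hWD v hv
  have hWsq : ∀ w ∈ W, w * w = 1 := fun w hw => by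
    obtain ⟨v, hv, rfl⟩ := memW hw
    calc t * v * t⁻¹ * (t * v * t⁻¹) = t * (v * v) * t⁻¹ := by group
      _ = 1 := by rw [hV.sq v hv]; group
  have hWcomm : ∀ w ∈ W, ∀ x ∈ W, w * x = x * w := fun w hw x hx => by
    obtain ⟨v, hv, rfl⟩ := memW hw; obtain ⟨u, hu, rfl⟩ := memW hx
    calc t * v * t⁻¹ * (t * u * t⁻¹) = t * (v * u) * t⁻¹ := by group
      _ = _ := by rw [hV.comm hv hu]; group
  have hWv₀ : v₀ ∈ W := ⟨v₀, hv₀, htv₀⟩
  -- `t` normalises the line of `g`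
  obtain ⟨k, hk⟩ : ∃ k : ℕ, t⁻¹ * c.g * t = c.g ^ k := hV.cube_cent (fun v hv => by
    have h := hDg _ (hWD v hv)
    calc t⁻¹ * c.g * t * v = t⁻¹ * (c.g * (t * v * t⁻¹)) * t := by group
      _ = _ := by rw [← h]; group) (by
    calc (t⁻¹ * c.g * t) ^ 3 = t⁻¹ * c.g ^ 3 * t := by
          simp only [pow_succ, pow_zero, one_mul]; group
      _ = 1 := by rw [c.g_cube]; group)
  obtain ⟨a, hag, has, haV⟩ : ∃ a : G, a * c.g = c.g * a ∧ a * c.s * a⁻¹ = v₀ * c.s ∧
      ∀ v ∈ V, a * v * a⁻¹ = t * v * t⁻¹ := by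
    rw [c.g_pow_mod k] at hk
    rcases (show k % 3 = 0 ∨ k % 3 = 1 ∨ k % 3 = 2 by omega) with e | e | e <;> rw [e] at hk
    · rw [pow_zero] at hk
      exact absurd (conj_eq_one_iff.1 (show t⁻¹ * c.g * (t⁻¹)⁻¹ = 1 by rwa [inv_inv])) c.g_ne
    · refine ⟨t, ?_, hs', fun v _ => rfl⟩
      rw [pow_one] at hk
      calc t * c.g = t * (t⁻¹ * c.g * t) := by rw [hk]
        _ = _ := by group
    · refine ⟨t * c.s, ?_, ?_, fun v hv => ?_⟩
      · have h1 : c.g = t * (c.g * c.g) * t⁻¹ := by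
          rw [← pow_two, ← hk]; group
        calc t * c.s * c.g = t * (c.s * c.g * c.s⁻¹) * c.s := by group
          _ = t * (c.g * c.g) * t⁻¹ * (t * c.s) := by rw [c.s_conj_g]; group
          _ = _ := by rw [← h1]
      · rw [← hs']; group
      · calc t * c.s * v * (t * c.s)⁻¹ = t * (c.s * v * c.s⁻¹) * t⁻¹ := by group
          _ = _ := by rw [← hV.comm_s v hv, mul_inv_cancel_right]
  have haW : ∀ v ∈ V, a * v * a⁻¹ ∈ W := fun v hv => by rw [haV v hv]; exact ⟨v, hv, rfl⟩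
  by_cases hWV : W ≤ V
  · obtain ⟨j, hj⟩ := hV.conj_s_of_normalizes hag (fun v hv => hWV (haW v hv)) hv₀ hv₀1 hi₀
    rw [has] at hj
    have hj' : c.g ^ j * c.s * (c.g ^ j)⁻¹ = c.g ^ j * c.g ^ (2 * (2 * j)) * c.s := by
      rw [← c.pow_conj_s_g (2 * j), show (c.g ^ j)⁻¹ = c.g ^ (2 * j) from
        inv_eq_of_mul_eq_one_right (by
          rw [← pow_add, show j + 2 * j = 3 * j by ring, pow_mul, c.g_cube, one_pow])]
      group
    rw [hj', ← pow_add] at hj
    have hmem : c.g ^ (j + 2 * (2 * j)) ∈ V := mul_right_cancel hj ▸ hv₀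
    exact hv₀1 ((mul_right_cancel hj).trans (hV.g_pow_eq_one hmem))
  -- otherwise `a` interchanges the two four-groups of `D`
  have hWform : ∀ w ∈ W, w ∈ V → w = 1 ∨ w = v₀ := by
    obtain ⟨x, hxW, hxV⟩ := SetLike.not_le_iff_exists.1 hWV
    intro w hw hwV
    obtain ⟨v, hv, e | e⟩ := (memD x).1 (hWle hxW)
    · exact absurd (e ▸ hv) hxV
    · refine hv₀u w hwV (mul_inv_eq_iff_eq_mul.2 ?_)
      have h := hWcomm w hw x hxW
      rw [e, ← mul_assoc, hV.comm hwV hv, mul_assoc v w, mul_assoc v c.i] at h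
      exact (mul_left_cancel h).symm
  -- four-subgroups of `D` other than `V` lie in the centraliser of `i`
  have hfour : ∀ U : Subgroup G, Nat.card U = 4 → U ≤ D → (∀ w ∈ U, w * w = 1) → ¬ U ≤ V →
      U ≤ W := by
    intro U _ hUD hUsq _ w hw
    obtain ⟨v, hv, e⟩ := (memD w).1 (hUD hw)
    have hcases : w ∈ V ∨ (c.i * v * c.i⁻¹ = v ∧ w = v * c.i) := by
      rcases e with e | e
      · exact Or.inl (e ▸ hv)
      · refine Or.inr ⟨?_, e⟩
        have h := hUsq w hw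
        rw [e] at h
        calc c.i * v * c.i⁻¹ = v⁻¹ * (v * c.i * (v * c.i)) := by rw [c.i_inv]; group
          _ = v := by rw [h, mul_one, hV.inv_eq hv]
    -- all `v * i` with `v` fixed by `i` lie in `W`
    obtain ⟨x, hxW, hxV⟩ := SetLike.not_le_iff_exists.1 hWV
    obtain ⟨u, hu, hx⟩ := (memD x).1 (hWle hxW)
    rcases hx with hx | hx
    · exact absurd (hx ▸ hu) hxV
    have hufix : c.i * u * c.i⁻¹ = u := by
      have h := hWsq x hxW
      rw [hx] at h
      calc c.i * u * c.i⁻¹ = u⁻¹ * (u * c.i * (u * c.i)) := by rw [c.i_inv]; group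
        _ = u := by rw [h, mul_one, hV.inv_eq hu]
    rcases hcases with hwV | ⟨hvfix, rfl⟩
    · by_cases hwi : c.i * w * c.i⁻¹ = w
      · rcases hv₀u w hwV hwi with rfl | rfl
        exacts [one_mem _, hWv₀]
      · -- `w` commutes with no element outside `V`
        by_cases hUV : U ≤ V
        · contradiction
        exfalso
        obtain ⟨y, hyU, hyV⟩ := SetLike.not_le_iff_exists.1 hUV
        obtain ⟨z, hz, e' | e'⟩ := (memD y).1 (hUD hyU)
        · exact hyV (e' ▸ hz)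
        · refine hwi ?_
          have hcomm : w * y = y * w := by
            have h1 := hUsq _ (U.mul_mem hw hyU)
            calc w * y = (w * y)⁻¹ := (inv_eq_of_mul_eq_one_right h1).symm
              _ = y⁻¹ * w⁻¹ := mul_inv_rev w y
              _ = y * w := by
                rw [inv_eq_of_mul_eq_one_right (hUsq y hyU), inv_eq_of_mul_eq_one_right (hUsq w hw)]
          rw [e', ← mul_assoc, hV.comm hwV hz, mul_assoc z w, mul_assoc z c.i] at hcomm
          exact mul_inv_eq_iff_eq_mul.2 (mul_left_cancel hcomm).symm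
    · have hW' : u * v ∈ W := by
        rcases hv₀u (u * v) (V.mul_mem hu hv) (by
          calc c.i * (u * v) * c.i⁻¹ = c.i * u * c.i⁻¹ * (c.i * v * c.i⁻¹) := by group
            _ = _ := by rw [hufix, hvfix]) with e' | e' <;> rw [e']
        exacts [one_mem _, hWv₀]
      have : v * c.i = u * v * x := by
        rw [hx, hV.comm hu hv, mul_assoc v u, ← mul_assoc u u, hV.sq u hu, one_mul]
      rw [this]
      exact W.mul_mem hW' hxW
  -- Burnside: conjugate inside the normaliser of `D`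
  set P := Subgroup.centralizer ({c.g} : Set G) ⊓ Subgroup.normalizer (W : Set G) with hP
  have hDP : D ≤ P := by
    intro x hx
    refine ⟨Subgroup.mem_centralizer_singleton_iff.2 (hDg x hx), Subgroup.mem_normalizer_iff.2
      fun y => ?_⟩
    have key : ∀ z ∈ D, ∀ w ∈ W, z * w * z⁻¹ ∈ W := by
      intro z hz w hw
      let U := W.map (MulAut.conj z).toMonoidHom
      have hU : z * w * z⁻¹ ∈ U := ⟨w, hw, rfl⟩
      refine hfour U ?_ ?_ ?_ ?_ hU
      · rw [Subgroup.card_map_of_injective (MulAut.conj z).injective, hW4]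
      · rintro _ ⟨w', hw', rfl⟩
        exact D.mul_mem (D.mul_mem hz (hWle hw')) (D.inv_mem hz)
      · rintro _ ⟨w', hw', rfl⟩
        change z * w' * z⁻¹ * (z * w' * z⁻¹) = 1
        calc z * w' * z⁻¹ * (z * w' * z⁻¹) = z * (w' * w') * z⁻¹ := by group
          _ = 1 := by rw [hWsq w' hw']; group
      · intro hUV
        refine hWV fun w' hw' => ?_
        have h1 : z * w' * z⁻¹ ∈ V := hUV ⟨w', hw', rfl⟩
        obtain ⟨v, hv, e | e⟩ := (memD z).1 hz
        · subst e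
          have := V.mul_mem (V.mul_mem (V.inv_mem hv) h1) hv
          simpa [mul_assoc] using this
        · subst e
          have h2 := hV.conj_i _ (V.mul_mem (V.mul_mem (V.inv_mem hv) h1) hv)
          rwa [show v⁻¹ * (v * c.i * w' * (v * c.i)⁻¹) * v = c.i * w' * c.i⁻¹ by group,
            hV.conj_i_conj_i] at h2
    refine ⟨fun hy => key x hx y hy, fun hy => ?_⟩
    have := key x⁻¹ (D.inv_mem hx) _ hy
    simpa [mul_assoc] using this
  have haD : ∀ x ∈ D, a * x * a⁻¹ ∈ P := by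
    intro x hx
    have hcx : Commute x c.g := hDg x hx
    have hca : Commute a c.g := hag
    refine ⟨Subgroup.mem_centralizer_singleton_iff.2 ((hca.mul_left hcx).mul_left hca.inv_left).eq,
      Subgroup.mem_normalizer_iff.2 fun y => ?_⟩
    obtain ⟨v', hv', hx'⟩ := (memD x).1 hx
    have hxV : ∀ v ∈ V, x * v * x⁻¹ ∈ V := by
      intro v hv
      rcases hx' with rfl | rfl
      · exact V.mul_mem (V.mul_mem hv' hv) (V.inv_mem hv')
      · rw [show v' * c.i * v * (v' * c.i)⁻¹ = v' * (c.i * v * c.i⁻¹) * v'⁻¹ by group]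
        exact V.mul_mem (V.mul_mem hv' (hV.conj_i v hv)) (V.inv_mem hv')
    have fwd : ∀ y ∈ W, a * x * a⁻¹ * y * (a * x * a⁻¹)⁻¹ ∈ W := by
      intro y hy
      obtain ⟨v, hv, rfl⟩ := memW hy
      rw [← haV v hv, show a * x * a⁻¹ * (a * v * a⁻¹) * (a * x * a⁻¹)⁻¹ =
        a * (x * v * x⁻¹) * a⁻¹ by group]
      exact haW _ (hxV v hv)
    refine ⟨fwd y, fun hy => ?_⟩
    have hmap : W.map (MulAut.conj (a * x * a⁻¹)).toMonoidHom = W := Subgroup.eq_of_le_of_card_ge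
      (by rintro _ ⟨z, hz, rfl⟩; exact fwd z hz)
      (le_of_eq (Subgroup.card_map_of_injective (MulAut.conj (a * x * a⁻¹)).injective).symm)
    rw [← hmap] at hy
    obtain ⟨z, hz, he⟩ := hy
    change a * x * a⁻¹ * z * (a * x * a⁻¹)⁻¹ = a * x * a⁻¹ * y * (a * x * a⁻¹)⁻¹ at he
    rwa [← mul_left_cancel (mul_right_cancel he)]
  have hD2 : IsPGroup 2 D := IsPGroup.of_card (n := 3) (by rw [hD8]; norm_num)
  set D' := D.map (MulAut.conj a).toMonoidHom with hD'
  have hD'P : D' ≤ P := by rintro _ ⟨x, hx, rfl⟩; exact haD x hx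
  have mkSylow : ∀ R : Subgroup G, R ≤ P → Nat.card R = 8 →
      ∃ R' : Sylow 2 P, (R' : Subgroup P) = R.subgroupOf P := by
    intro R hRP hR8
    have hR' : Nat.card (R.subgroupOf P) = 2 ^ (Nat.card P).factorization 2 := by
      rw [Nat.card_congr (Subgroup.subgroupOfEquivOfLe hRP).toEquiv, hR8]
      have h8 : 2 ^ 3 ∣ Nat.card P := by
        rw [show 2 ^ 3 = Nat.card R by rw [hR8]; norm_num]; exact Subgroup.card_dvd_of_le hRP
      have hle : Nat.card P ∣ 1080 := hV.six.card_cent ▸ Subgroup.card_dvd_of_le inf_le_left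
      have h3 := (Nat.prime_two.pow_dvd_iff_le_factorization Nat.card_pos.ne').1 h8
      have h4 : ¬ 4 ≤ (Nat.card P).factorization 2 := fun h4 => by
        have := ((Nat.prime_two.pow_dvd_iff_le_factorization Nat.card_pos.ne').2 h4).trans hle
        norm_num at this
      rw [show (Nat.card P).factorization 2 = 3 by omega]; norm_num
    exact ⟨Sylow.ofCard _ hR', rfl⟩
  obtain ⟨R₁, hR₁⟩ := mkSylow D hDP hD8
  obtain ⟨R₂, hR₂⟩ := mkSylow D' hD'P (by
    rw [hD', Subgroup.card_map_of_injective (MulAut.conj a).injective, hD8])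
  obtain ⟨n, hn⟩ := MulAction.exists_smul_eq P R₂ R₁
  set b := (n : G) * a with hb
  have hbD : ∀ x ∈ D, b * x * b⁻¹ ∈ D := by
    intro x hx
    have hmem : n * ⟨a * x * a⁻¹, hD'P ⟨x, hx, rfl⟩⟩ * n⁻¹ ∈ (R₁ : Subgroup P) := by
      rw [← hn]
      refine ⟨_, ?_, rfl⟩
      rw [SetLike.mem_coe, hR₂, Subgroup.mem_subgroupOf]
      exact ⟨x, hx, rfl⟩
    rw [hR₁, Subgroup.mem_subgroupOf] at hmem
    rw [hb, show (n : G) * a * x * ((n : G) * a)⁻¹ = n * (a * x * a⁻¹) * (n : G)⁻¹ by group]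
    exact hmem
  have hbg : b * c.g = c.g * b :=
    ((show Commute (n : G) c.g from Subgroup.mem_centralizer_singleton_iff.1 n.2.1).mul_left
      hag).eq
  have hbW : ∀ v ∈ V, b * v * b⁻¹ ∈ W := fun v hv => by
    rw [hb, show (n : G) * a * v * ((n : G) * a)⁻¹ = n * (a * v * a⁻¹) * (n : G)⁻¹ by group]
    exact (Subgroup.mem_normalizer_iff.1 n.2.2 _).1 (haW v hv)
  obtain ⟨v₁, hv₁, hv₁W⟩ : ∃ v ∈ V, v ∉ W := by
    refine ⟨c.d * v₀ * c.d⁻¹, hV.conj_d v₀ hv₀, fun h => ?_⟩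
    rcases hWform _ h (hV.conj_d v₀ hv₀) with e | e
    · exact hv₀1 (conj_eq_one_iff.1 e)
    · exact hv₀1 (hV.free v₀ hv₀ (mul_inv_eq_iff_eq_mul.1 e).symm)
  have hbV : ∀ v ∈ V, b * (b * v * b⁻¹) * b⁻¹ ∈ V := by
    -- the image of `W` is a four-subgroup of `D` other than `W`
    intro v hv
    by_contra hout
    set U := (V.map (MulAut.conj b).toMonoidHom).map (MulAut.conj b).toMonoidHom with hUdef
    have hU4 : Nat.card U = 4 := by
      rw [hUdef, Subgroup.card_map_of_injective (MulAut.conj b).injective,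
        Subgroup.card_map_of_injective (MulAut.conj b).injective, hV.card_eq]
    have hUW : U ≤ W := hfour U hU4 (by
        rintro _ ⟨_, ⟨u, hu, rfl⟩, rfl⟩
        exact hbD _ (hWle (hbW u hu))) (by
        rintro _ ⟨_, ⟨u, hu, rfl⟩, rfl⟩
        change b * (b * u * b⁻¹) * b⁻¹ * (b * (b * u * b⁻¹) * b⁻¹) = 1
        calc b * (b * u * b⁻¹) * b⁻¹ * (b * (b * u * b⁻¹) * b⁻¹)
            = b * (b * (u * u) * b⁻¹) * b⁻¹ := by group
          _ = 1 := by rw [hV.sq u hu]; group)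
      fun h => hout (h ⟨_, ⟨v, hv, rfl⟩, rfl⟩)
    -- then both `V` and `W` go to `W`
    have hUeq := Subgroup.eq_of_le_of_card_ge hUW (by rw [hU4, hW4])
    have hVW' : V.map (MulAut.conj b).toMonoidHom = W := Subgroup.eq_of_le_of_card_ge
      (by rintro _ ⟨u, hu, rfl⟩; exact hbW u hu)
      (le_of_eq (hW4.trans
        ((Subgroup.card_map_of_injective (MulAut.conj b).injective).trans hV.card_eq).symm))
    have h2 : (V.map (MulAut.conj b).toMonoidHom).map (MulAut.conj b).toMonoidHom =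
        V.map (MulAut.conj b).toMonoidHom := by rw [← hUdef, hUeq, hVW']
    have h3 := Subgroup.map_injective (MulAut.conj b).injective h2
    rw [hVW'] at h3
    exact hWV (le_of_eq h3)
  -- an odd power of `b` still moves `V`
  obtain ⟨e, m, hm, hem⟩ := Nat.exists_eq_pow_mul_and_not_dvd (orderOf_pos b).ne' 2 (by norm_num)
  obtain ⟨l, hl⟩ := Nat.odd_iff.2 (Nat.two_dvd_ne_zero.1 hm)
  set b₁ := b ^ m with hb₁
  have heven : ∀ j : ℕ, ∀ v ∈ V, (b * b) ^ j * v * ((b * b) ^ j)⁻¹ ∈ V := by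
    intro j
    induction j with
    | zero => intro v hv; simpa using hv
    | succ j ih =>
      intro v hv
      have h := hbV _ (ih v hv)
      rw [show (b * b) ^ (j + 1) * v * ((b * b) ^ (j + 1))⁻¹ =
        b * (b * ((b * b) ^ j * v * ((b * b) ^ j)⁻¹) * b⁻¹) * b⁻¹ by
          rw [pow_succ', mul_inv_rev, mul_inv_rev]; simp only [mul_assoc]]
      exact h
  have hb₁move : b₁ * v₁ * b₁⁻¹ ∈ W := by
    have hb₁eq : b₁ = b * (b * b) ^ l := by rw [hb₁, hl, ← pow_two, ← pow_mul, ← pow_succ']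
    rw [hb₁eq, show b * (b * b) ^ l * v₁ * (b * (b * b) ^ l)⁻¹ =
      b * ((b * b) ^ l * v₁ * ((b * b) ^ l)⁻¹) * b⁻¹ by group]
    exact hbW _ (heven l v₁ hv₁)
  have hb₁D : ∀ j : ℕ, ∀ x ∈ D, b ^ j * x * (b ^ j)⁻¹ ∈ D := by
    intro j
    induction j with
    | zero => intro x hx; simpa using hx
    | succ j ih =>
      intro x hx
      have h := hbD _ (ih x hx)
      rwa [show b * (b ^ j * x * (b ^ j)⁻¹) * b⁻¹ = b ^ (j + 1) * x * (b ^ (j + 1))⁻¹ by
        rw [pow_succ']; group] at h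
  have hb₁N : Subgroup.zpowers b₁ ≤ Subgroup.normalizer (D : Set G) := by
    refine Subgroup.zpowers_le.2 (Subgroup.mem_normalizer_iff.2 fun y => ⟨hb₁D m y, fun hy => ?_⟩)
    have hmap : D.map (MulAut.conj b₁).toMonoidHom = D := Subgroup.eq_of_le_of_card_ge
      (by rintro _ ⟨z, hz, rfl⟩; exact hb₁D m z hz)
      (le_of_eq (Subgroup.card_map_of_injective (MulAut.conj b₁).injective).symm)
    rw [← hmap] at hy
    obtain ⟨z, hz, he⟩ := hy
    change b₁ * z * b₁⁻¹ = b₁ * y * b₁⁻¹ at he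
    rwa [← mul_left_cancel (mul_right_cancel he)]
  have hb₁2 : IsPGroup 2 (Subgroup.zpowers b₁) := by
    obtain ⟨j, -, hj⟩ := (Nat.dvd_prime_pow Nat.prime_two).1
      (show orderOf b₁ ∣ 2 ^ e from orderOf_dvd_of_pow_eq_one (by
        rw [hb₁, ← pow_mul, mul_comm, ← hem, pow_orderOf_eq_one]))
    exact IsPGroup.of_card (n := j) (by rw [Nat.card_zpowers, hj])
  have hR := hDmax _ (hb₁2.to_sup_of_normal_right' hD2 hb₁N) le_sup_right (by
    intro x hx
    have hle : Subgroup.zpowers b₁ ⊔ D ≤ Subgroup.centralizer ({c.g} : Set G) :=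
      sup_le (Subgroup.zpowers_le.2 (Subgroup.mem_centralizer_singleton_iff.2
        ((show Commute b c.g from hbg).pow_left m).eq))
        (fun y hy => Subgroup.mem_centralizer_singleton_iff.2 (hDg y hy))
    exact Subgroup.mem_centralizer_singleton_iff.1 (hle hx))
  have hb₁mem : b₁ ∈ D := hR ▸ Subgroup.mem_sup_left (Subgroup.mem_zpowers b₁)
  have hV' : b₁ * v₁ * b₁⁻¹ ∈ V := by
    obtain ⟨v, hv, e | e⟩ := (memD b₁).1 hb₁mem
    · rw [e]; exact V.mul_mem (V.mul_mem hv hv₁) (V.inv_mem hv)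
    · rw [e, show v * c.i * v₁ * (v * c.i)⁻¹ = v * (c.i * v₁ * c.i⁻¹) * v⁻¹ by group]
      exact V.mul_mem (V.mul_mem hv (hV.conj_i v₁ hv₁)) (V.inv_mem hv)
  -- hence `v₁` would be `v₀` or trivial
  rcases hWform _ hb₁move hV' with e' | e'
  · exact hv₁W (conj_eq_one_iff.1 e' ▸ one_mem _)
  · have h1 : v₁ = v₀ := by
      obtain ⟨v, hv, f | f⟩ := (memD b₁).1 hb₁mem
      · rw [f, hV.comm hv hv₁, mul_inv_cancel_right] at e'; exact e'
      · rw [f, show v * c.i * v₁ * (v * c.i)⁻¹ = v * (c.i * v₁ * c.i⁻¹) * v⁻¹ by group,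
          hV.comm hv (hV.conj_i v₁ hv₁), mul_inv_cancel_right] at e'
        calc v₁ = c.i * (c.i * v₁ * c.i⁻¹) * c.i⁻¹ := (hV.conj_i_conj_i v₁).symm
          _ = v₀ := by rw [e', hi₀]
    exact hv₁W (h1 ▸ hWv₀)

end Klein

end Setup

end CfsgLib.AltNineRecog
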