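import Cfsg.Agent.AltNineRecog.CentSQuot
import Cfsg.Agent.NilpotentCover.Basic

/-!
# The normal 2-subgroup of `C(s)`

If `C(s)/⟨s⟩` has a nilpotent normal subgroup of index six, that subgroup has order 16 and is
abelian, and its preimage is extraspecial.
-/

set_option autoImplicit false
set_option linter.style.haveILetI false
set_option linter.unusedSectionVars false

namespace CfsgLib.AltNineRecog

open CfsgLib.AltNineThree (M IsE eOne eMix eAll eThree tOne tTwo gThree cls)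
open scoped commutatorElement

set_option maxRecDepth 20000

universe u

namespace Setup

variable {G : Type u} [Group G] [Finite G] (c : Setup G)

theorem dY_cube : c.dY ^ 3 = 1 := by
  rw [dY, ← map_pow, show c.dL ^ 3 = 1 from Subtype.ext c.d_cube, map_one]

/-- `d` fixes no element of order prime to three. -/
theorem eq_one_of_fixed (hS : c.Six) {H : Subgroup (c.L ⧸ c.sGrp)} (h3 : ¬ 3 ∣ Nat.card H)
    {h : c.L ⧸ c.sGrp} (hh : h ∈ H) (e : c.dY * h * c.dY⁻¹ = h) : h = 1 := by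
  have h1 := Subgroup.orderOf_dvd_natCard _
    ((c.hyp_Y hS).mem_zpowers_of_commute (mul_inv_eq_iff_eq_mul.1 e).symm)
  rw [(c.hyp_Y hS).card_zpowers] at h1
  rcases (Nat.dvd_prime Nat.prime_three).1 h1 with e' | e'
  · exact orderOf_eq_one_iff.1 e'
  · exact absurd (e' ▸ Subgroup.orderOf_dvd_natCard H hh) h3

/-- The order of an invariant subgroup of order prime to three is one modulo three. -/
theorem mod_three (hS : c.Six) {H : Subgroup (c.L ⧸ c.sGrp)} (h3 : ¬ 3 ∣ Nat.card H)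
    (hinv : ∀ h ∈ H, c.dY * h * c.dY⁻¹ ∈ H) : Nat.card H % 3 = 1 := by
  have hcube : ∀ y : c.L ⧸ c.sGrp,
      c.dY * (c.dY * (c.dY * y * c.dY⁻¹) * c.dY⁻¹) * c.dY⁻¹ = y := fun y => by
    calc _ = c.dY ^ 3 * y * (c.dY ^ 3)⁻¹ := by simp only [pow_succ, pow_zero, one_mul]; group
      _ = y := by rw [c.dY_cube]; group
  let σ : MulAut H :=
    { toFun := fun y => ⟨_, hinv y y.2⟩
      invFun := fun y => ⟨_, hinv _ (hinv y y.2)⟩
      left_inv := fun y => Subtype.ext (hcube _)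
      right_inv := fun y => Subtype.ext (hcube _)
      map_mul' := fun y z => Subtype.ext (by simp [mul_assoc]) }
  have := CfsgLib.FpfThree.card_mod_three σ (fun y => Subtype.ext (hcube _))
    (fun y hy => Subtype.ext (c.eq_one_of_fixed hS h3 y.2 (congrArg Subtype.val hy))) ⊤
    fun w _ => Subgroup.mem_top _
  rwa [Subgroup.card_top] at this

theorem dL_conj_s (e : G) (he : e = 1 ∨ e = c.s) : c.d * e * c.d⁻¹ = e := by
  rcases he with rfl | rfl
  · group
  · rw [c.d_comm_s, mul_inv_cancel_right]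

namespace Klein

variable {c} {V : Subgroup G} (hV : c.Klein V)
include hV

/-- A 2-subgroup containing the four-group. -/
theorem two_group {N : Subgroup (c.L ⧸ c.sGrp)} (hnil : Group.IsNilpotent N)
    (hUN : image c V ≤ N) : IsPGroup 2 N := by
  classical
  haveI : Fact (Nat.Prime 2) := ⟨Nat.prime_two⟩
  intro ⟨n, hn⟩
  obtain ⟨e, m, hm, hem⟩ := Nat.exists_eq_pow_mul_and_not_dvd (orderOf_pos n).ne' 2 (by norm_num)
  refine ⟨e, Subtype.ext ?_⟩
  simp only [SubmonoidClass.coe_pow, OneMemClass.coe_one]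
  have hdvd : orderOf (n ^ 2 ^ e) ∣ m := orderOf_dvd_of_pow_eq_one (by
    rw [← pow_mul, ← hem, pow_orderOf_eq_one])
  have hC : n ^ 2 ^ e ∈ Subgroup.centralizer (image c V : Set (c.L ⧸ c.sGrp)) := by
    refine Subgroup.mem_centralizer_iff.2 fun u hu => ?_
    refine (NilpotentCover.commute_of_coprime_mem hnil (hUN hu) (N.pow_mem hn _) ?_).eq
    have h2 : orderOf u ∣ 2 := orderOf_dvd_of_pow_eq_one (by rw [pow_two]; exact hV.image_sq hu)
    exact Nat.Coprime.coprime_dvd_right hdvd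
      (Nat.Coprime.coprime_dvd_left h2 (Nat.prime_two.coprime_iff_not_dvd.2 hm))
  have h4 := orderOf_dvd_of_pow_eq_one (hV.cent_image.2 _ hC)
  have hco : Nat.Coprime 4 m := (Nat.prime_two.coprime_iff_not_dvd.2 hm).pow_left 2
  exact orderOf_eq_one_iff.1 (Nat.dvd_one.1 (hco ▸ Nat.dvd_gcd h4 hdvd))

/-- The four-group is central. -/
theorem image_central {N : Subgroup (c.L ⧸ c.sGrp)} [hN : N.Normal] (h3 : ¬ 3 ∣ Nat.card N)
    (hUN : image c V ≤ N) (h2 : IsPGroup 2 N)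
    (hcl : ∀ a ∈ N, ∀ b ∈ N, ∀ e ∈ N, e * ⁅a, b⁆ = ⁅a, b⁆ * e) :
    ∀ n ∈ N, ∀ u ∈ image c V, n * u = u * n := by
  classical
  haveI : Fact (Nat.Prime 2) := ⟨Nat.prime_two⟩
  by_contra hcon
  push Not at hcon
  obtain ⟨n₀, hn₀, u₀, hu₀, hne₀⟩ := hcon
  have hS := hV.six
  set U := image c V with hU
  set C := Subgroup.centralizer (U : Set (c.L ⧸ c.sGrp))
  set Z := N ⊓ Subgroup.centralizer (N : Set (c.L ⧸ c.sGrp)) with hZ
  have memZ : ∀ {z}, z ∈ Z ↔ z ∈ N ∧ ∀ n ∈ N, n * z = z * n := by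
    intro z; rw [hZ, Subgroup.mem_inf, Subgroup.mem_centralizer_iff]; rfl
  have hcomm : ∀ a ∈ N, ∀ b ∈ N, ⁅a, b⁆ ∈ Z := fun a ha b hb => memZ.2
    ⟨N.mul_mem (N.mul_mem (N.mul_mem ha hb) (N.inv_mem ha)) (N.inv_mem hb), hcl a ha b hb⟩
  have hZinv : ∀ z ∈ Z, c.dY * z * c.dY⁻¹ ∈ Z := by
    intro z hz
    obtain ⟨hzN, hzc⟩ := memZ.1 hz
    refine memZ.2 ⟨hN.conj_mem z hzN _, fun n hn => ?_⟩
    have hn' : c.dY⁻¹ * n * c.dY ∈ N := by
      simpa using hN.conj_mem n hn c.dY⁻¹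
    calc n * (c.dY * z * c.dY⁻¹) = c.dY * (c.dY⁻¹ * n * c.dY * z) * c.dY⁻¹ := by group
      _ = _ := by rw [hzc _ hn']; group
  -- no element of the four-group but one is central
  have hUZ : ∀ u ∈ U, u ∈ Z → u = 1 := by
    intro u hu huZ
    by_contra hu1
    obtain ⟨v, hv, rfl⟩ := hV.mem_image.1 hu
    obtain ⟨w, hw, rfl⟩ := hV.mem_image.1 hu₀
    have hv1 : (v : G) ≠ 1 := fun e => hu1 (by rw [show v = 1 from Subtype.ext e, map_one])
    have h1 := hZinv _ huZ
    rw [dY, ← map_inv, ← map_mul, ← map_mul] at h1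
    have h2 := hZinv _ h1
    rw [dY, ← map_inv, ← map_mul, ← map_mul] at h2
    have hwZ : c.pr w ∈ Z := by
      rcases hV.d_orbit hv hv1 hw with e | e | e | e
      · rw [show w = 1 from Subtype.ext e, map_one]; exact one_mem _
      · rw [show w = v from Subtype.ext e]; exact huZ
      · rw [show w = c.dL * v * c.dL⁻¹ from Subtype.ext e]; exact h1
      · rw [show w = c.dL * (c.dL * v * c.dL⁻¹) * c.dL⁻¹ from Subtype.ext e]; exact h2
    exact hne₀ ((memZ.1 hwZ).2 n₀ hn₀)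
  -- the centre has order four
  have hC16 : Nat.card C ≤ 16 := hV.cent_image.1
  have hUcomm : ∀ a ∈ U, ∀ b ∈ U, a * b = b * a := by
    intro a ha b hb
    calc a * b = (a * b)⁻¹ := (inv_eq_of_mul_eq_one_right (hV.image_sq (U.mul_mem ha hb))).symm
      _ = b⁻¹ * a⁻¹ := mul_inv_rev a b
      _ = b * a := by
        rw [inv_eq_of_mul_eq_one_right (hV.image_sq ha), inv_eq_of_mul_eq_one_right (hV.image_sq hb)]
  let φ : Z × U → ↥(N ⊓ C) := fun p =>
    ⟨(p.1 : c.L ⧸ c.sGrp) * p.2, N.mul_mem (memZ.1 p.1.2).1 (hUN p.2.2),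
      Subgroup.mem_centralizer_iff.2 fun u hu =>
        ((show Commute u (p.1 : c.L ⧸ c.sGrp) from (memZ.1 p.1.2).2 u (hUN hu)).mul_right
          (hUcomm u hu p.2 p.2.2)).eq⟩
  have hφ : Function.Injective φ := by
    rintro ⟨z, u⟩ ⟨z', u'⟩ h
    have h' : (z : c.L ⧸ c.sGrp) * u = z' * u' := congrArg Subtype.val h
    have hz : (z' : c.L ⧸ c.sGrp)⁻¹ * z = u' * (u : c.L ⧸ c.sGrp)⁻¹ := by
      calc (z' : c.L ⧸ c.sGrp)⁻¹ * z = (z' : c.L ⧸ c.sGrp)⁻¹ * (z * u) * (u : c.L ⧸ c.sGrp)⁻¹ := by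
            group
        _ = _ := by rw [h']; group
    have h1 := hUZ _ (U.mul_mem u'.2 (U.inv_mem u.2)) (hz ▸ Z.mul_mem (Z.inv_mem z'.2) z.2)
    rw [h1, inv_mul_eq_one] at hz
    rw [mul_inv_eq_one] at h1
    rw [Prod.mk.injEq]
    exact ⟨Subtype.ext hz.symm, Subtype.ext h1.symm⟩
  have hNC : Nat.card ↥(N ⊓ C) ≤ 16 := (Subgroup.card_le_of_le inf_le_right).trans hC16
  have hprod := Nat.card_le_card_of_injective φ hφ
  rw [Nat.card_prod, hV.card_image] at hprod
  have hZ4 : Nat.card Z = 4 := by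
    have hne : Nontrivial N := by
      refine ⟨⟨n₀, hn₀⟩, 1, fun e => hne₀ ?_⟩
      rw [show n₀ = 1 from congrArg Subtype.val e, one_mul, mul_one]
    haveI := h2.center_nontrivial
    obtain ⟨z, hz⟩ := exists_ne (1 : Subgroup.center N)
    have hzZ : ((z : N) : c.L ⧸ c.sGrp) ∈ Z := memZ.2 ⟨z.1.2, fun n hn =>
      congrArg Subtype.val (Subgroup.mem_center_iff.1 z.2 ⟨n, hn⟩)⟩
    haveI : Nontrivial Z := ⟨⟨_, hzZ⟩, 1, fun e => hz (Subtype.ext (Subtype.ext
      (show ((z : N) : c.L ⧸ c.sGrp) = 1 from congrArg (fun y : Z => (y : c.L ⧸ c.sGrp)) e)))⟩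
    have h1 : 1 < Nat.card Z := Finite.one_lt_card_iff_nontrivial.2 inferInstance
    have hm : Nat.card Z % 3 = 1 :=
      c.mod_three hS (fun h => h3 (h.trans (Subgroup.card_dvd_of_le inf_le_left))) hZinv
    omega
  have hN64 : 64 ≤ Nat.card N := by
    obtain ⟨k, hk⟩ := IsPGroup.iff_card.1 h2
    have hm := c.mod_three hS h3 fun h hh => hN.conj_mem h hh _
    have h16 : 16 ≤ Nat.card ↥(N ⊓ C) := by omega
    have hlt : Nat.card ↥(N ⊓ C) < Nat.card N := by
      refine lt_of_le_of_ne (Subgroup.card_le_of_le inf_le_left) fun e => hne₀ ?_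
      have heq := Subgroup.eq_of_le_of_card_ge (inf_le_left : N ⊓ C ≤ N) e.ge
      have hn' : n₀ ∈ N ⊓ C := by rw [heq]; exact hn₀
      exact (Subgroup.mem_centralizer_iff.1 hn'.2 u₀ hu₀).symm
    rw [hk] at hlt hm ⊢
    have h5 : 5 ≤ k := by
      by_contra hh
      have := Nat.pow_le_pow_right (show 0 < 2 by norm_num) (show k ≤ 4 by omega)
      omega
    have h6 : k ≠ 5 := fun e => by rw [e] at hm; norm_num at hm
    exact le_trans (by norm_num) (Nat.pow_le_pow_right (show 0 < 2 by norm_num) (show 6 ≤ k by omega))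
  -- conjugation on the preimage of the centre
  have hact : ∀ (x r : c.L), c.pr x ∈ N → c.pr r ∈ Z →
      (x : G) * r * (x : G)⁻¹ = r ∨ (x : G) * r * (x : G)⁻¹ = r * c.s := by
    intro x r hx hr
    have h := (memZ.1 hr).2 _ hx
    rw [← map_mul, ← map_mul] at h
    rcases c.pr_eq_iff.1 h.symm with e | e <;> simp only [Subgroup.coe_mul] at e
    · exact Or.inl (by rw [e]; group)
    · refine Or.inr ?_
      rw [e, mul_assoc (r : G) x c.s, c.comm_s x]; group
  have hfixes : ∀ (x y r : c.L), c.pr x ∈ N → c.pr y ∈ N → c.pr r ∈ Z →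
      ((x : G) * y * (x : G)⁻¹ * (y : G)⁻¹) * r = r * ((x : G) * y * (x : G)⁻¹ * (y : G)⁻¹) := by
    intro x y r hx hy hr
    have step : ∀ z : c.L, c.pr z ∈ N → ∃ e : G, (e = 1 ∨ e = c.s) ∧
        (z : G) * r * (z : G)⁻¹ = r * e ∧ (z : G)⁻¹ * r * z = r * e := by
      intro z hz
      rcases hact z r hz hr with e | e
      · refine ⟨1, Or.inl rfl, by rw [e, mul_one], ?_⟩
        rw [mul_one]
        conv_lhs => rw [← e]
        group
      · refine ⟨c.s, Or.inr rfl, e, ?_⟩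
        have h1 : (r : G) = (z : G)⁻¹ * r * z * ((z : G)⁻¹ * c.s * z) := by
          calc (r : G) = (z : G)⁻¹ * ((z : G) * r * (z : G)⁻¹) * z := by group
            _ = _ := by rw [e]; group
        rw [show (z : G)⁻¹ * c.s * z = c.s by rw [mul_assoc, ← c.comm_s z]; group] at h1
        conv_rhs => rw [h1, mul_assoc, c.s_sq, mul_one]
    obtain ⟨a, ha, hxr, hxr'⟩ := step x hx
    obtain ⟨b, hb, hyr, hyr'⟩ := step y hy
    have hcs : ∀ (e : G), (e = 1 ∨ e = c.s) → ∀ z : c.L, (z : G) * e = e * z := by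
      rintro e (rfl | rfl) z
      · rw [mul_one, one_mul]
      · exact c.comm_s z
    have key : ∀ (z : c.L) (e f : G), (f = 1 ∨ f = c.s) → (z : G) * r * (z : G)⁻¹ = r * e →
        (z : G) * (r * f) * (z : G)⁻¹ = r * e * f := by
      intro z e f hf h
      calc (z : G) * (r * f) * (z : G)⁻¹ = (z : G) * r * (z : G)⁻¹ * ((z : G) * f * (z : G)⁻¹) := by
            group
        _ = _ := by rw [h, hcs f hf z, mul_inv_cancel_right]
    have key' : ∀ (z : c.L) (e f : G), (f = 1 ∨ f = c.s) → (z : G)⁻¹ * r * z = r * e →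
        (z : G)⁻¹ * (r * f) * z = r * e * f := by
      intro z e f hf h
      calc (z : G)⁻¹ * (r * f) * z = (z : G)⁻¹ * r * z * ((z : G)⁻¹ * f * z) := by group
        _ = _ := by rw [h, mul_assoc (z : G)⁻¹ f, ← hcs f hf z, inv_mul_cancel_left]
    have hclosed : ∀ {e f : G}, (e = 1 ∨ e = c.s) → (f = 1 ∨ f = c.s) →
        (e * f = 1 ∨ e * f = c.s) := by
      rintro e f (rfl | rfl) (rfl | rfl) <;> simp [c.s_sq]
    have hee : ∀ {e : G}, (e = 1 ∨ e = c.s) → e * e = 1 := by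
      rintro e (rfl | rfl) <;> simp [c.s_sq]
    have hba : b * a = a * b := by
      rcases ha with rfl | rfl <;> rcases hb with rfl | rfl <;> simp
    refine mul_inv_eq_iff_eq_mul.1 ?_
    calc (x : G) * y * (x : G)⁻¹ * (y : G)⁻¹ * r * ((x : G) * y * (x : G)⁻¹ * (y : G)⁻¹)⁻¹
        = (x : G) * ((y : G) * ((x : G)⁻¹ * ((y : G)⁻¹ * r * y) * x) * (y : G)⁻¹) * (x : G)⁻¹ := by
          group
      _ = (x : G) * ((y : G) * (r * (a * b)) * (y : G)⁻¹) * (x : G)⁻¹ := by
          rw [hyr', key' x a b hb hxr', mul_assoc (r : G) a b]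
      _ = (x : G) * (r * a) * (x : G)⁻¹ := by
          rw [key y b (a * b) (hclosed ha hb) hyr, ← hba, mul_assoc (r : G), ← mul_assoc b, hee hb,
            one_mul]
      _ = r := by rw [key x a a ha hxr, mul_assoc, hee ha, mul_one]
  -- a lift of a non-trivial commutator
  obtain ⟨nL, rfl⟩ := c.pr_surjective n₀
  obtain ⟨w₀, hw₀, hw₀e⟩ := hV.mem_image.1 hu₀
  subst hw₀e
  set r₀ : c.L := nL * w₀ * nL⁻¹ * w₀⁻¹ with hr₀
  have hz₀ : c.pr r₀ ∈ Z := by
    rw [hr₀, map_mul, map_mul, map_mul, map_inv, map_inv]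
    exact hcomm _ hn₀ _ (hUN hu₀)
  have hz₀1 : c.pr r₀ ≠ 1 := fun e => hne₀ (by
    rw [hr₀, map_mul, map_mul, map_mul, map_inv, map_inv] at e
    exact mul_inv_eq_iff_eq_mul.1 (mul_inv_eq_one.1 e))
  have hr₀c : ∀ r : c.L, c.pr r ∈ Z → (r₀ : G) * r = r * r₀ := fun r hr => by
    have := hfixes nL w₀ r hn₀ (hUN hu₀) hr
    simpa [hr₀] using this
  set r₁ : c.L := c.dL * r₀ * c.dL⁻¹ with hr₁
  set r₂ : c.L := c.dL * r₁ * c.dL⁻¹ with hr₂
  have hdpr : ∀ r : c.L, c.pr (c.dL * r * c.dL⁻¹) = c.dY * c.pr r * c.dY⁻¹ := fun r => by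
    rw [map_mul, map_mul, map_inv]; rfl
  have hz₁ : c.pr r₁ ∈ Z := by rw [hr₁, hdpr]; exact hZinv _ hz₀
  have hz₂ : c.pr r₂ ∈ Z := by rw [hr₂, hdpr]; exact hZinv _ hz₁
  have hZ3 : ¬ 3 ∣ Nat.card Z := by rw [hZ4]; norm_num
  have hz₁1 : c.pr r₁ ≠ 1 := fun e => hz₀1 (by rw [hr₁, hdpr, conj_eq_one_iff] at e; exact e)
  have hz₂1 : c.pr r₂ ≠ 1 := fun e => hz₁1 (by rw [hr₂, hdpr, conj_eq_one_iff] at e; exact e)
  have h01 : c.pr r₁ ≠ c.pr r₀ := fun e => hz₀1 (c.eq_one_of_fixed hS hZ3 hz₀ (by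
    rw [hr₁, hdpr] at e; exact e))
  have h12 : c.pr r₂ ≠ c.pr r₁ := fun e => hz₁1 (c.eq_one_of_fixed hS hZ3 hz₁ (by
    rw [hr₂, hdpr] at e; exact e))
  have hd2 : c.dL * r₂ * c.dL⁻¹ = r₀ := by
    refine Subtype.ext ?_
    simp only [hr₁, hr₂, Subgroup.coe_mul, Subgroup.coe_inv, dL]
    calc _ = c.d ^ 3 * (r₀ : G) * (c.d ^ 3)⁻¹ := by simp only [pow_succ, pow_zero, one_mul]; group
      _ = r₀ := by rw [c.d_cube]; group
  have h02 : c.pr r₂ ≠ c.pr r₀ := fun e => h01 (by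
    have := congrArg (fun q => c.dY * q * c.dY⁻¹) e
    simp only [← hdpr, hd2] at this
    exact this.symm)
  have hZall : ∀ z ∈ Z, z = 1 ∨ z = c.pr r₀ ∨ z = c.pr r₁ ∨ z = c.pr r₂ := by
    intro z hz
    by_contra h
    push Not at h
    have hsub : ({1, c.pr r₀, c.pr r₁, c.pr r₂, z} : Finset (c.L ⧸ c.sGrp)) ⊆
        (Set.toFinite (Z : Set (c.L ⧸ c.sGrp))).toFinset := by
      intro y hy
      simp only [Finset.mem_insert, Finset.mem_singleton] at hy
      simp only [Set.Finite.mem_toFinset, SetLike.mem_coe]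
      rcases hy with rfl | rfl | rfl | rfl | rfl
      exacts [one_mem _, hz₀, hz₁, hz₂, hz]
    have h5 := Finset.card_le_card hsub
    rw [← Nat.card_eq_card_finite_toFinset,
      show Nat.card (Z : Set (c.L ⧸ c.sGrp)) = 4 from hZ4] at h5
    have : ({1, c.pr r₀, c.pr r₁, c.pr r₂, z} : Finset (c.L ⧸ c.sGrp)).card = 5 := by
      rw [Finset.card_insert_of_notMem, Finset.card_insert_of_notMem, Finset.card_insert_of_notMem,
        Finset.card_insert_of_notMem, Finset.card_singleton] <;>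
        simp only [Finset.mem_insert, Finset.mem_singleton] <;>
        grind
    omega
  -- the preimage of the centre has exponent two
  have hds : ∀ r : c.L, c.pr (r * r) = 1 → ((c.dL * r * c.dL⁻¹ : c.L) : G) * (c.dL * r * c.dL⁻¹ : c.L) =
      (r : G) * r := by
    intro r h
    rcases c.pr_eq_one_iff.1 h with e | e <;> rw [Subgroup.coe_mul] at e
    all_goals
      simp only [Subgroup.coe_mul, Subgroup.coe_inv, dL]
      rw [show c.d * (r : G) * c.d⁻¹ * (c.d * r * c.d⁻¹) = c.d * ((r : G) * r) * c.d⁻¹ by group]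
    · exact c.dL_conj_s _ (Or.inl e)
    · exact c.dL_conj_s _ (Or.inr e)
  have hZsq : ∀ z ∈ Z, z * z = 1 := by
    intro z hz
    have hpow : (⟨z, hz⟩ : Z) ^ 4 = 1 := by rw [← hZ4]; exact pow_card_eq_one'
    -- a square fixed by `d` would be non-trivial
    have hp1 : c.pr r₀ * c.pr r₁ = c.pr r₂ := by
      rcases hZall _ (Z.mul_mem hz₀ hz₁) with e | e | e | e
      · exfalso
        have hinv : c.dY * c.pr r₀ * c.dY⁻¹ = (c.pr r₀)⁻¹ := by
          rw [← hdpr]; exact eq_inv_of_mul_eq_one_right e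
        have : c.pr r₂ = c.pr r₀ := by
          rw [hr₂, hdpr, hr₁, hdpr, hinv, ← conj_inv, hinv, inv_inv]
        exact h02 this
      · exact absurd (mul_left_cancel (e.trans (mul_one _).symm)) hz₁1
      · exact absurd (mul_right_cancel (e.trans (one_mul _).symm)) hz₀1
      · exact e
    have hp2 : c.pr r₁ * c.pr r₂ = c.pr r₀ := by
      have := congrArg (fun q => c.dY * q * c.dY⁻¹) hp1
      simp only [← hdpr, hd2] at this
      rw [← this]
      simp only [hr₂, hr₁, hdpr]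
      group
    have hsq0 : c.pr r₀ * c.pr r₀ = 1 := by
      rcases hZall _ (Z.mul_mem hz₀ hz₀) with e | e | e | e
      · exact e
      · exact absurd (mul_left_cancel (e.trans (mul_one _).symm)) hz₀1
      · exfalso
        -- `z₀ z₀ = z₁` gives `z₀⁴ = z₁ z₁ = z₂ ≠ 1`
        have e' := congrArg (fun q => c.dY * q * c.dY⁻¹) e
        simp only [← hdpr, ← hr₂] at e'
        rw [show c.dY * (c.pr r₀ * c.pr r₀) * c.dY⁻¹ = c.pr r₁ * c.pr r₁ by
          rw [hr₁, hdpr]; group] at e'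
        have h4 : (⟨c.pr r₀, hz₀⟩ : Z) ^ 4 = 1 := by rw [← hZ4]; exact pow_card_eq_one'
        have h4' : c.pr r₀ * c.pr r₀ * (c.pr r₀ * c.pr r₀) = 1 := by
          have := congrArg Subtype.val h4
          simpa [pow_succ, mul_assoc] using this
        rw [e, e'] at h4'
        exact hz₂1 h4'
      · exfalso
        have h : c.pr r₀ * c.pr r₀ = c.pr r₀ * c.pr r₁ := by rw [e, hp1]
        exact h01 (mul_left_cancel h).symm
    rcases hZall z hz with e | e | e | e <;> rw [e]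
    · exact one_mul 1
    · exact hsq0
    · rw [hr₁, hdpr]
      calc _ = c.dY * (c.pr r₀ * c.pr r₀) * c.dY⁻¹ := by group
        _ = 1 := by rw [hsq0]; group
    · rw [hr₂, hdpr, hr₁, hdpr]
      calc _ = c.dY * (c.dY * (c.pr r₀ * c.pr r₀) * c.dY⁻¹) * c.dY⁻¹ := by group
        _ = 1 := by rw [hsq0]; group
  have hRsq : ∀ r : c.L, c.pr r ∈ Z → (r : G) * r = 1 := by
    have hsq : ∀ r : c.L, c.pr r ∈ Z → c.pr (r * r) = 1 := fun r hr => by
      rw [map_mul]; exact hZsq _ hr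
    have hlift : ∀ r r' : c.L, c.pr r = c.pr r' → (r' : G) * r' = r * r := by
      intro r r' h
      rcases c.pr_eq_iff.1 h with e | e <;> rw [e]
      rw [(show Commute c.s (r : G) from (c.comm_s r).symm).mul_mul_mul_comm, c.s_sq, mul_one]
    have h11 : (r₁ : G) * r₁ = r₀ * r₀ := by rw [hr₁]; exact hds r₀ (hsq r₀ hz₀)
    have h22 : (r₂ : G) * r₂ = r₀ * r₀ := by rw [hr₂]; exact (hds r₁ (hsq r₁ hz₁)).trans h11
    have hp1 : c.pr r₂ = c.pr (r₀ * r₁) := by
      rw [map_mul]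
      rcases hZall _ (Z.mul_mem hz₀ hz₁) with e | e | e | e
      · exact absurd ((eq_inv_of_mul_eq_one_right e).trans
          (inv_eq_of_mul_eq_one_right (hZsq _ hz₀))) h01
      · exact absurd (mul_left_cancel (e.trans (mul_one _).symm)) hz₁1
      · exact absurd (mul_right_cancel (e.trans (one_mul _).symm)) hz₀1
      · exact e.symm
    have h0 : (r₀ : G) * r₀ = 1 := by
      have h3 := hlift _ _ hp1
      simp only [Subgroup.coe_mul] at h3
      rw [(show Commute (r₁ : G) r₀ from (hr₀c r₁ hz₁).symm).mul_mul_mul_comm, h11, h22] at h3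
      exact mul_left_cancel (a := (r₀ : G) * r₀) (h3.trans (mul_one _).symm)
    intro r hr
    rcases hZall _ hr with e | e | e | e
    · rw [hlift 1 r ((map_one c.pr).trans e.symm)]; simp
    · rw [hlift r₀ r e.symm, h0]
    · rw [hlift r₁ r e.symm, h11, h0]
    · rw [hlift r₂ r e.symm, h22, h0]
  -- the non-trivial commutators with a given involution of `V`
  have hRcomm : ∀ (x : c.L), c.pr x ∈ N → ∀ v : c.L, (v : G) ∈ V →
      c.pr (x * v * x⁻¹ * v⁻¹) ∈ Z ∧ ((x * v * x⁻¹ * v⁻¹ : c.L) : G) * v =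
        v * (x * v * x⁻¹ * v⁻¹ : c.L) := by
    intro x hx v hv
    have hmem : c.pr (x * v * x⁻¹ * v⁻¹) ∈ Z := by
      rw [map_mul, map_mul, map_mul, map_inv, map_inv]
      exact hcomm _ hx _ (hUN (hV.mem_image.2 ⟨v, hv, rfl⟩))
    refine ⟨hmem, ?_⟩
    have h := hRsq _ hmem
    simp only [Subgroup.coe_mul, Subgroup.coe_inv] at h ⊢
    rw [hV.inv_eq hv] at h ⊢
    calc (x : G) * v * (x : G)⁻¹ * v * v
        = ((x : G) * v * (x : G)⁻¹ * v)⁻¹ * v := by rw [inv_eq_of_mul_eq_one_right h]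
      _ = (v : G)⁻¹ * ((x : G) * (v : G)⁻¹ * (x : G)⁻¹) * v := by group
      _ = _ := by rw [hV.inv_eq hv]; group
  have hnoTwo : ∀ (r : c.L) (v w : G), c.pr r ∈ Z → c.pr r ≠ 1 → v ∈ V → w ∈ V → v ≠ 1 → w ≠ 1 →
      v ≠ w → (r : G) * v = v * r → (r : G) * w = w * r → False :=
    fun r v w hr hr1 hv hw hv1 hw1 hvw h1 h2 =>
      hr1 (hUZ _ (hV.pr_mem_image (hV.comm_all hv hw hv1 hw1 hvw h1 h2)) hr)
  -- the centraliser of one involution of `U` centralises `U`
  have hfibre : ∀ (x : c.L), c.pr x ∈ N → ∀ v : c.L, (v : G) ∈ V → v ≠ 1 →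
      c.pr x * c.pr v = c.pr v * c.pr x → c.pr x ∈ C := by
    intro x hx v hv hv1 hxv
    refine Subgroup.mem_centralizer_iff.2 fun u hu => ?_
    obtain ⟨w, hw, rfl⟩ := hV.mem_image.1 hu
    by_cases hwv : w = v
    · rw [hwv]; exact hxv.symm
    by_cases hw1 : w = 1
    · rw [hw1, map_one, one_mul, mul_one]
    by_contra hne
    set p := v * w
    have hp : (p : G) ∈ V := V.mul_mem hv hw
    have hp1 : p ≠ 1 := fun e => hwv (Subtype.ext (by
      have e' : (v : G) * w = 1 := congrArg Subtype.val e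
      rw [eq_inv_of_mul_eq_one_right e', hV.inv_eq hv]))
    have hpw : (p : G) ≠ w := fun e => hv1 (Subtype.ext
      (mul_right_cancel (e.trans (one_mul (w : G)).symm)))
    obtain ⟨hmw, hcw⟩ := hRcomm x hx w hw
    obtain ⟨-, hcp⟩ := hRcomm x hx p hp
    have heq : c.pr (x * p * x⁻¹ * p⁻¹) = c.pr (x * w * x⁻¹ * w⁻¹) := by
      simp only [p, map_mul, map_inv, mul_inv_rev]
      calc c.pr x * (c.pr v * c.pr w) * (c.pr x)⁻¹ * ((c.pr w)⁻¹ * (c.pr v)⁻¹)
          = (c.pr x * c.pr v) * c.pr w * (c.pr x)⁻¹ * (c.pr w)⁻¹ * (c.pr v)⁻¹ := by group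
        _ = c.pr v * (c.pr x * c.pr w * (c.pr x)⁻¹ * (c.pr w)⁻¹) * (c.pr v)⁻¹ := by rw [hxv]; group
        _ = _ := by
          rw [(memZ.1 (by rw [map_mul, map_mul, map_mul, map_inv, map_inv] at hmw; exact hmw)).2 _
            (hUN (hV.mem_image.2 ⟨v, hv, rfl⟩)), mul_inv_cancel_right]
    have hw' : ((x * w * x⁻¹ * w⁻¹ : c.L) : G) * (p : G) =
        (p : G) * (x * w * x⁻¹ * w⁻¹ : c.L) := by
      rcases c.pr_eq_iff.1 heq with e | e <;> rw [e]
      · exact hcp
      · exact ((show Commute _ (p : G) from hcp).mul_left (c.comm_s p).symm).eq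
    refine hnoTwo _ _ _ hmw ?_ hp hw (fun e => hp1 (Subtype.ext e))
      (fun e => hw1 (Subtype.ext e)) hpw hw' hcw
    intro e
    rw [map_mul, map_mul, map_mul, map_inv, map_inv] at e
    exact hne (mul_inv_eq_iff_eq_mul.1 (mul_inv_eq_one.1 e)).symm
  obtain ⟨v, hv, hv1⟩ := hV.exists_ne_one
  set vL : c.L := ⟨v, hV.le_L hv⟩
  have hvL1 : vL ≠ 1 := fun e => hv1 (congrArg Subtype.val e)
  -- at most two commutator values
  haveI : Fintype N := Fintype.ofFinite _
  set f : N → c.L ⧸ c.sGrp := fun n => (n : c.L ⧸ c.sGrp) * c.pr vL * (n : c.L ⧸ c.sGrp)⁻¹ with hf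
  have himg : (Finset.univ.image f).card ≤ 2 := by
    by_contra h
    push Not at h
    obtain ⟨a, ha, b, hb, e, he, hab, hae, hbe⟩ := Finset.two_lt_card.1 h
    obtain ⟨m, hm, hmne⟩ : ∃ m, m ∈ Finset.univ.image f ∧ m ≠ c.pr vL := by
      by_cases ha' : a = c.pr vL
      · exact ⟨b, hb, fun e' => hab (ha'.trans e'.symm)⟩
      · exact ⟨a, ha, ha'⟩
    obtain ⟨m', hm', hm'ne, hmm⟩ : ∃ m', m' ∈ Finset.univ.image f ∧ m' ≠ c.pr vL ∧ m' ≠ m := by
      by_cases h1 : a ≠ c.pr vL ∧ a ≠ m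
      · exact ⟨a, ha, h1⟩
      by_cases h2 : b ≠ c.pr vL ∧ b ≠ m
      · exact ⟨b, hb, h2⟩
      refine ⟨e, he, ?_, ?_⟩ <;> rintro rfl <;> push Not at h1 h2 <;> grind
    obtain ⟨⟨n, hn⟩, -, rfl⟩ := Finset.mem_image.1 hm
    obtain ⟨⟨n', hn'⟩, -, rfl⟩ := Finset.mem_image.1 hm'
    obtain ⟨x, rfl⟩ := c.pr_surjective n
    obtain ⟨x', rfl⟩ := c.pr_surjective n'
    obtain ⟨hzx, hcx⟩ := hRcomm x hn vL hv
    obtain ⟨hzx', hcx'⟩ := hRcomm x' hn' vL hv
    have hm1 : c.pr (x * vL * x⁻¹ * vL⁻¹) ≠ 1 := fun e' => hmne (by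
      rw [map_mul, map_mul, map_mul, map_inv, map_inv] at e'
      exact mul_inv_eq_one.1 e')
    have hm1' : c.pr (x' * vL * x'⁻¹ * vL⁻¹) ≠ 1 := fun e' => hm'ne (by
      rw [map_mul, map_mul, map_mul, map_inv, map_inv] at e'
      exact mul_inv_eq_one.1 e')
    have hdiff : c.pr (x' * vL * x'⁻¹ * vL⁻¹) ≠ c.pr (x * vL * x⁻¹ * vL⁻¹) := fun e' => hmm (by
      simp only [map_mul, map_inv] at e'
      exact mul_right_cancel e')
    -- two values generate the centre
    have hall : ∀ r : c.L, c.pr r ∈ Z → (r : G) * v = v * r := by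
      have hlift : ∀ r r' : c.L, c.pr r = c.pr r' → (r : G) * v = v * r → (r' : G) * v = v * r' := by
        intro r r' h hr
        rcases c.pr_eq_iff.1 h with e' | e' <;> rw [e']
        · exact hr
        · exact ((show Commute (r : G) v from hr).mul_left (hV.comm_s v hv).symm).eq
      set q := x * vL * x⁻¹ * vL⁻¹
      set q' := x' * vL * x'⁻¹ * vL⁻¹
      intro r hr
      have hgen : c.pr r = 1 ∨ c.pr r = c.pr q ∨ c.pr r = c.pr q' ∨ c.pr r = c.pr (q * q') := by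
        have hqq : c.pr (q * q') ≠ 1 := fun e' => hdiff (by
          rw [map_mul] at e'
          rw [eq_inv_of_mul_eq_one_right e', inv_eq_of_mul_eq_one_right (hZsq _ hzx)])
        have hqqm : c.pr (q * q') ∈ Z := by rw [map_mul]; exact Z.mul_mem hzx hzx'
        have hn1 : c.pr (q * q') ≠ c.pr q := fun e' => hm1' (by
          rw [map_mul] at e'; exact mul_left_cancel (e'.trans (mul_one _).symm))
        have hn2 : c.pr (q * q') ≠ c.pr q' := fun e' => hm1 (by
          rw [map_mul] at e'; exact mul_right_cancel (e'.trans (one_mul _).symm))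
        by_contra hne5
        push Not at hne5
        have hsub : ({1, c.pr q, c.pr q', c.pr (q * q'), c.pr r} : Finset (c.L ⧸ c.sGrp)) ⊆
            (Set.toFinite (Z : Set (c.L ⧸ c.sGrp))).toFinset := by
          intro y hy
          simp only [Finset.mem_insert, Finset.mem_singleton] at hy
          simp only [Set.Finite.mem_toFinset, SetLike.mem_coe]
          rcases hy with rfl | rfl | rfl | rfl | rfl
          exacts [one_mem _, hzx, hzx', hqqm, hr]
        have h5 := Finset.card_le_card hsub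
        rw [← Nat.card_eq_card_finite_toFinset,
          show Nat.card (Z : Set (c.L ⧸ c.sGrp)) = 4 from hZ4] at h5
        have : ({1, c.pr q, c.pr q', c.pr (q * q'), c.pr r} :
            Finset (c.L ⧸ c.sGrp)).card = 5 := by
          rw [Finset.card_insert_of_notMem, Finset.card_insert_of_notMem, Finset.card_insert_of_notMem,
            Finset.card_insert_of_notMem, Finset.card_singleton] <;>
            simp only [Finset.mem_insert, Finset.mem_singleton] <;>
            grind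
        omega
      rcases hgen with e' | e' | e' | e'
      · exact hlift 1 r ((map_one c.pr).trans e'.symm) (by simp)
      · exact hlift q r e'.symm hcx
      · exact hlift q' r e'.symm hcx'
      · exact hlift (q * q') r e'.symm ((show Commute (q : G) v from hcx).mul_left hcx').eq
    -- then `d` spreads this to another involution
    set w := c.d * v * c.d⁻¹
    refine hnoTwo r₁ v w hz₁ hz₁1 hv (hV.conj_d v hv) hv1 (fun e' => hv1 (conj_eq_one_iff.1 e'))
      (fun e' => hv1 (hV.free v hv (mul_inv_eq_iff_eq_mul.1 e'.symm).symm)) (hall r₁ hz₁) ?_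
    have h0 := hall r₀ hz₀
    simp only [hr₁, w, Subgroup.coe_mul, Subgroup.coe_inv, dL]
    calc c.d * (r₀ : G) * c.d⁻¹ * (c.d * v * c.d⁻¹) = c.d * ((r₀ : G) * v) * c.d⁻¹ := by group
      _ = _ := by rw [h0]; group
  have hfib : ∀ m ∈ Finset.univ.image f, (Finset.univ.filter fun n => f n = m).card ≤ 16 := by
    intro m hm
    obtain ⟨⟨n₁, hn₁⟩, -, rfl⟩ := Finset.mem_image.1 hm
    haveI : Fintype ↥(N ⊓ C) := Fintype.ofFinite _
    refine le_trans (Finset.card_le_card_of_injOn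
      (fun n : N => n₁⁻¹ * (n : c.L ⧸ c.sGrp)) (t := (N ⊓ C : Subgroup _).carrier.toFinset) ?_ ?_) ?_
    · intro n hn
      have he : (n : c.L ⧸ c.sGrp) * c.pr vL * (n : c.L ⧸ c.sGrp)⁻¹ = n₁ * c.pr vL * n₁⁻¹ :=
        (Finset.mem_filter.1 hn).2
      simp only [Set.coe_toFinset, Subsemigroup.mem_carrier, Submonoid.mem_toSubsemigroup,
        Subgroup.mem_toSubmonoid]
      have hmem : n₁⁻¹ * (n : c.L ⧸ c.sGrp) ∈ N := N.mul_mem (N.inv_mem hn₁) n.2
      refine ⟨hmem, ?_⟩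
      obtain ⟨x, hx⟩ := c.pr_surjective (n₁⁻¹ * (n : c.L ⧸ c.sGrp))
      rw [← hx]
      refine hfibre x (hx.symm ▸ hmem) vL hv hvL1 ?_
      rw [hx]
      calc n₁⁻¹ * (n : c.L ⧸ c.sGrp) * c.pr vL
          = n₁⁻¹ * ((n : c.L ⧸ c.sGrp) * c.pr vL * (n : c.L ⧸ c.sGrp)⁻¹) * n := by group
        _ = _ := by rw [he]; group
    · intro a _ b _ h
      exact Subtype.ext (mul_left_cancel h)
    · rw [Set.toFinset_card, ← Nat.card_eq_fintype_card]
      exact hNC
  have h32 := (Finset.card_le_mul_card_image Finset.univ 16 hfib).trans (Nat.mul_le_mul_left 16 himg)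
  rw [Finset.card_univ, ← Nat.card_eq_fintype_card] at h32
  omega

end Klein

end Setup

end CfsgLib.AltNineRecog
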