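import Cfsg.Agent.AltNineRecog.CentSKlein

/-!
# The order of the centraliser of the four-group
-/

set_option autoImplicit false
set_option linter.style.haveILetI false
set_option linter.unusedSectionVars false

namespace CfsgLib.AltNineRecog

open CfsgLib.AltNineThree (M IsE eOne eMix eAll eThree tOne tTwo gThree cls)

set_option maxRecDepth 20000

universe u

namespace Setup

variable {G : Type u} [Group G] [Finite G] (c : Setup G)

/-- The group `⟨d, g⟩`. -/
def plane : Subgroup G where
  carrier := {a | ∃ m k : ℕ, a = c.d ^ m * c.g ^ k}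
  one_mem' := ⟨0, 0, by simp⟩
  mul_mem' := by
    rintro _ _ ⟨m, k, rfl⟩ ⟨m', k', rfl⟩
    refine ⟨m + m', k + k', ?_⟩
    rw [pow_add, pow_add, mul_assoc, ← mul_assoc (c.g ^ k),
      ((show Commute c.g c.d from c.d_comm_g.symm).pow_pow k m').eq]
    simp only [mul_assoc]
  inv_mem' := by
    rintro _ ⟨m, k, rfl⟩
    refine ⟨2 * m, 2 * k, inv_eq_of_mul_eq_one_right ?_⟩
    rw [mul_assoc, ← mul_assoc (c.g ^ k), ((show Commute c.g c.d from c.d_comm_g.symm).pow_pow k (2 * m)).eq,
      mul_assoc, ← pow_add, ← mul_assoc, ← pow_add, show m + 2 * m = 3 * m by ring,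
      show k + 2 * k = 3 * k by ring, pow_mul, pow_mul, c.d_cube, c.g_cube, one_pow, one_pow,
      one_mul]

theorem d_mem_plane : c.d ∈ c.plane := ⟨1, 0, by simp⟩

theorem g_mem_plane : c.g ∈ c.plane := ⟨0, 1, by simp⟩

theorem plane_comm : IsMulCommutative c.plane := by
  refine ⟨⟨?_⟩⟩
  rintro ⟨_, m, k, rfl⟩ ⟨_, m', k', rfl⟩
  refine Subtype.ext ?_
  have h : Commute c.d c.g := c.d_comm_g
  exact (((Commute.refl c.d).pow_pow m m').mul_right (h.pow_pow m k')).mul_left
    ((h.symm.pow_pow k m').mul_right ((Commute.refl c.g).pow_pow k k'))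

theorem plane_cube {a : G} (ha : a ∈ c.plane) : a ^ 3 = 1 := by
  obtain ⟨m, k, rfl⟩ := ha
  rw [((show Commute c.d c.g from c.d_comm_g).pow_pow m k).mul_pow, ← pow_mul, ← pow_mul,
    mul_comm m, mul_comm k, pow_mul, pow_mul, c.d_cube, c.g_cube, one_pow, one_pow, one_mul]

theorem plane_isPGroup : IsPGroup 3 c.plane := fun a => ⟨1, Subtype.ext (by
  rw [pow_one, SubmonoidClass.coe_pow, OneMemClass.coe_one]; exact c.plane_cube a.2)⟩

theorem plane_not_cyclic : ¬ IsCyclic c.plane := by
  intro hc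
  obtain ⟨⟨a, ha⟩, hgen⟩ := hc.exists_generator
  have h3 : Nat.card c.plane ∣ 3 := by
    rw [← orderOf_eq_card_of_forall_mem_zpowers hgen]
    exact orderOf_dvd_of_pow_eq_one (Subtype.ext (by
      simpa using c.plane_cube ha))
  have hle : Subgroup.zpowers c.g ≤ c.plane := Subgroup.zpowers_le.2 c.g_mem_plane
  have heq := Subgroup.eq_of_le_of_card_ge hle (by
    rw [Nat.card_zpowers, c.orderOf_g]; exact Nat.le_of_dvd (by norm_num) h3)
  have hd : c.d ∈ Subgroup.zpowers c.g := by rw [heq]; exact c.d_mem_plane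
  obtain ⟨k, hk⟩ := (mem_powers_iff_mem_zpowers (x := c.g)).2 hd
  have hk' : c.d = c.g ^ (k % 3) := by rw [← c.g_pow_mod]; exact hk.symm
  rcases (show k % 3 = 0 ∨ k % 3 = 1 ∨ k % 3 = 2 by omega) with e | e | e <;> rw [e] at hk'
  · exact c.d_ne (hk'.trans (pow_zero _))
  · rw [pow_one] at hk'
    exact plane_not_fused.2.2.1 (by rw [c.el_injective hk'])
  · have h2 : c.d * c.d = c.g := by
      rw [hk', ← pow_add, c.g_pow_mod, pow_one]
    rw [d, ← map_mul] at h2
    exact plane_not_fused.2.2.2 (by rw [c.el_injective h2])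

namespace Klein

variable {c} {V : Subgroup G} (hV : c.Klein V)
include hV

/-- Subgroups of order prime to three invariant under `⟨d, g⟩` in the centraliser of `V`. -/
theorem le_of_invariant {R : Subgroup G} (hRV : ∀ r ∈ R, ∀ v ∈ V, r * v = v * r)
    (hR3 : ¬ 3 ∣ Nat.card R) (hA : c.plane ≤ Subgroup.normalizer (R : Set G)) : R ≤ V := by
  haveI := c.plane_comm
  obtain ⟨n, hn⟩ := IsPGroup.iff_card.1 c.plane_isPGroup
  refine Coprime.le_of_forall_inf_centralizer_le c.plane_not_cyclic hA
    (by rw [hn]; exact ((Nat.prime_three.coprime_iff_not_dvd).2 hR3).pow_left n) ?_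
  intro a ha ha1 r hr
  obtain ⟨hrR, hra⟩ := Subgroup.mem_inf.1 hr
  have hra' := Subgroup.mem_centralizer_singleton_iff.1 hra
  suffices hrg : r * c.g = c.g * r by
    obtain ⟨v, hv, k, rfl⟩ := hV.exists_of_comm hrg (hRV r hrR)
    have hc : Commute v (c.g ^ k) := Commute.pow_right (hV.comm_g v hv) k
    have h3 : (v * c.g ^ k) ^ 3 = v := by
      rw [hc.mul_pow, ← pow_mul, mul_comm k, pow_mul, c.g_cube, one_pow, mul_one, pow_succ, pow_two,
        hV.sq v hv, one_mul]
    have hg1 : (v * c.g ^ k) ^ 3 ∈ R := R.pow_mem hrR 3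
    have hg : c.g ^ k ∈ R := by
      rw [h3] at hg1
      simpa using R.mul_mem (R.inv_mem hg1) hrR
    have h1 : orderOf (c.g ^ k) ∣ 1 := by
      rw [← (Nat.prime_three.coprime_iff_not_dvd).2 hR3]
      exact Nat.dvd_gcd (orderOf_dvd_of_pow_eq_one (by
        rw [← pow_mul, mul_comm, pow_mul, c.g_cube, one_pow])) (Subgroup.orderOf_dvd_natCard R hg)
    rw [Nat.dvd_one, orderOf_eq_one_iff] at h1
    rw [h1, mul_one]; exact hv
  obtain ⟨m, k, rfl⟩ := ha
  rw [show c.d ^ m = c.d ^ (m % 3) from pow_eq_pow_mod m c.d_cube, c.g_pow_mod k] at hra' ha1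
  by_cases hm : m % 3 = 0
  · rw [hm, pow_zero, one_mul] at hra' ha1
    rcases (show k % 3 = 0 ∨ k % 3 = 1 ∨ k % 3 = 2 by omega) with e | e | e <;> rw [e] at hra' ha1
    · exact absurd (pow_zero _) ha1
    · rwa [pow_one] at hra'
    · have h : Commute r ((c.g ^ 2) ^ 2) := Commute.pow_right hra' 2
      rwa [← pow_mul, c.g_pow_mod, pow_one] at h
  · have hp : eMix ^ (m % 3) ∈ [eMix, eMix * eMix] := by
      rcases (show m % 3 = 1 ∨ m % 3 = 2 by omega) with e | e <;> rw [e] <;> simp [pow_two]
    have hq : eThree ^ (k % 3) ∈ [1, eThree, eThree * eThree] := by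
      rcases (show k % 3 = 0 ∨ k % 3 = 1 ∨ k % 3 = 2 by omega) with e | e | e <;> rw [e] <;>
        simp [pow_two]
    obtain ⟨hcls, -⟩ := plane_heavy _ hp _ hq
    have hrH : r ∈ c.H := c.cent_heavy hV.six.loc hcls
      (Subgroup.mem_centralizer_singleton_iff.2
        (show r * c.el _ = c.el _ * r by rw [map_mul, map_pow, map_pow]; exact hra'))
    obtain ⟨u, rfl⟩ := c.exists_el hrH
    have hE : IsE (eThree * (u * eThree⁻¹ * u⁻¹)) := (AltNineThree.eSub).mul_mem
      isE_reps.2.2.2.2.2.2.1
      (AltNineThree.E_conj _ ((AltNineThree.eSub).inv_mem isE_reps.2.2.2.2.2.2.1) u)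
    have he : c.el (eThree * (u * eThree⁻¹ * u⁻¹)) = c.g * c.el u * c.g⁻¹ * (c.el u)⁻¹ := by
      simp only [g, map_mul, map_inv]; group
    have hmem : c.el (eThree * (u * eThree⁻¹ * u⁻¹)) ∈ R := by
      rw [he]
      exact R.mul_mem ((Subgroup.mem_normalizer_iff.1 (hA c.g_mem_plane) _).1 hrR) (R.inv_mem hrR)
    have h1 : orderOf (c.el (eThree * (u * eThree⁻¹ * u⁻¹))) ∣ 1 := by
      rw [← (Nat.prime_three.coprime_iff_not_dvd).2 hR3]
      exact Nat.dvd_gcd (orderOf_dvd_of_pow_eq_one (c.el_cube hE))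
        (Subgroup.orderOf_dvd_natCard R hmem)
    rw [Nat.dvd_one, orderOf_eq_one_iff, he] at h1
    exact (mul_inv_eq_iff_eq_mul.1 (mul_inv_eq_one.1 h1)).symm

/-- The centraliser of the four-group has order 24. -/
theorem card_cent : Nat.card (Subgroup.centralizer (V : Set G)) = 24 := by
  classical
  haveI : Fact (Nat.Prime 3) := ⟨Nat.prime_three⟩
  set Z := Subgroup.centralizer (V : Set G) with hZdef
  have memZ : ∀ {y : G}, y ∈ Z ↔ ∀ v ∈ V, v * y = y * v := Subgroup.mem_centralizer_iff
  have hVZ : V ≤ Z := fun v hv => memZ.2 fun w hw => hV.comm hw hv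
  have hgZ : c.g ∈ Z := memZ.2 hV.comm_g
  have hsZ : c.s ∈ Z := memZ.2 hV.comm_s
  have hdZ : c.d ∈ Subgroup.normalizer (Z : Set G) := by
    refine Subgroup.mem_normalizer_iff.2 fun y => ⟨fun hy => memZ.2 fun v hv => ?_,
      fun hy => memZ.2 fun v hv => ?_⟩
    · have h := memZ.1 hy _ (hV.conj_d_inv hv)
      calc v * (c.d * y * c.d⁻¹) = c.d * (c.d⁻¹ * v * c.d * y) * c.d⁻¹ := by group
        _ = _ := by rw [h]; group
    · have h := memZ.1 hy _ (hV.conj_d v hv)
      calc v * y = c.d⁻¹ * (c.d * v * c.d⁻¹ * (c.d * y * c.d⁻¹)) * c.d := by group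
        _ = _ := by rw [h]; group
  have hAZ : c.plane ≤ Subgroup.normalizer (Z : Set G) := by
    rintro _ ⟨m, k, rfl⟩
    exact Subgroup.mul_mem _ (Subgroup.pow_mem _ hdZ m)
      (Subgroup.pow_mem _ (Subgroup.le_normalizer hgZ) k)
  set N := V.subgroupOf Z with hNdef
  have hNc : ∀ (n : Z), n ∈ N → ∀ y : Z, y * n * y⁻¹ = n := fun n hn y => Subtype.ext (by
    simp only [Subgroup.coe_mul, Subgroup.coe_inv]
    rw [← memZ.1 y.2 _ (Subgroup.mem_subgroupOf.1 hn), mul_inv_cancel_right])
  haveI : N.Normal := ⟨fun n hn y => by rw [hNc n hn y]; exact hn⟩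
  have hN4 : Nat.card N = 4 := by
    rw [Nat.card_congr (Subgroup.subgroupOfEquivOfLe hVZ).toEquiv, hV.card_eq]
  have hZc : Nat.card Z = Nat.card (Z ⧸ N) * 4 := by
    rw [Subgroup.card_eq_card_quotient_mul_card_subgroup N, hN4]
  set gW : Z ⧸ N := QuotientGroup.mk ⟨c.g, hgZ⟩ with hgW
  have hyp : SelfCentralizing.Hyp (Z ⧸ N) 3 gW := by
    refine ⟨Nat.prime_three, orderOf_eq_prime ?_ ?_, le_antisymm (fun q hq => ?_)
      (Subgroup.zpowers_le.2 (Subgroup.mem_centralizer_singleton_iff.2 rfl))⟩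
    · rw [hgW, ← QuotientGroup.mk_pow,
        show (⟨c.g, hgZ⟩ : Z) ^ 3 = 1 from Subtype.ext (by simp [c.g_cube]), QuotientGroup.mk_one]
    · intro h
      rw [hgW] at h
      have h' : c.g ∈ V := Subgroup.mem_subgroupOf.1 ((QuotientGroup.eq_one_iff (⟨c.g, hgZ⟩ : Z)).1 h)
      rw [← pow_one c.g] at h'
      exact c.g_ne ((pow_one c.g).symm.trans (hV.g_pow_eq_one h'))
    · induction q using QuotientGroup.induction_on with
      | _ y =>
        have h := Subgroup.mem_centralizer_singleton_iff.1 hq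
        rw [hgW, ← QuotientGroup.mk_mul, ← QuotientGroup.mk_mul, QuotientGroup.eq,
          hNdef, Subgroup.mem_subgroupOf] at h
        simp only [Subgroup.coe_mul, Subgroup.coe_inv] at h
        obtain ⟨w, hw, hwe⟩ : ∃ w ∈ V, w = ((y : G) * c.g)⁻¹ * (c.g * y) := ⟨_, h, rfl⟩
        have hconj : (y : G)⁻¹ * c.g * y = c.g * w := by rw [hwe]; group
        have hw3 : w ^ 3 = 1 := by
          have h1 : ((y : G)⁻¹ * c.g * y) ^ 3 = (y : G)⁻¹ * c.g ^ 3 * y := by
            simp only [pow_succ, pow_zero, one_mul]; group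
          rw [hconj, c.g_cube, (show Commute c.g w from (hV.comm_g w hw).symm).mul_pow,
            c.g_cube, one_mul, mul_one, inv_mul_cancel] at h1
          exact h1
        rw [hV.eq_one_of_cube hw hw3, mul_one] at hconj
        have hyg : (y : G) * c.g = c.g * y := by
          calc (y : G) * c.g = (y : G) * ((y : G)⁻¹ * c.g * y) := by rw [hconj]
            _ = _ := by group
        obtain ⟨v, hv, k, hyk⟩ := hV.exists_of_comm hyg fun u hu => (memZ.1 y.2 u hu).symm
        refine Subgroup.mem_zpowers_iff.2 ⟨k, ?_⟩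
        rw [zpow_natCast, hgW, ← QuotientGroup.mk_pow, QuotientGroup.eq, hNdef,
          Subgroup.mem_subgroupOf]
        simp only [Subgroup.coe_mul, Subgroup.coe_inv, SubmonoidClass.coe_pow, hyk]
        rw [((show Commute v c.g from hV.comm_g v hv).pow_right k).eq, inv_mul_cancel_left]
        exact hv
  -- normal subgroups of order prime to three of the quotient are trivial
  have hbot : ∀ T : Subgroup (Z ⧸ N), T.Normal → ¬ 3 ∣ Nat.card T → T = ⊥ := by
    intro T hT hT3
    haveI := hT
    set R₀ := Cfsg.pPrimeCore 3 Z with hR₀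
    have hcore := SelfCentralizing.core_spec (G := Z) 3
    haveI := SelfCentralizing.core_characteristic (G := Z) 3
    have h1 : T.comap (QuotientGroup.mk' N) ≤ R₀ := by
      refine SelfCentralizing.le_core 3 (hT.comap _) (((Nat.prime_three.coprime_iff_not_dvd).2 ?_).symm)
      have e : Nat.card (T.comap (QuotientGroup.mk' N)) = Nat.card N * Nat.card T :=
        QuotientGroup.card_preimage_mk N (T : Set (Z ⧸ N))
      rw [e, hN4, Nat.prime_three.dvd_mul]
      rintro (h | h)
      · norm_num at h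
      · exact hT3 h
    have hR : R₀.map Z.subtype ≤ V := by
      refine hV.le_of_invariant ?_ ?_ ?_
      · rintro _ ⟨y, -, rfl⟩ v hv
        exact (memZ.1 y.2 v hv).symm
      · rw [Subgroup.card_map_of_injective Z.subtype_injective]
        exact (Nat.prime_three.coprime_iff_not_dvd).1 hcore.2.symm
      · intro a ha
        refine Subgroup.mem_normalizer_iff.2 fun y => ?_
        set φ : MulAut Z := Subgroup.normalizerMonoidHom Z ⟨a, hAZ ha⟩
        have hφ : ∀ z : Z, ((φ z : Z) : G) = a * z * a⁻¹ := fun _ => rfl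
        constructor
        · rintro ⟨z, hz, rfl⟩
          refine ⟨φ z, ?_, hφ z⟩
          exact (SetLike.ext_iff.1 (Subgroup.Characteristic.fixed (H := R₀) inferInstance φ) z).2 hz
        · rintro ⟨z, hz, hzy⟩
          obtain ⟨w, rfl⟩ := φ.surjective z
          refine ⟨w, (SetLike.ext_iff.1
            (Subgroup.Characteristic.fixed (H := R₀) inferInstance φ) w).1 hz, ?_⟩
          have hzy' : a * (w : G) * a⁻¹ = a * y * a⁻¹ := (hφ w).symm.trans hzy
          exact mul_left_cancel (mul_right_cancel hzy')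
    refine (Subgroup.eq_bot_iff_forall T).2 fun q hq => ?_
    obtain ⟨y, rfl⟩ := QuotientGroup.mk_surjective q
    exact (QuotientGroup.eq_one_iff y).2 (Subgroup.mem_subgroupOf.2 (hR ⟨y, h1 hq, rfl⟩))
  have h60 : ¬ (5 ∣ Nat.card (Z ⧸ N) ∧ Nat.card (Z ⧸ N) = 60) := by
    rintro ⟨-, h60⟩
    rw [h60] at hZc
    haveI : Fact (Nat.Prime 5) := ⟨by norm_num⟩
    let P : Sylow 5 Z := default
    have hP : Nat.card P = 5 := by
      rw [P.card_eq_multiplicity, hZc]
      norm_num [Nat.factorization_mul, Nat.Prime.factorization, Nat.factorization_eq_zero_iff]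
      decide +kernel
    letI : MulAction c.plane (Sylow 5 Z) :=
      MulAction.compHom _ ((Subgroup.normalizerMonoidHom Z).comp (Subgroup.inclusion hAZ))
    have hfixed : ∀ a : c.plane, a ≠ 1 → ∀ Q : Sylow 5 Z, a • Q ≠ Q := by
      intro a ha Q hQ
      have hQ5 : Nat.card Q = 5 := by rw [Q.card_eq_multiplicity, ← P.card_eq_multiplicity, hP]
      set T : Subgroup G := (Q : Subgroup Z).map Z.subtype
      have hT5 : Nat.card T = 5 := by
        rw [Subgroup.card_map_of_injective Z.subtype_injective]; exact hQ5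
      obtain ⟨q, hq1⟩ : ∃ q : T, q ≠ 1 := by
        haveI : Nontrivial T := Finite.one_lt_card_iff_nontrivial.1 (by omega)
        exact exists_ne 1
      have hord : orderOf (q : G) = 5 := by
        rw [Subgroup.orderOf_coe]
        rcases (Nat.dvd_prime (by norm_num)).1 (hT5 ▸ orderOf_dvd_natCard q) with h | h
        · exact absurd (orderOf_eq_one_iff.1 h) hq1
        · exact h
      obtain ⟨z, hz, hzq⟩ := q.2
      have hnorm : (a : G) * q * (a : G)⁻¹ ∈ T := by
        set φ : MulAut Z := Subgroup.normalizerMonoidHom Z ⟨a, hAZ a.2⟩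
        have h0 : φ z ∈ ((a • Q : Sylow 5 Z) : Subgroup Z) := ⟨z, hz, rfl⟩
        have h1 : φ z ∈ (Q : Subgroup Z) := by rwa [hQ] at h0
        exact ⟨φ z, h1, by rw [← hzq]; rfl⟩
      obtain ⟨j, hj⟩ : ∃ j : ℕ, (q : G) ^ j = (a : G) * q * (a : G)⁻¹ := by
        have heq := Subgroup.eq_of_le_of_card_ge (Subgroup.zpowers_le.2 q.2)
          (by rw [hT5, Nat.card_zpowers, hord])
        have hm : (a : G) * q * (a : G)⁻¹ ∈ Subgroup.zpowers (q : G) := by rw [heq]; exact hnorm
        exact (mem_powers_iff_mem_zpowers (x := (q : G))).2 hm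
      have hcomm : Commute (a : G) q := by
        have ha3 : (a : G) ^ 3 = 1 := c.plane_cube a.2
        have h1 : (q : G) ^ (j * j * j) = q := by
          calc (q : G) ^ (j * j * j) = (((q : G) ^ j) ^ j) ^ j := by
                  rw [← pow_mul, ← pow_mul, mul_assoc]
            _ = (((a : G) * q * (a : G)⁻¹) ^ j) ^ j := by rw [hj]
            _ = ((a : G) * ((a : G) * q * (a : G)⁻¹) * (a : G)⁻¹) ^ j := by rw [conj_pow, hj]
            _ = (a : G) * ((a : G) * ((a : G) * q * (a : G)⁻¹) * (a : G)⁻¹) * (a : G)⁻¹ := by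
              rw [conj_pow, conj_pow, hj]
            _ = (a : G) ^ 3 * q * ((a : G) ^ 3)⁻¹ := by
              simp only [pow_succ, pow_zero, one_mul]; group
            _ = q := by rw [ha3]; group
        rw [← pow_mod_orderOf, hord] at h1
        nth_rewrite 2 [← pow_one (q : G)] at h1
        have h2 := pow_inj_mod.1 h1
        rw [hord, Nat.mod_mod, Nat.mul_mod, Nat.mul_mod j j] at h2
        have h5 := Nat.mod_lt j (show 5 > 0 by norm_num)
        interval_cases hjm : j % 5 <;> first | (exfalso; omega) | skip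
        rw [← pow_mod_orderOf, hord, hjm, pow_one] at hj
        exact (mul_inv_eq_iff_eq_mul.1 hj.symm)
      obtain ⟨m, k, hak⟩ := a.2
      have hqZ : (q : G) ∈ Z := hzq ▸ z.2
      rw [hak, show c.d ^ m = c.d ^ (m % 3) from pow_eq_pow_mod m c.d_cube, c.g_pow_mod k] at hcomm
      by_cases hm : m % 3 = 0
      · rw [hm, pow_zero, one_mul] at hcomm
        have hk : k % 3 ≠ 0 := fun hk => ha (Subtype.ext (by
          rw [hak, show c.d ^ m = c.d ^ (m % 3) from pow_eq_pow_mod m c.d_cube, c.g_pow_mod k, hm, hk]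
          simp))
        have hqg : (q : G) * c.g = c.g * q := by
          rcases (show k % 3 = 1 ∨ k % 3 = 2 by omega) with e | e <;> rw [e] at hcomm
          · rw [pow_one] at hcomm; exact hcomm.symm.eq
          · have h := (hcomm.pow_left 2)
            rw [← pow_mul, c.g_pow_mod, pow_one] at h
            exact h.symm.eq
        obtain ⟨v, hv, l, hql⟩ := hV.exists_of_comm hqg fun u hu => (memZ.1 hqZ u hu).symm
        have h6 : (q : G) ^ 6 = 1 := by
          rw [hql, (Commute.pow_right (hV.comm_g v hv) l).mul_pow, ← pow_mul, mul_comm l,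
            show 6 = 3 * 2 from rfl, mul_assoc 3 2 l, pow_mul c.g, c.g_cube, one_pow,
            mul_one, pow_mul' v, pow_two, hV.sq v hv, one_pow]
        have := orderOf_dvd_of_pow_eq_one h6
        rw [hord] at this
        norm_num at this
      · have hp : eMix ^ (m % 3) ∈ [eMix, eMix * eMix] := by
          rcases (show m % 3 = 1 ∨ m % 3 = 2 by omega) with e | e <;> rw [e] <;> simp [pow_two]
        have hq' : eThree ^ (k % 3) ∈ [1, eThree, eThree * eThree] := by
          rcases (show k % 3 = 0 ∨ k % 3 = 1 ∨ k % 3 = 2 by omega) with e | e | e <;> rw [e] <;>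
            simp [pow_two]
        have hqH := c.cent_heavy hV.six.loc (plane_heavy _ hp _ hq').1
          (Subgroup.mem_centralizer_singleton_iff.2 (show (q : G) * c.el _ = c.el _ * q by
            rw [map_mul, map_pow, map_pow]; exact hcomm.symm.eq))
        have := Subgroup.orderOf_dvd_natCard _ hqH
        rw [hord, c.card_cH] at this
        norm_num at this
    -- the action is semiregular, so nine divides the number of Sylow subgroups
    have h9 : 9 ∣ Nat.card (Sylow 5 Z) := by
      have hA9 : 9 ∣ Nat.card c.plane := by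
        obtain ⟨n, hn⟩ := IsPGroup.iff_card.1 c.plane_isPGroup
        rw [hn]
        rcases n with _ | _ | n
        · haveI := (Nat.card_eq_one_iff_unique.1 (hn.trans (pow_zero 3))).1
          exact absurd isCyclic_of_subsingleton c.plane_not_cyclic
        · exact absurd (isCyclic_of_prime_card (p := 3) (by simpa using hn)) c.plane_not_cyclic
        · exact pow_dvd_pow 3 (by omega : 2 ≤ n + 2)
      have hsemi : ∀ Q : Sylow 5 Z, MulAction.stabilizer c.plane Q = ⊥ := fun Q =>
        (Subgroup.eq_bot_iff_forall _).2 fun a ha => by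
          by_contra h; exact hfixed a h Q (MulAction.mem_stabilizer_iff.1 ha)
      haveI : Fintype (Sylow 5 Z) := Fintype.ofFinite _
      haveI : Fintype c.plane := Fintype.ofFinite _
      have hsum := Nat.card_congr (MulAction.selfEquivSigmaOrbits c.plane (Sylow 5 Z))
      rw [hsum, Nat.card_sigma]
      refine Finset.dvd_sum fun ω _ => ?_
      rw [Nat.card_congr (MulAction.orbitEquivQuotientStabilizer c.plane ω.out), hsemi,
        ← Subgroup.index_eq_card, Subgroup.index_bot]
      exact hA9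
    have hn := Sylow.card_dvd_index P
    have hidx : (P : Subgroup Z).index = 48 := by
      have := (P : Subgroup Z).card_mul_index
      rw [hP, hZc] at this
      omega
    rw [hidx] at hn
    exact absurd (h9.trans hn) (by norm_num)
  rcases SelfCentralThree.shape hyp with ⟨T, hT, -, hcop, hidx⟩ | ⟨T, hT, hTc, hTe, hidx, -⟩ | ⟨h168, hs⟩
  · have hT1 := hbot T hT ((Nat.prime_three.coprime_iff_not_dvd).1 hcop.symm)
    rw [hT1, Subgroup.index_bot] at hidx
    rcases hidx with h | h
    · exfalso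
      have htop : Subgroup.zpowers gW = ⊤ :=
        Subgroup.eq_top_of_card_eq _ (by rw [hyp.card_zpowers, h])
      have hsw : (QuotientGroup.mk ⟨c.s, hsZ⟩ : Z ⧸ N) ∈ Subgroup.zpowers gW := by
        rw [htop]; trivial
      obtain ⟨k, hk⟩ := (mem_powers_iff_mem_zpowers (x := gW)).2 hsw
      have hk' : gW ^ k = QuotientGroup.mk ⟨c.s, hsZ⟩ := hk
      rw [hgW, ← QuotientGroup.mk_pow, QuotientGroup.eq, hNdef, Subgroup.mem_subgroupOf] at hk'
      simp only [Subgroup.coe_mul, Subgroup.coe_inv, SubmonoidClass.coe_pow] at hk'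
      have hcs : Commute c.g (c.g ^ k * ((c.g ^ k)⁻¹ * c.s)) :=
        ((Commute.refl c.g).pow_right k).mul_right (hV.comm_g _ hk').symm
      rw [mul_inv_cancel_left] at hcs
      exact centS_rels.2.2.2.2.2.1 (c.el_injective (by rw [map_mul, map_mul]; exact hcs.symm.eq))
    · rw [hZc, h]
  · exfalso
    have hT3 : ¬ 3 ∣ Nat.card T := by
      intro h
      obtain ⟨t, ht⟩ := exists_prime_orderOf_dvd_card' (G := T) 3 h
      have h2 := orderOf_dvd_of_pow_eq_one
        (show t ^ 2 = 1 from Subtype.ext (by simpa using hTe t t.2))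
      rw [ht] at h2
      norm_num at h2
    rw [hbot T hT hT3, Subgroup.index_bot] at hidx
    exact h60 ⟨by rw [hidx]; norm_num, hidx⟩
  · exfalso
    rw [h168] at hZc
    haveI : Fact (Nat.Prime 7) := ⟨by norm_num⟩
    letI : MulAction c.plane (Sylow 7 Z) :=
      MulAction.compHom _ ((Subgroup.normalizerMonoidHom Z).comp (Subgroup.inclusion hAZ))
    have hmod := card_sylow_modEq_one 7 Z
    let P : Sylow 7 Z := default
    have hP : Nat.card P = 7 := by
      rw [P.card_eq_multiplicity, hZc]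
      norm_num [Nat.factorization_mul, Nat.Prime.factorization, Nat.factorization_eq_zero_iff]
      decide +kernel
    have hidx : (P : Subgroup Z).index = 96 := by
      have := (P : Subgroup Z).card_mul_index
      rw [hP, hZc] at this
      omega
    have hn := Sylow.card_dvd_index P
    rw [hidx] at hn
    have h3 : ¬ 3 ∣ Nat.card (Sylow 7 Z) := by
      intro h
      have hle := Nat.le_of_dvd (by norm_num) hn
      have h7 : Nat.card (Sylow 7 Z) % 7 = 1 := hmod
      obtain ⟨r, hr⟩ := h
      rw [hr] at hn hle h7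
      have : r ≤ 32 := by omega
      interval_cases r <;> omega
    obtain ⟨Q, hQ⟩ := c.plane_isPGroup.nonempty_fixed_point_of_prime_not_dvd_card (Sylow 7 Z) h3
    have hQ7 : Nat.card Q = 7 := by rw [Q.card_eq_multiplicity, ← P.card_eq_multiplicity, hP]
    have hle : (Q : Subgroup Z).map Z.subtype ≤ V := by
      refine hV.le_of_invariant ?_ ?_ ?_
      · rintro _ ⟨y, -, rfl⟩ v hv
        exact (memZ.1 y.2 v hv).symm
      · rw [Subgroup.card_map_of_injective Z.subtype_injective]
        change ¬ 3 ∣ Nat.card Q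
        rw [hQ7]; norm_num
      · have hkey : ∀ b : c.plane, ∀ y ∈ (Q : Subgroup Z).map Z.subtype,
            (b : G) * y * (b : G)⁻¹ ∈ (Q : Subgroup Z).map Z.subtype := by
          rintro b _ ⟨z, hz, rfl⟩
          refine ⟨Subgroup.normalizerMonoidHom Z ⟨b, hAZ b.2⟩ z, ?_, rfl⟩
          have h0 : Subgroup.normalizerMonoidHom Z ⟨b, hAZ b.2⟩ z ∈
              ((b • Q : Sylow 7 Z) : Subgroup Z) := ⟨z, hz, rfl⟩
          rwa [hQ b] at h0
        intro a ha
        refine Subgroup.mem_normalizer_iff.2 fun y => ⟨hkey ⟨a, ha⟩ y, fun hy => ?_⟩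
        have h := hkey ⟨a, ha⟩⁻¹ _ hy
        rwa [show ((⟨a, ha⟩⁻¹ : c.plane) : G) = a⁻¹ from rfl,
          show a⁻¹ * (a * y * a⁻¹) * a⁻¹⁻¹ = y by group] at h
    have h := Subgroup.card_dvd_of_le hle
    rw [Subgroup.card_map_of_injective Z.subtype_injective, hV.card_eq] at h
    change Nat.card Q ∣ 4 at h
    rw [hQ7] at h
    norm_num at h

end Klein

end Setup

end CfsgLib.AltNineRecog
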