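import Cfsg.Agent.AltNineRecog.Main
import Cfsg.Agent.AltNineRecog.AltCase
import Cfsg.Agent.AltNineRecog.CentS

/-!
# The recognition of `Alt 9` from a 3-local subgroup
-/

set_option autoImplicit false

namespace CfsgLib.AltNineRecog

universe u

/-- The recognition with the centraliser hypothesis on the elementary subgroup only. -/
theorem alt_nine_or_top_of_base {G : Type u} [Group G] [Finite G]
    (hrec : InvolutionRecog G)
    (J : Subgroup G) (hJexp : ∀ a ∈ J, a ^ 3 = 1) (hJcard : Nat.card J = 27)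
    (H : Subgroup G) (hH : H = Subgroup.normalizer (J : Set G)) (e : H ≃* AltNineThree.M)
    (hcores : ∀ x ∈ J, orderOf x = 3 →
      Cfsg.pPrimeCore 3 (Subgroup.centralizer ({x} : Set G)) = ⊥) :
    H = ⊤ ∨ Nonempty (G ≃* alternatingGroup (Fin 9)) := by
  obtain ⟨c, hc⟩ := exists_setup hJexp hJcard hH e hcores
  exact c.top_or_six.imp (fun h => hc ▸ h) fun hS => c.alt_nine hS (c.centShape hS) hrec

/-- The recognition, given the recognition from the centraliser of an involution. -/
theorem alt_nine_or_top {G : Type u} [Group G] [Finite G]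
    (hrec : InvolutionRecog G)
    (J : Subgroup G) (hJexp : ∀ a ∈ J, a ^ 3 = 1) (hJcard : Nat.card J = 27)
    (H : Subgroup G) (hH : H = Subgroup.normalizer (J : Set G))
    (J₀ : Subgroup (Equiv.Perm (Fin 9)))
    (hJ₀ : J₀ = Subgroup.closure {Equiv.swap (0 : Fin 9) 1 * Equiv.swap 1 2,
      Equiv.swap (3 : Fin 9) 4 * Equiv.swap 4 5, Equiv.swap (6 : Fin 9) 7 * Equiv.swap 7 8})
    (eH : H ≃* ↥(alternatingGroup (Fin 9) ⊓ Subgroup.normalizer (J₀ : Set (Equiv.Perm (Fin 9)))))
    (hcores : ∀ x ∈ H, orderOf x = 3 →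
      Cfsg.pPrimeCore 3 (Subgroup.centralizer ({x} : Set G)) = ⊥) :
    H = ⊤ ∨ Nonempty (G ≃* alternatingGroup (Fin 9)) := by
  exact alt_nine_or_top_of_base hrec J hJexp hJcard H hH (eH.trans (normalizerIso hJ₀))
    fun x hx => hcores x (hH ▸ Subgroup.le_normalizer hx)

end CfsgLib.AltNineRecog
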