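import Cfsg.Agent.AltNineRecog.CentE
import Cfsg.Agent.SelfCentralThree.Main

/-!
# The four-group and the dichotomy

In the second case the centraliser of `s` in `C(g)` permutes four Sylow subgroups and has order 24.
-/

set_option autoImplicit false
set_option linter.style.haveILetI false
set_option linter.unusedSectionVars false

namespace CfsgLib.AltNineRecog

open CfsgLib.AltNineThree (M IsE eOne eMix eAll eThree tOne tTwo gThree cls)

set_option maxRecDepth 20000

universe u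

/-- An element of the model conjugating `eOne` to `eThree`. -/
theorem eOne_conj_eThree : ∃ k : M, k * eOne * k⁻¹ = eThree :=
  AltNineThree.conj_of_cls (AltNineThree.cls_eMix.1.trans isE_reps.2.2.2.2.2.2.2.2.1.symm)

namespace Setup

variable {G : Type u} [Group G] [Finite G] (c : Setup G)

/-- Conjugating the centraliser of `eOne` to that of `g`. -/
theorem conj_mem_CE {k : M} (hk : k * eOne * k⁻¹ = eThree) {z : G} :
    z ∈ Subgroup.centralizer ({c.g} : Set G) ↔ (c.el k)⁻¹ * z * c.el k ∈ c.CE := by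
  have hg : c.g = c.el k * c.el eOne * (c.el k)⁻¹ := by
    rw [g, ← hk, map_mul, map_mul, map_inv]
  simp only [CE, Subgroup.mem_centralizer_singleton_iff, hg]
  constructor
  · intro h
    calc (c.el k)⁻¹ * z * c.el k * c.el eOne
        = (c.el k)⁻¹ * (z * (c.el k * c.el eOne * (c.el k)⁻¹)) * c.el k := by group
      _ = c.el eOne * ((c.el k)⁻¹ * z * c.el k) := by rw [h]; group
  · intro h
    calc z * (c.el k * c.el eOne * (c.el k)⁻¹)
        = c.el k * ((c.el k)⁻¹ * z * c.el k * c.el eOne) * (c.el k)⁻¹ := by group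
      _ = c.el k * c.el eOne * (c.el k)⁻¹ * z := by rw [h]; group

theorem inside_of_le (hloc : c.Local) (h : c.CE ≤ c.H) : c.Inside := by
  intro a ha ha1
  rcases (AltNineThree.isE_iff a).1 ha with e | e | e | e
  · exfalso
    obtain ⟨k, hk⟩ := AltNineThree.conj_of_cls (a := (1 : M)) (b := a)
      (AltNineThree.cls_one.trans e.symm)
    exact ha1 (by simpa using hk.symm)
  · obtain ⟨k, hk⟩ := AltNineThree.conj_of_cls (AltNineThree.cls_eMix.1.trans e.symm)
    intro z hz
    have hz' : (c.el k)⁻¹ * z * c.el k ∈ c.H := by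
      refine h (Subgroup.mem_centralizer_singleton_iff.2 ?_)
      have h0 := Subgroup.mem_centralizer_singleton_iff.1 hz
      rw [← hk, map_mul, map_mul, map_inv] at h0
      calc (c.el k)⁻¹ * z * c.el k * c.el eOne
          = (c.el k)⁻¹ * (z * (c.el k * c.el eOne * (c.el k)⁻¹)) * c.el k := by group
        _ = c.el eOne * ((c.el k)⁻¹ * z * c.el k) := by rw [h0]; group
    have := c.H.mul_mem (c.H.mul_mem (c.el_mem k) hz') (c.H.inv_mem (c.el_mem k))
    simpa [mul_assoc] using this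
  · exact c.cent_heavy hloc (Or.inl e)
  · exact c.cent_heavy hloc (Or.inr e)

theorem card_centralizer_g (hcard : Nat.card c.CE = 1080) :
    Nat.card (Subgroup.centralizer ({c.g} : Set G)) = 1080 := by
  obtain ⟨k, hk⟩ := eOne_conj_eThree
  rw [← hcard]
  exact Nat.card_congr
    { toFun := fun z => ⟨_, (c.conj_mem_CE hk).1 z.2⟩
      invFun := fun z => ⟨c.el k * z * (c.el k)⁻¹, (c.conj_mem_CE hk).2 (by simp [mul_assoc])⟩
      left_inv := fun z => Subtype.ext (by simp [mul_assoc])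
      right_inv := fun z => Subtype.ext (by simp [mul_assoc]) }

theorem theta_trivial (hθ : ∀ θ : c.CE →* Multiplicative (ZMod 2), ∀ z, θ z = 1)
    (θ : G →* Multiplicative (ZMod 2)) : ∀ z ∈ Subgroup.centralizer ({c.g} : Set G), θ z = 1 := by
  obtain ⟨k, hk⟩ := eOne_conj_eThree
  intro z hz
  have h := hθ (θ.comp c.CE.subtype) ⟨_, (c.conj_mem_CE hk).1 hz⟩
  simp only [MonoidHom.comp_apply, Subgroup.coe_subtype, map_mul, map_inv] at h
  rwa [mul_comm (θ (c.el k))⁻¹ (θ z), inv_mul_cancel_right] at h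

theorem theta_H (hθ : ∀ θ : c.CE →* Multiplicative (ZMod 2), ∀ z, θ z = 1)
    (θ : G →* Multiplicative (ZMod 2)) : ∀ h ∈ c.H, θ h = 1 := by
  have hC := c.theta_trivial hθ θ
  set φ := θ.comp c.el
  have h2 : ∀ u : Multiplicative (ZMod 2), u ^ 3 = 1 → u = 1 := by decide
  have h3 : ∀ m : M, m * m * m = 1 → φ m = 1 := fun m hm => h2 _ (by
    rw [← map_pow, pow_succ, pow_two, hm, map_one])
  have hcz : ∀ m : M, m * eThree = eThree * m → φ m = 1 := fun m hm => hC _
    (Subgroup.mem_centralizer_singleton_iff.2 (by rw [g, ← map_mul, hm, map_mul]))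
  obtain ⟨htO, -, -, -, -, -, -, -, -, -, hg3, heO⟩ := tOne_cent
  have ht1 := hcz _ htO
  have ht2 : φ tTwo = 1 := by
    obtain ⟨k, -, hk⟩ := tTwo_split
    have := hcz _ hk
    rwa [map_mul, map_mul, map_mul, map_inv, ht1, mul_one, mul_inv_cancel, mul_one] at this
  have hgen : ∀ m ∈ Set.range AltNineThree.gen, φ m = 1 := by
    rintro _ ⟨i, rfl⟩
    fin_cases i
    exacts [h3 _ heO, ht1, h3 _ hg3, ht2]
  intro h hh
  obtain ⟨m, rfl⟩ := c.exists_el hh
  have hle : Subgroup.closure (Set.range AltNineThree.gen) ≤ φ.ker :=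
    (Subgroup.closure_le _).2 fun m hm => MonoidHom.mem_ker.2 (hgen m hm)
  exact MonoidHom.mem_ker.1 (hle (AltNineThree.mem_closure_gen m))

/-- Two conjugates of `J` in `C(g)` sharing an element outside the line of `g` are equal. -/
theorem mem_H_of_shared (hloc : c.Local) {z : G} (hz : z * c.g = c.g * z) {j : G} (hj : j ∈ c.J)
    {j' : M} (hj' : IsE j') (hout : j' ∉ [1, eThree, eThree * eThree])
    (hconj : z * j * z⁻¹ = c.el j') : z ∈ c.H := by
  refine c.mem_H_of_normalizes fun y hy => ?_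
  obtain ⟨k, hk⟩ := eOne_conj_eThree
  have hw : z * y * z⁻¹ ∈ Subgroup.centralizer ({c.g} : Set G) := by
    refine Subgroup.mem_centralizer_singleton_iff.2 ?_
    have h1 : y * c.g = c.g * y := c.comm_J hy (c.el_mem_J isE_reps.2.2.2.2.2.2.1)
    have h2 : z⁻¹ * c.g = c.g * z⁻¹ :=
      ((show Commute z c.g from hz).inv_left).eq
    exact ((Commute.mul_left (Commute.mul_left (show Commute z c.g from hz) h1) h2)).eq
  have hcj : z * y * z⁻¹ * c.el j' = c.el j' * (z * y * z⁻¹) := by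
    rw [← hconj]
    calc z * y * z⁻¹ * (z * j * z⁻¹) = z * (y * j) * z⁻¹ := by group
      _ = z * (j * y) * z⁻¹ := by rw [c.comm_J hy hj]
      _ = _ := by group
  have hout' : k⁻¹ * j' * k ∉ [1, eOne, eOne * eOne] := by
    intro h
    refine hout ?_
    simp only [List.mem_cons, List.not_mem_nil, or_false] at h ⊢
    have hj'' : j' = k * (k⁻¹ * j' * k) * k⁻¹ := by group
    rcases h with e | e | e <;> rw [e] at hj''
    · left; rw [hj'']; group
    · right; left; rw [hj'', hk]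
    · right; right; rw [hj'', ← hk]; group
  have hfix : (c.el k)⁻¹ * (z * y * z⁻¹) * c.el k * c.el (k⁻¹ * j' * k) *
      ((c.el k)⁻¹ * (z * y * z⁻¹) * c.el k)⁻¹ = c.el (k⁻¹ * j' * k * eOne ^ 0) := by
    rw [pow_zero, mul_one, map_mul, map_mul, map_inv]
    calc (c.el k)⁻¹ * (z * y * z⁻¹) * c.el k * ((c.el k)⁻¹ * c.el j' * c.el k) *
          ((c.el k)⁻¹ * (z * y * z⁻¹) * c.el k)⁻¹
        = (c.el k)⁻¹ * (z * y * z⁻¹ * c.el j' * (z * y * z⁻¹)⁻¹) * c.el k := by group
      _ = (c.el k)⁻¹ * c.el j' * c.el k := by rw [hcj, mul_inv_cancel_right]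
  have hmem := c.mem_J_of_fixes hloc ((c.conj_mem_CE hk).1 hw)
    (by have := AltNineThree.E_conj j' hj' k⁻¹; rwa [inv_inv] at this) hout' hfix
  obtain ⟨m, hm, hme⟩ := c.mem_J.1 hmem
  have he : z * y * z⁻¹ = c.el (k * m * k⁻¹) := by
    rw [map_mul, map_mul, map_inv, hme]; group
  rw [he]
  exact c.el_mem_J (AltNineThree.E_conj m hm k)

/-- The four-group. -/
theorem exists_four (hloc : c.Local) (hcard : Nat.card (Subgroup.centralizer ({c.g} : Set G)) = 1080) :
    ∃ V : Subgroup G, Nat.card V = 4 ∧ (∀ v ∈ V, v * v = 1) ∧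
    (∀ v ∈ V, v * c.g = c.g * v ∧ v * c.s = c.s * v) ∧
    (∀ v ∈ V, c.d * v * c.d⁻¹ ∈ V) ∧ (∀ v ∈ V, c.i * v * c.i⁻¹ ∈ V) ∧
    (∀ v ∈ V, v * c.d = c.d * v → v = 1) := by
  classical
  haveI : Fact (Nat.Prime 2) := ⟨Nat.prime_two⟩
  haveI : Fact (Nat.Prime 3) := ⟨Nat.prime_three⟩
  obtain ⟨hiG, his, hi2, hds, hdG, hg3, hd3, hs2, hid, hsg, -, -⟩ := tOne_cent
  obtain ⟨-, -, hdE, hd1, -, -, hgE, hg1, -, -⟩ := isE_reps
  set C := Subgroup.centralizer ({c.g} : Set G) with hC
  set K := c.H.subgroupOf C with hK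
  have memC : ∀ m : M, m * eThree = eThree * m → c.el m ∈ C := fun m hm =>
    Subgroup.mem_centralizer_singleton_iff.2 (by rw [g, ← map_mul, hm, map_mul])
  have hJC : ∀ j : M, IsE j → c.el j ∈ C := fun j hj =>
    memC j (AltNineThree.E_mul j hj eThree hgE).2
  have hKcard : Nat.card K = 108 := by
    obtain ⟨k, hk⟩ := eOne_conj_eThree
    have h : (Finset.univ.filter fun u : M => u * eThree = eThree * u).card = 108 := by
      rw [← card_cent_eOne]
      refine Finset.card_equiv ((MulAut.conj k).toEquiv.symm) fun u => ?_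
      simp only [Finset.mem_filter, Finset.mem_univ, true_and, MulEquiv.toEquiv_eq_coe,
        MulEquiv.coe_toEquiv_symm, MulAut.conj_symm_apply, ← hk]
      constructor
      · intro h
        calc k⁻¹ * u * k * eOne = k⁻¹ * (u * (k * eOne * k⁻¹)) * k := by group
          _ = eOne * (k⁻¹ * u * k) := by rw [h]; group
      · intro h
        calc u * (k * eOne * k⁻¹) = k * (k⁻¹ * u * k * eOne) * k⁻¹ := by group
          _ = k * eOne * k⁻¹ * u := by rw [h]; group
    rw [← h, ← Fintype.card_subtype, ← Nat.card_eq_fintype_card]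
    exact Nat.card_congr
      { toFun := fun z => ⟨c.e ⟨((z : C) : G), z.2⟩, c.el_injective (by
          rw [map_mul, map_mul]
          simpa [el, g] using Subgroup.mem_centralizer_singleton_iff.1 z.1.2)⟩
        invFun := fun u => ⟨⟨c.el u.1, memC u.1 u.2⟩, c.el_mem u.1⟩
        left_inv := fun z => Subtype.ext (Subtype.ext (by simp [el]))
        right_inv := fun u => Subtype.ext (by simp [el]) }
  have hΩ : Nat.card (C ⧸ K) = 10 := by
    have := Subgroup.card_eq_card_quotient_mul_card_subgroup K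
    rw [hcard, hKcard] at this
    omega
  haveI : Fintype (C ⧸ K) := Fintype.ofFinite _
  -- the action of `s`
  have hsC : ∀ z : C, c.s * z * c.s⁻¹ ∈ C := by
    intro z
    refine Subgroup.mem_centralizer_singleton_iff.2 ?_
    have h1 : c.s⁻¹ * c.g * c.s = c.g * c.g := by
      rw [s, g, ← map_inv, ← map_mul, ← map_mul, inv_eq_of_mul_eq_one_right hs2, hsg, map_mul]
    have h2 : (z : G) * (c.g * c.g) = c.g * c.g * z :=
      (Commute.mul_right (Subgroup.mem_centralizer_singleton_iff.1 z.2)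
        (Subgroup.mem_centralizer_singleton_iff.1 z.2)).eq
    calc c.s * z * c.s⁻¹ * c.g = c.s * (z * (c.s⁻¹ * c.g * c.s)) * c.s⁻¹ := by group
      _ = c.s * ((c.s⁻¹ * c.g * c.s) * z) * c.s⁻¹ := by rw [h1, h2]
      _ = _ := by group
  have hsH : c.s ∈ c.H := c.el_mem tTwo
  have hswap : ∀ z w : C, (QuotientGroup.mk z : C ⧸ K) = QuotientGroup.mk w →
      (QuotientGroup.mk (⟨_, hsC z⟩ : C) : C ⧸ K) = QuotientGroup.mk (⟨_, hsC w⟩ : C) := by
    intro z w h
    rw [QuotientGroup.eq] at h ⊢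
    change (z : G)⁻¹ * w ∈ c.H at h
    change (c.s * z * c.s⁻¹)⁻¹ * (c.s * w * c.s⁻¹) ∈ c.H
    rw [show (c.s * z * c.s⁻¹)⁻¹ * (c.s * w * c.s⁻¹) = c.s * ((z : G)⁻¹ * w) * c.s⁻¹ by group]
    exact c.H.mul_mem (c.H.mul_mem hsH h) (c.H.inv_mem hsH)
  let σ : C ⧸ K → C ⧸ K := Quotient.lift (fun z => (QuotientGroup.mk (⟨_, hsC z⟩ : C) : C ⧸ K))
    fun z w h => hswap z w (Quotient.sound h)
  have hss : c.s * c.s = 1 := by rw [s, ← map_mul, hs2, map_one]
  have hσσ : ∀ q, σ (σ q) = q := by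
    intro q
    obtain ⟨z, rfl⟩ := QuotientGroup.mk_surjective q
    refine congrArg QuotientGroup.mk (Subtype.ext ?_)
    change c.s * (c.s * z * c.s⁻¹) * c.s⁻¹ = z
    rw [show c.s * (c.s * z * c.s⁻¹) * c.s⁻¹ = c.s * c.s * z * (c.s * c.s)⁻¹ by group, hss]
    simp
  let σe : Equiv.Perm (C ⧸ K) := ⟨σ, σ, hσσ, hσσ⟩
  set b₀ : C ⧸ K := QuotientGroup.mk (1 : C) with hb₀
  have hb₀σ : σ b₀ = b₀ := congrArg QuotientGroup.mk (Subtype.ext (by simp))
  obtain ⟨b₁, hb₁, hb₁ne⟩ := Equiv.Perm.exists_fixed_point_of_prime' (p := 2) (n := 1)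
    (by rw [← Nat.card_eq_fintype_card, hΩ]; norm_num)
    (σ := σe) (Equiv.ext fun q => hσσ q) (a := b₀) hb₀σ
  obtain ⟨z₁, rfl⟩ := QuotientGroup.mk_surjective b₁
  have hz₁H : (z₁ : G) ∉ c.H := fun h => hb₁ne (by
    rw [hb₀]; exact QuotientGroup.eq.2 (show (z₁ : G)⁻¹ * 1 ∈ c.H by simpa using c.H.inv_mem h))
  have hz₁g : (z₁ : G) * c.g = c.g * z₁ := Subgroup.mem_centralizer_singleton_iff.1 z₁.2
  -- an element of order three in the centraliser of `s` outside `H`
  obtain ⟨d', hd'C, hd's, hd'3, hd'H⟩ :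
      ∃ d' : G, d' ∈ C ∧ d' * c.s = c.s * d' ∧ d' * d' * d' = 1 ∧ d' ∉ c.H := by
    have h0 := QuotientGroup.eq.1 (show (QuotientGroup.mk (⟨_, hsC z₁⟩ : C) : C ⧸ K) = QuotientGroup.mk z₁ from hb₁)
    have h1 : (c.s * z₁ * c.s⁻¹)⁻¹ * z₁ ∈ c.H := h0
    have hs' : (z₁ : G)⁻¹ * c.s * z₁ ∈ c.H := by
      have := c.H.mul_mem (c.H.inv_mem h1) hsH
      rwa [show ((c.s * z₁ * c.s⁻¹)⁻¹ * z₁)⁻¹ * c.s = (z₁ : G)⁻¹ * c.s * z₁ by group] at this
    obtain ⟨m, hm⟩ := c.exists_el hs'
    obtain ⟨j, hj, hjout, hjm⟩ := involution_fixes m (c.el_injective (by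
      rw [map_mul, hm, map_one]
      calc (z₁ : G)⁻¹ * c.s * z₁ * ((z₁ : G)⁻¹ * c.s * z₁) = (z₁ : G)⁻¹ * (c.s * c.s) * z₁ := by
            group
        _ = 1 := by rw [hss]; group)) (c.el_injective (by
      rw [map_mul, map_mul, hm, map_mul]
      change (z₁ : G)⁻¹ * c.s * z₁ * c.g * ((z₁ : G)⁻¹ * c.s * z₁) = c.g * c.g
      have hsgs : c.s * c.g * c.s = c.g * c.g := by
        rw [s, g, ← map_mul, ← map_mul, hsg, map_mul]
      calc (z₁ : G)⁻¹ * c.s * z₁ * c.g * ((z₁ : G)⁻¹ * c.s * z₁)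
          = (z₁ : G)⁻¹ * c.s * ((z₁ : G) * c.g) * (z₁ : G)⁻¹ * c.s * z₁ := by group
        _ = (z₁ : G)⁻¹ * (c.s * c.g * c.s) * z₁ := by rw [hz₁g]; group
        _ = (z₁ : G)⁻¹ * (z₁ * (c.g * c.g)) := by
          rw [hsgs, mul_assoc, (Commute.mul_right (show Commute (z₁ : G) c.g from hz₁g) hz₁g).eq]
        _ = _ := by rw [inv_mul_cancel_left]))
    refine ⟨(z₁ : G) * c.el j * (z₁ : G)⁻¹, C.mul_mem (C.mul_mem z₁.2 (hJC j hj)) (C.inv_mem z₁.2),
      ?_, ?_, fun h => ?_⟩
    · have hjm' : c.el j * ((z₁ : G)⁻¹ * c.s * z₁) = (z₁ : G)⁻¹ * c.s * z₁ * c.el j := by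
        rw [← hm, ← map_mul, hjm, map_mul]
      calc (z₁ : G) * c.el j * (z₁ : G)⁻¹ * c.s
          = (z₁ : G) * (c.el j * ((z₁ : G)⁻¹ * c.s * z₁)) * (z₁ : G)⁻¹ := by group
        _ = c.s * ((z₁ : G) * c.el j * (z₁ : G)⁻¹) := by rw [hjm']; group
    · calc _ = (z₁ : G) * (c.el j * c.el j * c.el j) * (z₁ : G)⁻¹ := by group
        _ = 1 := by rw [← map_mul, ← map_mul, hj.2, map_one, mul_one, mul_inv_cancel]
    · obtain ⟨j', hj'⟩ := c.exists_el h
      refine hz₁H (c.mem_H_of_shared hloc hz₁g (c.el_mem_J hj) (j' := j') ?_ ?_ hj'.symm)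
      · refine three_cent_eThree j' (c.el_injective ?_) (c.el_injective ?_)
        · rw [map_mul, map_mul, hj', map_one]
          calc _ = (z₁ : G) * (c.el j * c.el j * c.el j) * (z₁ : G)⁻¹ := by group
            _ = 1 := by rw [← map_mul, ← map_mul, hj.2, map_one, mul_one, mul_inv_cancel]
        · rw [map_mul, map_mul, hj']
          exact Subgroup.mem_centralizer_singleton_iff.1
            (C.mul_mem (C.mul_mem z₁.2 (hJC j hj)) (C.inv_mem z₁.2))
      · intro hmem
        refine hjout ?_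
        simp only [List.mem_cons, List.not_mem_nil, or_false] at hmem ⊢
        have hje : c.el j = (z₁ : G)⁻¹ * c.el j' * z₁ := by rw [hj']; group
        have hcg : ∀ i : ℕ, (z₁ : G)⁻¹ * c.el (eThree ^ i) * z₁ = c.el (eThree ^ i) := fun i => by
          rw [map_pow]
          change (z₁ : G)⁻¹ * c.g ^ i * z₁ = c.g ^ i
          rw [mul_assoc, ← (Commute.pow_right (show Commute (z₁ : G) c.g from hz₁g) i).eq,
            inv_mul_cancel_left]
        rcases hmem with e | e | e <;> rw [e] at hje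
        · left; exact c.el_injective (by rw [hje, map_one]; group)
        · right; left; exact c.el_injective (by rw [hje, ← pow_one eThree, hcg, pow_one])
        · right; right; exact c.el_injective (by rw [hje, ← pow_two, hcg])
  -- the centraliser of `s` in `C(g)`
  set Y := (Subgroup.centralizer ({c.s} : Set G)).subgroupOf C with hY
  have memY : ∀ {m : M} (hm : m * eThree = eThree * m), m * tTwo = tTwo * m →
      (⟨c.el m, memC m hm⟩ : C) ∈ Y := fun {m} hm hm' =>
    Subgroup.mem_centralizer_singleton_iff.2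
      (show c.el m * c.el tTwo = c.el tTwo * c.el m by rw [← map_mul, hm', map_mul])
  let dY : Y := ⟨⟨c.d, memC _ hdG⟩, memY hdG hds⟩
  let d'Y : Y := ⟨⟨d', hd'C⟩, Subgroup.mem_centralizer_singleton_iff.2 hd's⟩
  haveI : Fintype Y := Fintype.ofFinite _
  -- the four fixed cosets
  have hfix : ∀ (y : Y) q, σ q = q → σ ((y : C) • q) = (y : C) • q := by
    intro y q hq
    obtain ⟨z, rfl⟩ := QuotientGroup.mk_surjective q
    have hys : ((y : C) : G) * c.s = c.s * ((y : C) : G) := Subgroup.mem_centralizer_singleton_iff.1 y.2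
    conv_rhs => rw [← hq]
    refine congrArg QuotientGroup.mk (Subtype.ext ?_)
    change c.s * (((y : C) : G) * z) * c.s⁻¹ = ((y : C) : G) * (c.s * z * c.s⁻¹)
    simp only [← mul_assoc]
    rw [hys]
  have hdfix0 : (dY : C) • b₀ = b₀ := by
    refine QuotientGroup.eq.2 ?_
    change ((c.d * 1 : G))⁻¹ * 1 ∈ c.H
    simpa [d] using c.H.inv_mem (c.el_mem eMix)
  let jC : ∀ j : M, IsE j → C := fun j hj => ⟨c.el j, hJC j hj⟩
  have hmove : ∀ j : M, ∀ hj : IsE j, (jC j hj) • (QuotientGroup.mk z₁ : C ⧸ K) = QuotientGroup.mk z₁ →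
      j ∈ [1, eThree, eThree * eThree] := by
    intro j hj h
    by_contra hout
    have h0 := QuotientGroup.eq.1 (show (QuotientGroup.mk (jC j hj * z₁) : C ⧸ K) = QuotientGroup.mk z₁ from h)
    have h1 : ((c.el j) * z₁ : G)⁻¹ * z₁ ∈ c.H := h0
    have h2 : (z₁ : G)⁻¹ * c.el j * z₁ ∈ c.H := by
      have := c.H.inv_mem h1
      simpa [mul_assoc] using this
    obtain ⟨j', hj'⟩ := c.exists_el h2
    have hj'E : IsE j' := by
      refine three_cent_eThree j' (c.el_injective ?_) (c.el_injective ?_)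
      · rw [map_mul, map_mul, hj', map_one]
        calc _ = (z₁ : G)⁻¹ * (c.el j * c.el j * c.el j) * z₁ := by group
          _ = 1 := by rw [← map_mul, ← map_mul, hj.2, map_one, mul_one, inv_mul_cancel]
      · rw [map_mul, map_mul, hj']
        exact Subgroup.mem_centralizer_singleton_iff.1
          (C.mul_mem (C.mul_mem (C.inv_mem z₁.2) (hJC j hj)) z₁.2)
    refine hz₁H (c.mem_H_of_shared hloc hz₁g (c.el_mem_J hj'E) hj hout ?_)
    rw [hj']; group
  have hmove2 : ∀ a b : M, ∀ (ha : IsE a) (hb : IsE b),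
      (jC b hb) • (QuotientGroup.mk z₁ : C ⧸ K) = (jC a ha) • QuotientGroup.mk z₁ →
        a⁻¹ * b ∈ [1, eThree, eThree * eThree] := by
    intro a b ha hb h
    have hab : IsE (a⁻¹ * b) := (AltNineThree.eSub).mul_mem ((AltNineThree.eSub).inv_mem ha) hb
    refine hmove _ hab ?_
    rw [show jC (a⁻¹ * b) hab = (jC a ha)⁻¹ * jC b hb from
      Subtype.ext (by simp [jC, map_mul, map_inv]), mul_smul, h, inv_smul_smul]
  let Γ : Fin 3 × Fin 3 → C ⧸ K := fun p =>
    (jC (eMix ^ (p.1 : ℕ) * eOne ^ (p.2 : ℕ))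
      ((AltNineThree.eSub).mul_mem ((AltNineThree.eSub).pow_mem hdE _)
        ((AltNineThree.eSub).pow_mem isE_reps.1 _))) • (QuotientGroup.mk z₁ : C ⧸ K)
  have hline : ∀ p q : Fin 3 × Fin 3,
      (eMix ^ (q.1 : ℕ) * eOne ^ (q.2 : ℕ))⁻¹ * (eMix ^ (p.1 : ℕ) * eOne ^ (p.2 : ℕ)) ∈
        [1, eThree, eThree * eThree] → p = q := by decide +kernel
  have hΓ : Function.Injective Γ := by
    intro p q h
    exact hline p q (hmove2 _ _
      ((AltNineThree.eSub).mul_mem ((AltNineThree.eSub).pow_mem hdE _)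
        ((AltNineThree.eSub).pow_mem isE_reps.1 _))
      ((AltNineThree.eSub).mul_mem ((AltNineThree.eSub).pow_mem hdE _)
        ((AltNineThree.eSub).pow_mem isE_reps.1 _)) h)
  have hΓ0 : ∀ p, Γ p ≠ b₀ := by
    intro p h
    have h1 := QuotientGroup.eq.1
      (show (QuotientGroup.mk _ : C ⧸ K) = QuotientGroup.mk (1 : C) from h)
    change ((c.el (eMix ^ (p.1 : ℕ) * eOne ^ (p.2 : ℕ))) * z₁ : G)⁻¹ * 1 ∈ c.H at h1
    refine hz₁H ?_
    have h2 := c.H.inv_mem h1
    rw [mul_one, inv_inv] at h2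
    exact (Subgroup.mul_mem_cancel_left _ (c.el_mem _)).1 h2
  have hrange : ∀ q, q ≠ b₀ → ∃ p, Γ p = q := by
    intro q hq
    have hsub : (Finset.univ.image Γ) = Finset.univ.erase b₀ := by
      refine Finset.eq_of_subset_of_card_le (fun x hx => ?_) ?_
      · obtain ⟨p, -, rfl⟩ := Finset.mem_image.1 hx
        exact Finset.mem_erase.2 ⟨hΓ0 p, Finset.mem_univ _⟩
      · rw [Finset.card_erase_of_mem (Finset.mem_univ _), Finset.card_image_of_injective _ hΓ,
          Finset.card_univ, ← Nat.card_eq_fintype_card, hΩ]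
        simp
    obtain ⟨p, -, hp⟩ := Finset.mem_image.1
      (hsub ▸ Finset.mem_erase.2 ⟨hq, Finset.mem_univ q⟩ : q ∈ Finset.univ.image Γ)
    exact ⟨p, hp⟩
  -- orbit and stabiliser
  have horb : ∀ y : Y, y • b₀ = b₀ ∨ ∃ i : Fin 3,
      y • b₀ = (dY : C) ^ (i : ℕ) • (QuotientGroup.mk z₁ : C ⧸ K) := by
    intro y
    by_cases hy : y • b₀ = b₀
    · exact Or.inl hy
    refine Or.inr ?_
    obtain ⟨p, hp⟩ := hrange _ hy
    have hσp : σ (Γ p) = Γ p := by rw [hp]; exact hfix y b₀ hb₀σ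
    set j := eMix ^ (p.1 : ℕ) * eOne ^ (p.2 : ℕ) with hjdef
    have hj : IsE j := (AltNineThree.eSub).mul_mem ((AltNineThree.eSub).pow_mem hdE _)
      ((AltNineThree.eSub).pow_mem isE_reps.1 _)
    have hs'E : IsE (tTwo * j * tTwo) := by
      have := AltNineThree.E_conj j hj tTwo
      rwa [inv_eq_of_mul_eq_one_right hs2] at this
    have e1 : σ (Γ p) = (jC _ hs'E) • (QuotientGroup.mk z₁ : C ⧸ K) := by
      conv_rhs => rw [← hb₁]
      refine congrArg QuotientGroup.mk (Subtype.ext ?_)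
      change c.s * (c.el j * z₁) * c.s⁻¹ = c.el (tTwo * j * tTwo) * (c.s * z₁ * c.s⁻¹)
      rw [show c.el (tTwo * j * tTwo) = c.s * c.el j * c.s by rw [map_mul, map_mul]; rfl]
      calc c.s * (c.el j * z₁) * c.s⁻¹ = c.s * c.el j * 1 * z₁ * c.s⁻¹ := by group
        _ = c.s * c.el j * (c.s * c.s) * z₁ * c.s⁻¹ := by rw [hss]
        _ = _ := by group
    have h2 := hmove2 j (tTwo * j * tTwo) hj hs'E (e1.symm.trans hσp)
    obtain ⟨k, hk, l, -, hkl⟩ := commutator_line j hj h2
    have hk3 : k < 3 := by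
      simp only [List.mem_cons, List.not_mem_nil, or_false] at hk; omega
    refine ⟨⟨k, hk3⟩, ?_⟩
    rw [← hp]
    show (jC j hj) • (QuotientGroup.mk z₁ : C ⧸ K) = _
    refine QuotientGroup.eq.2 ?_
    change (c.el j * z₁ : G)⁻¹ * ((((dY : C) ^ k : C) : G) * z₁) ∈ c.H
    rw [SubmonoidClass.coe_pow]
    change (c.el j * z₁ : G)⁻¹ * (c.el eMix ^ k * z₁) ∈ c.H
    rw [hkl, map_mul, map_pow, map_pow,
      show (c.el eMix ^ k * c.el eThree ^ l * z₁ : G)⁻¹ * (c.el eMix ^ k * z₁) =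
        (z₁ : G)⁻¹ * (c.el eThree ^ l)⁻¹ * z₁ by group,
      show (c.el eThree ^ l : G) = c.g ^ l from rfl,
      mul_assoc, ← ((Commute.pow_right (show Commute (z₁ : G) c.g from hz₁g) l).inv_right).eq,
      inv_mul_cancel_left]
    exact c.H.inv_mem (c.H.pow_mem (c.el_mem _ : c.g ∈ c.H) l)
  have hstab : Nat.card (MulAction.stabilizer Y b₀) = 6 := by
    rw [← stab_card, ← Fintype.card_subtype, ← Nat.card_eq_fintype_card]
    have hmem : ∀ y : Y, y ∈ MulAction.stabilizer Y b₀ ↔ ((y : C) : G) ∈ c.H := by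
      intro y
      rw [MulAction.mem_stabilizer_iff]
      refine ⟨fun h => ?_, fun h => ?_⟩
      · have h0 := QuotientGroup.eq.1
          (show (QuotientGroup.mk ((y : C) * 1) : C ⧸ K) = QuotientGroup.mk (1 : C) from h)
        have h1 : (((y : C) : G) * 1)⁻¹ * 1 ∈ c.H := h0
        simpa using h1
      · refine QuotientGroup.eq.2 ?_
        change (((y : C) : G) * 1)⁻¹ * 1 ∈ c.H
        simpa using c.H.inv_mem h
    exact Nat.card_congr
      { toFun := fun y => ⟨c.e ⟨((y.1 : C) : G), (hmem y.1).1 y.2⟩, c.el_injective (by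
            rw [map_mul, map_mul]
            simpa [el, g] using Subgroup.mem_centralizer_singleton_iff.1 y.1.1.2), c.el_injective (by
            rw [map_mul, map_mul]
            simpa [el, s] using Subgroup.mem_centralizer_singleton_iff.1 y.1.2)⟩
        invFun := fun u => ⟨⟨⟨c.el u.1, memC u.1 u.2.1⟩, memY u.2.1 u.2.2⟩,
          (hmem _).2 (c.el_mem u.1)⟩
        left_inv := fun y => Subtype.ext (Subtype.ext (Subtype.ext (by simp [el])))
        right_inv := fun u => Subtype.ext (by simp [el]) }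
  have hd'move : d'Y • b₀ ≠ b₀ := fun h => hd'H (by
    have h0 := QuotientGroup.eq.1 (show (QuotientGroup.mk ((d'Y : C) * 1) : C ⧸ K) = QuotientGroup.mk (1 : C) from h)
    have h1 : (d' * 1)⁻¹ * 1 ∈ c.H := h0
    simpa using h1)
  obtain ⟨i₀, hi₀⟩ := (horb d'Y).resolve_left hd'move
  have horbit : MulAction.orbit Y b₀ =
      insert b₀ (Set.range fun i : Fin 3 => (dY : C) ^ (i : ℕ) • (QuotientGroup.mk z₁ : C ⧸ K)) := by
    refine Set.Subset.antisymm ?_ (Set.insert_subset (MulAction.mem_orbit_self _) ?_)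
    · rintro _ ⟨y, rfl⟩
      rcases horb y with h | ⟨i, hi⟩
      · exact Or.inl h
      · exact Or.inr ⟨i, hi.symm⟩
    · rintro _ ⟨i, rfl⟩
      refine ⟨dY ^ (i : ℕ) * (dY ^ (i₀ : ℕ))⁻¹ * d'Y, ?_⟩
      change (dY ^ (i : ℕ) * (dY ^ (i₀ : ℕ))⁻¹ * d'Y) • b₀ = _
      rw [mul_smul, hi₀, mul_smul]
      change ((dY ^ (i : ℕ) : Y) : C) • (((dY ^ (i₀ : ℕ))⁻¹ : Y) : C) •
        ((dY : C) ^ (i₀ : ℕ) • (QuotientGroup.mk z₁ : C ⧸ K)) = _
      rw [InvMemClass.coe_inv, SubmonoidClass.coe_pow, SubmonoidClass.coe_pow, inv_smul_smul]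
  have hinj : Function.Injective fun i : Fin 3 =>
      (dY : C) ^ (i : ℕ) • (QuotientGroup.mk z₁ : C ⧸ K) := by
    intro i k h
    have hpow : ∀ n : ℕ, (dY : C) ^ n = jC (eMix ^ n) ((AltNineThree.eSub).pow_mem hdE n) :=
      fun n => Subtype.ext (by simp [jC, dY, d, map_pow])
    simp only [hpow] at h
    have h2 := hΓ (a₁ := (i, 0)) (a₂ := (k, 0)) (by simpa [Γ] using h)
    exact (Prod.ext_iff.1 h2).1
  have horb4 : Nat.card (MulAction.orbit Y b₀) = 4 := by
    rw [horbit, Nat.card_coe_set_eq, Set.ncard_insert_of_notMem,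
      Set.ncard_range_of_injective hinj, Nat.card_eq_fintype_card, Fintype.card_fin]
    rintro ⟨i, hi⟩
    have hpow : (dY : C) ^ (i : ℕ) • b₀ = b₀ := by
      induction (i : ℕ) with
      | zero => rw [pow_zero, one_smul]
      | succ n ih => rw [pow_succ, mul_smul, hdfix0, ih]
    exact hb₁ne (smul_left_cancel _ (hi.trans hpow.symm))
  have hY24 : Nat.card Y = 24 := by
    have h := MulAction.card_orbit_mul_card_stabilizer_eq_card_group Y b₀
    simp only [← Nat.card_eq_fintype_card] at h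
    rw [horb4, hstab] at h
    omega
  -- its normal four-group
  have hd'3 : orderOf dY = 3 := by
    refine orderOf_eq_prime (Subtype.ext (Subtype.ext ?_)) fun e => hd1 (c.el_injective ?_)
    · simp only [dY, d, SubmonoidClass.coe_pow, OneMemClass.coe_one]
      rw [← map_pow, pow_succ, pow_two, hd3, map_one]
    · rw [map_one]; exact congrArg (fun y : Y => ((y : C) : G)) e
  have hyp : SelfCentralizing.Hyp Y 3 dY := by
    refine ⟨Nat.prime_three, hd'3, le_antisymm (fun y hy => ?_)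
      (Subgroup.zpowers_le.2 (Subgroup.mem_centralizer_singleton_iff.2 rfl))⟩
    have hyd : ((y : C) : G) * c.el eMix = c.el eMix * ((y : C) : G) :=
      congrArg (fun y : Y => ((y : C) : G)) (Subgroup.mem_centralizer_singleton_iff.1 hy)
    obtain ⟨u, hu⟩ := c.exists_el (hloc.centD (Subgroup.mem_centralizer_singleton_iff.2 hyd))
    have hu1 := stab_cent_eMix u (c.el_injective (by
        rw [map_mul, map_mul, hu]; exact Subgroup.mem_centralizer_singleton_iff.1 y.1.2))
      (c.el_injective (by rw [map_mul, map_mul, hu]; exact Subgroup.mem_centralizer_singleton_iff.1 y.2))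
      (c.el_injective (by rw [map_mul, map_mul, hu, hyd]))
    have hmem : ∀ n : ℕ, u = eMix ^ n → y ∈ Subgroup.zpowers dY := fun n hn => by
      rw [show y = dY ^ n from Subtype.ext (Subtype.ext (by simp [dY, d, ← hu, hn, map_pow]))]
      exact pow_mem (Subgroup.mem_zpowers _) n
    simp only [List.mem_cons, List.not_mem_nil, or_false] at hu1
    rcases hu1 with e | e | e
    · exact hmem 0 (by rw [e, pow_zero])
    · exact hmem 1 (by rw [e, pow_one])
    · exact hmem 2 (by rw [e, pow_two])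
  let iY : Y := ⟨⟨c.i, memC _ hiG⟩, memY hiG his⟩
  obtain ⟨N, hN, hcop, hidx⟩ : ∃ (N : Subgroup Y) (_ : N.Normal), (Nat.card N).Coprime 3 ∧
      N.index = 6 := by
    rcases SelfCentralThree.shape hyp with ⟨N, hN, -, hcop, hidx⟩ | ⟨N, -, -, -, hidx, -⟩ | ⟨h, -⟩
    · refine ⟨N, hN, hcop, hidx.resolve_left fun h3 => ?_⟩
      have h8 : Nat.card N = 8 := by
        have := N.card_mul_index
        rw [h3, hY24] at this
        omega
      have hi : (iY : Y) ∈ N := by
        rw [← QuotientGroup.eq_one_iff]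
        have h1 : (QuotientGroup.mk iY : Y ⧸ N) ^ 3 = 1 := by
          rw [← h3, Subgroup.index_eq_card]; exact pow_card_eq_one'
        have h2 : (QuotientGroup.mk iY : Y ⧸ N) ^ 2 = 1 := by
          rw [← QuotientGroup.mk_pow, show iY ^ 2 = 1 from Subtype.ext (Subtype.ext (by
            simp only [iY, i, pow_two, Subgroup.coe_mul, OneMemClass.coe_one]
            rw [← map_mul, hi2, map_one])), QuotientGroup.mk_one]
        rw [pow_succ, h2, one_mul] at h1
        exact h1
      have hd2 : dY * dY ∈ N := by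
        have h1 := N.mul_mem hi (hN.conj_mem _ (N.inv_mem hi) dY)
        have h2 : iY * (dY * iY⁻¹ * dY⁻¹) = dY * dY * dY⁻¹ := by
          refine Subtype.ext (Subtype.ext ?_)
          simp only [iY, dY, i, d, Subgroup.coe_mul, Subgroup.coe_inv, ← map_inv, ← map_mul,
            inv_eq_of_mul_eq_one_right hi2]
          refine congrArg c.el ?_
          rw [← mul_assoc, ← mul_assoc, hid]
        rw [h2, mul_inv_cancel_right] at h1
        exact N.mul_mem h1 h1
      have := Subgroup.orderOf_dvd_natCard N hd2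
      rw [h8, ← pow_two, orderOf_pow' _ two_ne_zero, hd'3] at this
      norm_num at this
    · exfalso
      have := N.card_mul_index
      rw [hidx, hY24] at this
      have : 0 < Nat.card N := Nat.card_pos
      nlinarith
    · rw [hY24] at h; norm_num at h
  have hN4 : Nat.card N = 4 := by
    have := N.card_mul_index
    rw [hidx, hY24] at this
    omega
  have hfree : ∀ n ∈ N, n * dY = dY * n → n = 1 := by
    intro n hn h
    have h1 := Subgroup.orderOf_dvd_natCard N hn
    have h2 := Subgroup.orderOf_dvd_natCard _ (hyp.mem_zpowers_of_commute h)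
    rw [hN4] at h1
    rw [hyp.card_zpowers] at h2
    exact orderOf_eq_one_iff.1 (Nat.dvd_one.1 (Nat.dvd_gcd h1 h2))
  have hexp : ∀ n ∈ N, n * n = 1 := by
    intro n hn
    refine hfree _ (N.mul_mem hn hn) ?_
    haveI : Fintype N := Fintype.ofFinite _
    have hcomm : IsMulCommutative N :=
      IsPGroup.isMulCommutative_of_card_eq_prime_sq (p := 2) (by rw [hN4]; norm_num)
    by_contra hne
    have hn2 : n * n ≠ 1 := fun e => hne (by rw [e]; simp)
    set n' : N := ⟨n, hn⟩
    have hord : orderOf n' = 4 := by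
      refine orderOf_eq_prime_pow (p := 2) (n := 1) ?_ ?_
      · rw [pow_one, pow_two]; exact fun e => hn2 (congrArg Subtype.val e)
      · rw [show (2 : ℕ) ^ (1 + 1) = Nat.card N by rw [hN4]; norm_num]; exact pow_card_eq_one'
    haveI : IsCyclic N := isCyclic_of_orderOf_eq_card n' (by rw [hord, hN4])
    set w : N := ⟨dY * (n * n) * dY⁻¹, hN.conj_mem _ (N.mul_mem hn hn) dY⟩
    have hw2 : w * w = 1 := Subtype.ext (by
      have h4 : n * n * (n * n) = 1 := by
        have := congrArg Subtype.val (pow_orderOf_eq_one n')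
        rw [hord] at this
        simpa [n', pow_succ, mul_assoc] using this
      calc dY * (n * n) * dY⁻¹ * (dY * (n * n) * dY⁻¹) = dY * (n * n * (n * n)) * dY⁻¹ := by group
        _ = 1 := by rw [h4]; group)
    have hwn : w = n' * n' := by
      obtain ⟨k, hk⟩ := (mem_powers_iff_mem_zpowers (x := n')).2
        (show w ∈ Subgroup.zpowers n' by
          rw [Subgroup.eq_top_of_card_eq (Subgroup.zpowers n')
            (by rw [Nat.card_zpowers, hord, hN4])]
          trivial)
      have hk' : n' ^ k = w := hk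
      have hw1 : w ≠ 1 := fun e => hn2 (conj_eq_one_iff.1 (congrArg Subtype.val e))
      rw [← hk', ← pow_mod_orderOf, hord] at hw2 hw1 ⊢
      rcases (show k % 4 = 0 ∨ k % 4 = 1 ∨ k % 4 = 2 ∨ k % 4 = 3 by omega) with e | e | e | e <;>
        rw [e] at hw2 hw1 ⊢
      · simp at hw1
      · exact absurd (congrArg Subtype.val hw2) (by simpa [n'] using hn2)
      · rw [pow_two]
      · have h6 : n' ^ 6 = 1 := by rw [show 6 = 3 + 3 from rfl, pow_add]; exact hw2
        have := orderOf_dvd_of_pow_eq_one h6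
        rw [hord] at this
        norm_num at this
    exact hne (mul_inv_eq_iff_eq_mul.1 (congrArg Subtype.val hwn : dY * (n * n) * dY⁻¹ = n * n)).symm
  refine ⟨(N.map Y.subtype).map C.subtype, ?_, ?_, ?_, ?_, ?_, ?_⟩
  · rw [Subgroup.card_map_of_injective C.subtype_injective,
      Subgroup.card_map_of_injective Y.subtype_injective, hN4]
  · rintro _ ⟨_, ⟨n, hn, rfl⟩, rfl⟩
    exact congrArg (fun y : Y => ((y : C) : G)) (hexp n hn)
  · rintro _ ⟨_, ⟨n, -, rfl⟩, rfl⟩
    exact ⟨Subgroup.mem_centralizer_singleton_iff.1 n.1.2,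
      Subgroup.mem_centralizer_singleton_iff.1 n.2⟩
  · rintro _ ⟨_, ⟨n, hn, rfl⟩, rfl⟩
    exact ⟨_, ⟨_, hN.conj_mem n hn dY, rfl⟩, rfl⟩
  · rintro _ ⟨_, ⟨n, hn, rfl⟩, rfl⟩
    exact ⟨_, ⟨_, hN.conj_mem n hn iY, rfl⟩, rfl⟩
  · rintro _ ⟨_, ⟨n, hn, rfl⟩, rfl⟩ h
    exact congrArg (fun y : Y => ((y : C) : G))
      (hfree n hn (Subtype.ext (Subtype.ext h)))

/-- Either all centralisers lie in `H`, or the second case holds. -/
theorem inside_or_six (hloc : c.Local) : c.Inside ∨ c.Six := by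
  rcases c.centE_cases hloc with h | ⟨hcard, hθ⟩
  · exact Or.inl (c.inside_of_le hloc h)
  · exact Or.inr
      { loc := hloc
        card_cent := c.card_centralizer_g hcard
        exists_four := c.exists_four hloc (c.card_centralizer_g hcard)
        hom_two := fun θ => c.theta_H hθ θ }

end Setup

end CfsgLib.AltNineRecog
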