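import Cfsg.Agent.AltNineRecog.Setup
import Cfsg.Agent.AltNineThree.Final

/-!
# All centralisers inside: the group is the 3-local subgroup
-/

set_option autoImplicit false
set_option linter.unusedSectionVars false

namespace CfsgLib.AltNineRecog

open CfsgLib.AltNineThree (M IsE eOne eMix eAll eThree tOne tTwo cls)

set_option maxRecDepth 100000

universe u

theorem three_or_two : ∀ b : M, b * b * b = 1 → IsE b ∨ cls b = 2 := by decide +kernel

theorem two_commutes : ∀ b : M, cls b = 2 → ∃ k ∈ ([1, AltNineThree.eThree, eOne,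
    AltNineThree.tOne, AltNineThree.gThree * AltNineThree.tOne * AltNineThree.gThree⁻¹,
    AltNineThree.tOne * (AltNineThree.gThree * AltNineThree.tOne * AltNineThree.gThree⁻¹)] : List M),
    (k * eAll * k⁻¹) * b = b * (k * eAll * k⁻¹) := by decide +kernel

theorem three_cent_light : ∀ a : M, (cls a = 1 ∨ cls a = 11) → ∀ u : M, u * u * u = 1 →
    u * a = a * u → IsE u := by decide +kernel

theorem isE_eAll : IsE eAll ∧ eAll ≠ 1 := by decide +kernel

namespace Setup

variable {G : Type u} [Group G] [Finite G] (c : Setup G)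

theorem el_apply (h : c.H) : c.el (c.e h) = h := by simp [el]

/-- If all centralisers lie in `H` then `H = G`. -/
theorem eq_top_of_inside (hloc : c.Local) (hin : c.Inside) : c.H = ⊤ := by
  refine AltNineThree.Setup.eq_top
    { H := c.H
      e := c.e
      cent := fun h hh h1 => by
        rw [← c.el_apply h]
        exact hin _ hh fun e => h1 ((map_eq_one_iff c.e c.e.injective).1 e)
      closed := fun h hh g hm => ?_ }
  set a := c.e h
  set b := c.e ⟨g * h * g⁻¹, hm⟩
  have hab : g * c.el a * g⁻¹ = c.el b := by simp [a, b, el]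
  have hb3 : b * b * b = 1 := by
    refine c.el_injective ?_
    rw [map_mul, map_mul, ← hab]
    have h3 : c.el a * c.el a * c.el a = 1 := by rw [← map_mul, ← map_mul, hh.2, map_one]
    calc g * c.el a * g⁻¹ * (g * c.el a * g⁻¹) * (g * c.el a * g⁻¹)
        = g * (c.el a * c.el a * c.el a) * g⁻¹ := by group
      _ = c.el 1 := by rw [h3, map_one, mul_one, mul_inv_cancel]
  rcases three_or_two b hb3 with hbE | hb2
  · exact Or.inl hbE
  rcases (AltNineThree.isE_iff a).1 hh with ha | ha | ha | ha
  · exfalso
    have ha1 : a = 1 := by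
      obtain ⟨k, hk⟩ := AltNineThree.conj_of_cls (a := (1 : M)) (b := a)
        (AltNineThree.cls_one.trans ha.symm)
      simpa using hk.symm
    rw [ha1, map_one, mul_one, mul_inv_cancel] at hab
    have hb1 : b = 1 := c.el_injective (by rw [map_one]; exact hab.symm)
    rw [hb1, AltNineThree.cls_one] at hb2
    omega
  case' inr.inr.inr => exact Or.inr ⟨ha, hb2⟩
  all_goals
    exfalso
    obtain ⟨k, -, hk⟩ := two_commutes b hb2
    set x' := k * eAll * k⁻¹ with hx'
    have hx'E : IsE x' := AltNineThree.E_conj _ isE_eAll.1 k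
    have hx'1 : x' ≠ 1 := fun e => isE_eAll.2 (conj_eq_one_iff.1 e)
    have ha1 : a ≠ 1 := fun e => by rw [e, AltNineThree.cls_one] at ha; omega
    have hmem : g⁻¹ * c.el x' * g ∈ c.H := by
      refine hin a hh ha1 (Subgroup.mem_centralizer_singleton_iff.2 ?_)
      have h1 : c.el x' * c.el b = c.el b * c.el x' := by rw [← map_mul, hk, map_mul]
      calc g⁻¹ * c.el x' * g * c.el a = g⁻¹ * (c.el x' * (g * c.el a * g⁻¹)) * g := by group
        _ = g⁻¹ * (g * c.el a * g⁻¹ * c.el x') * g := by rw [hab, h1]
        _ = c.el a * (g⁻¹ * c.el x' * g) := by group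
    obtain ⟨u, hu⟩ := c.exists_el hmem
    have hcu : u * a = a * u := by
      refine c.el_injective ?_
      rw [map_mul, map_mul, hu]
      have h1 : c.el x' * c.el b = c.el b * c.el x' := by rw [← map_mul, hk, map_mul]
      calc g⁻¹ * c.el x' * g * c.el a = g⁻¹ * (c.el x' * (g * c.el a * g⁻¹)) * g := by group
        _ = g⁻¹ * (g * c.el a * g⁻¹ * c.el x') * g := by rw [hab, h1]
        _ = c.el a * (g⁻¹ * c.el x' * g) := by group
    have hu3 : u * u * u = 1 := by
      refine c.el_injective ?_
      rw [map_mul, map_mul, hu]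
      have h3 : c.el x' * c.el x' * c.el x' = 1 := by rw [← map_mul, ← map_mul, hx'E.2, map_one]
      calc g⁻¹ * c.el x' * g * (g⁻¹ * c.el x' * g) * (g⁻¹ * c.el x' * g)
          = g⁻¹ * (c.el x' * c.el x' * c.el x') * g := by group
        _ = c.el 1 := by rw [h3, map_one, mul_one, inv_mul_cancel]
    have huE : IsE u := three_cent_light a (by omega) u hu3 hcu
    obtain ⟨m, hm'⟩ := hloc.fusion u x' huE hx'E g (by rw [hu]; group)
    have hgm : g * (c.el m)⁻¹ ∈ c.H := by
      refine hin x' hx'E hx'1 (Subgroup.mem_centralizer_singleton_iff.2 ?_)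
      have h1 : c.el m * c.el u * (c.el m)⁻¹ = c.el x' := by
        rw [← map_inv, ← map_mul, ← map_mul, hm']
      have h2 : g * c.el u * g⁻¹ = c.el x' := by rw [hu]; group
      calc g * (c.el m)⁻¹ * c.el x' = g * (c.el u * (c.el m)⁻¹) := by rw [← h1]; group
        _ = g * c.el u * g⁻¹ * (g * (c.el m)⁻¹) := by group
        _ = _ := by rw [h2]
    have hg : g ∈ c.H := by
      simpa using c.H.mul_mem hgm (c.el_mem m)
    obtain ⟨k', hk'⟩ := c.exists_el hg
    have hb : b = k' * a * k'⁻¹ := c.el_injective (by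
      rw [map_mul, map_mul, map_inv, hk', hab])
    rw [hb, AltNineThree.cls_conj] at hb2
    omega

end Setup

end CfsgLib.AltNineRecog
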