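import Cfsg.Agent.AltNineRecog.Model
import Cfsg.Agent.AltNineRecog.Local
import Cfsg.Agent.AltNineRecog.Four
import Cfsg.Agent.AltNineRecog.InsideCase

/-!
# The first half of the recognition: the group is `H`, or `C(g)` is `3 × Alt 6`
-/

set_option autoImplicit false

namespace CfsgLib.AltNineRecog

universe u

namespace Setup

variable {G : Type u} [Group G] [Finite G] (c : Setup G)

theorem top_or_six : c.H = ⊤ ∨ c.Six :=
  (c.inside_or_six c.isLocal).imp (c.eq_top_of_inside c.isLocal) id

end Setup

end CfsgLib.AltNineRecog
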