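import Cfsg.Agent.AltNineRecog.CentEFacts

/-!
# The normaliser in `Alt 9` of the group generated by three disjoint 3-cycles
-/

set_option autoImplicit false
set_option linter.style.haveILetI false

namespace CfsgLib.AltNineRecog

open CfsgLib.AltNineThree (M W B IsE eOne eThree eSub gen get mk tr parHom point blockPerm)
open CfsgLib.TISylowThree (D act sgnHom)

set_option maxRecDepth 100000

universe u

/-- The permutation of nine points of an element of `S₃ ≀ S₃`. -/
def wFun (x : W) : Equiv.Perm (Fin 9) :=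
  point.permCongr ((Equiv.prodCongrRight fun k => act (get x.left (act x.right k))).trans
    ((act x.right).prodCongr (Equiv.refl _)))

theorem wFun_apply (x : W) (k j : ZMod 3) :
    wFun x (point (k, j)) = point (act x.right k, act (get x.left (act x.right k)) j) := by
  simp [wFun, Equiv.permCongr_apply]

/-- The embedding of `S₃ ≀ S₃` in `Sym 9`. -/
def wPerm : W →* Equiv.Perm (Fin 9) where
  toFun := wFun
  map_one' := by decide +kernel
  map_mul' x y := by
    refine Equiv.ext fun z => ?_
    obtain ⟨⟨k, j⟩, rfl⟩ := point.surjective z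
    rw [wFun_apply, Equiv.Perm.mul_apply, wFun_apply, wFun_apply]
    change point (act (x.right * y.right) k,
      act (get (x.left * tr x.right y.left) (act (x.right * y.right) k)) j) = _
    simp [AltNineThree.get_mul, tr, AltNineThree.get_mk, Equiv.Perm.mul_apply]

theorem wPerm_M (m : M) : wPerm m.1 = blockPerm m := rfl

/-- A single transposition. -/
def wFlip : W := ⟨(.sr 0, 1, 1), 1⟩

theorem wFlip_facts : parHom wFlip = -1 ∧ Equiv.Perm.sign (wPerm wFlip) = -1 := by
  decide +kernel

theorem act_surjective : ∀ π : Equiv.Perm (ZMod 3), ∃ p : D, act p = π := by decide +kernel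

theorem sign_gen : ∀ i : Fin 4, Equiv.Perm.sign (blockPerm (gen i)) = 1 := by decide +kernel

theorem three_cycles : blockPerm eOne = Equiv.swap (0 : Fin 9) 1 * Equiv.swap 1 2 ∧
    blockPerm eTwo = Equiv.swap (3 : Fin 9) 4 * Equiv.swap 4 5 ∧
    blockPerm eThree = Equiv.swap (6 : Fin 9) 7 * Equiv.swap 7 8 ∧ IsE eTwo := by
  decide +kernel

theorem eSub_words : ∀ j : M, IsE j → ∃ a b c : Fin 3,
    j = eOne ^ (a : ℕ) * eTwo ^ (b : ℕ) * eThree ^ (c : ℕ) := by decide +kernel

/-- An element moving exactly three points moves one block. -/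
theorem moves_one_block : ∀ j : M, IsE j →
    (Finset.univ.filter fun z => blockPerm j z ≠ z).card = 3 →
    ∃ k : ZMod 3, ∀ z, blockPerm j z ≠ z → (point.symm z).1 = k := by decide +kernel

/-- The three basic elements move the three blocks. -/
theorem moves_block : ∀ k : ZMod 3, ∃ j ∈ [eOne, eTwo, eThree],
    (∀ i : ZMod 3, blockPerm j (point (k, i)) ≠ point (k, i)) ∧
      (Finset.univ.filter fun z => blockPerm j z ≠ z).card = 3 := by decide +kernel

/-- The group generated by the three cycles. -/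
theorem eSub_map : eSub.map blockPerm = Subgroup.closure
    {Equiv.swap (0 : Fin 9) 1 * Equiv.swap 1 2, Equiv.swap (3 : Fin 9) 4 * Equiv.swap 4 5,
      Equiv.swap (6 : Fin 9) 7 * Equiv.swap 7 8} := by
  obtain ⟨h1, h2, h3, h4⟩ := three_cycles
  refine le_antisymm ?_ ((Subgroup.closure_le _).2 ?_)
  · rintro _ ⟨j, hj, rfl⟩
    obtain ⟨a, b, c, rfl⟩ := eSub_words j hj
    rw [map_mul, map_mul, map_pow, map_pow, map_pow, h1, h2, h3]
    refine mul_mem (mul_mem ?_ ?_) ?_ <;>
      exact pow_mem (Subgroup.subset_closure (by simp)) _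
  · intro z hz
    simp only [Set.mem_insert_iff, Set.mem_singleton_iff] at hz
    rcases hz with rfl | rfl | rfl
    exacts [⟨_, isE_reps.1, h1⟩, ⟨_, h4, h2⟩, ⟨_, isE_reps.2.2.2.2.2.2.1, h3⟩]

theorem sign_blockPerm (m : M) : Equiv.Perm.sign (blockPerm m) = 1 := by
  have hle : Subgroup.closure (Set.range gen) ≤ (Equiv.Perm.sign.comp blockPerm).ker :=
    (Subgroup.closure_le _).2 (by rintro _ ⟨i, rfl⟩; exact sign_gen i)
  exact MonoidHom.mem_ker.1 (hle (AltNineThree.mem_closure_gen m))

/-- The model as that normaliser. -/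
theorem range_eq : blockPerm.range = alternatingGroup (Fin 9) ⊓
    Subgroup.normalizer ((eSub.map blockPerm : Subgroup (Equiv.Perm (Fin 9))) : Set _) := by
  refine le_antisymm (le_inf ?_ ?_) ?_
  · rintro _ ⟨m, rfl⟩
    exact Equiv.Perm.mem_alternatingGroup.2 (sign_blockPerm m)
  · rintro _ ⟨m, rfl⟩
    refine Subgroup.mem_normalizer_iff.2 fun z => ⟨?_, ?_⟩
    · rintro ⟨j, hj, rfl⟩
      exact ⟨m * j * m⁻¹, AltNineThree.E_conj j hj m, by simp⟩
    · rintro ⟨j, hj, e⟩
      exact ⟨m⁻¹ * j * m, show IsE _ by simpa using AltNineThree.E_conj j hj m⁻¹, by simp [e, mul_assoc]⟩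
  rintro σ ⟨hσA, hσN⟩
  -- blocks go to blocks
  have hblock : ∀ k : ZMod 3, ∃ k' : ZMod 3, ∀ i, (point.symm (σ (point (k, i)))).1 = k' := by
    intro k
    obtain ⟨j, hj, hmove, hcard⟩ := moves_block k
    have hjE : IsE j := by
      simp only [List.mem_cons, List.not_mem_nil, or_false] at hj
      rcases hj with rfl | rfl | rfl
      exacts [isE_reps.1, three_cycles.2.2.2, isE_reps.2.2.2.2.2.2.1]
    obtain ⟨j', hj', e⟩ := (Subgroup.mem_normalizer_iff.1 hσN (blockPerm j)).1 ⟨j, hjE, rfl⟩
    have hfix : ∀ z, blockPerm j' (σ z) = σ z ↔ blockPerm j z = z := fun z => by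
      rw [e]; simp
    obtain ⟨k', hk'⟩ := moves_one_block j' hj' (by
      refine Eq.trans ?_ hcard
      refine (Finset.card_equiv σ fun z => ?_).symm
      simp only [Finset.mem_filter, Finset.mem_univ, true_and]
      exact (not_congr (hfix z)).symm)
    exact ⟨k', fun i => hk' _ fun h => hmove i ((hfix _).1 h)⟩
  choose π hπ using hblock
  have hπs : Function.Surjective π := fun k' => by
    obtain ⟨z, hz⟩ := σ.surjective (point (k', 0))
    obtain ⟨⟨k, i⟩, rfl⟩ := point.surjective z
    exact ⟨k, by rw [← hπ k i, hz]; simp⟩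
  have hπb : Function.Bijective π := ⟨Finite.injective_iff_surjective.2 hπs, hπs⟩
  obtain ⟨p, hp⟩ := act_surjective (Equiv.ofBijective π hπb)
  have hsplit : ∀ k i, σ (point (k, i)) = point (π k, (point.symm (σ (point (k, i)))).2) := by
    intro k i
    apply point.symm.injective
    rw [point.symm_apply_apply]
    exact Prod.ext (hπ k i) rfl
  have hinner : ∀ k : ZMod 3, ∃ d : D, ∀ i, (point.symm (σ (point (k, i)))).2 = act d i := by
    intro k
    have hb : Function.Bijective fun i => (point.symm (σ (point (k, i)))).2 := by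
      refine (Finite.injective_iff_bijective).1 fun i i' h => ?_
      have h' : σ (point (k, i)) = σ (point (k, i')) := by
        rw [hsplit k i, hsplit k i']; exact congrArg (fun u => point (π k, u)) h
      exact (Prod.ext_iff.1 (point.injective (σ.injective h'))).2
    obtain ⟨d, hd⟩ := act_surjective (Equiv.ofBijective _ hb)
    exact ⟨d, fun i => by rw [hd]; rfl⟩
  choose δ hδ using hinner
  let w : W := ⟨mk fun k' => δ ((act p).symm k'), p⟩
  have hw : wPerm w = σ := by
    refine Equiv.ext fun z => ?_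
    obtain ⟨⟨k, i⟩, rfl⟩ := point.surjective z
    change wFun w (point (k, i)) = _
    rw [wFun_apply, hsplit k i, hδ k i]
    simp [w, AltNineThree.get_mk, hp]
  by_cases hpar : parHom w = 1
  · exact ⟨⟨w, hpar⟩, by rw [← wPerm_M]; exact hw⟩
  exfalso
  have hm : parHom (w * wFlip) = 1 := by
    rw [map_mul, (Int.units_eq_one_or (parHom w)).resolve_left hpar, wFlip_facts.1]
    rfl
  have h1 := sign_blockPerm ⟨w * wFlip, hm⟩
  rw [← wPerm_M, map_mul, map_mul, hw, Equiv.Perm.mem_alternatingGroup.1 hσA, wFlip_facts.2] at h1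
  exact absurd h1 (by decide)

/-- The isomorphism onto the model. -/
noncomputable def normalizerIso {J₀ : Subgroup (Equiv.Perm (Fin 9))}
    (hJ₀ : J₀ = Subgroup.closure {Equiv.swap (0 : Fin 9) 1 * Equiv.swap 1 2,
      Equiv.swap (3 : Fin 9) 4 * Equiv.swap 4 5, Equiv.swap (6 : Fin 9) 7 * Equiv.swap 7 8}) :
    ↥(alternatingGroup (Fin 9) ⊓ Subgroup.normalizer (J₀ : Set (Equiv.Perm (Fin 9)))) ≃* M :=
  (MulEquiv.subgroupCongr (by rw [range_eq, hJ₀, eSub_map])).trans
    (MonoidHom.ofInjective AltNineThree.blockPerm_injective).symm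

/-- The hypotheses give the data. -/
theorem exists_setup {G : Type u} [Group G] [Finite G] {J H : Subgroup G}
    (hJexp : ∀ a ∈ J, a ^ 3 = 1) (hJcard : Nat.card J = 27)
    (hH : H = Subgroup.normalizer (J : Set G)) (e : H ≃* M)
    (hcores : ∀ x ∈ J, orderOf x = 3 →
      Cfsg.pPrimeCore 3 (Subgroup.centralizer ({x} : Set G)) = ⊥) :
    ∃ c : Setup G, c.H = H := by
  have hJH : J ≤ H := hH ▸ Subgroup.le_normalizer
  have hn : (J.subgroupOf H).Normal := by
    subst hH; exact Subgroup.normal_in_normalizer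
  have heq : (J.subgroupOf H).map e.toMonoidHom = eSub := by
    refine Subgroup.eq_of_le_of_card_ge ?_ ?_
    · rw [← AltNineThree.pCore_eq]
      exact le_sSup ⟨hn.map _ e.surjective, (show IsPGroup 3 (J.subgroupOf H) from fun z =>
        ⟨1, Subtype.ext (Subtype.ext (by simpa using hJexp _ z.2))⟩).map _⟩
    · rw [Subgroup.card_map_of_injective e.injective,
        Nat.card_congr (Subgroup.subgroupOfEquivOfLe hJH).toEquiv, hJcard,
        ← AltNineThree.card_E, ← Fintype.card_subtype, ← Nat.card_eq_fintype_card]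
      exact le_rfl
  have hmem : ∀ h : H, IsE (e h) ↔ (h : G) ∈ J := fun h => by
    change e h ∈ eSub ↔ _
    rw [← heq]
    exact Subgroup.mem_map_iff_mem (f := e.toMonoidHom) e.injective
  have hcores' : ∀ a : M, IsE a → a ≠ 1 →
      Cfsg.pPrimeCore 3 (Subgroup.centralizer ({(e.symm a : G)} : Set G)) = ⊥ := by
    intro a ha h1
    haveI : Fact (Nat.Prime 3) := ⟨Nat.prime_three⟩
    have hmemJ : (e.symm a : G) ∈ J := (hmem _).1 (by rwa [e.apply_symm_apply])
    refine hcores _ hmemJ (orderOf_eq_prime (hJexp _ hmemJ) fun hone => h1 ?_)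
    have h2 : e.symm a = 1 := Subtype.ext hone
    simpa using congrArg e h2
  refine ⟨{ H := H, e := e, cores := hcores', norm := fun z hz => ?_ }, rfl⟩
  rw [hH]
  have hsub : ∀ y ∈ J, z * y * z⁻¹ ∈ J := by
    intro y hy
    obtain ⟨h', hh', e'⟩ := hz ⟨y, hJH hy⟩ ((hmem _).2 hy)
    change z * y * z⁻¹ = (h' : G) at e'
    rw [e']
    exact (hmem h').1 hh'
  have heq' : J.map (MulAut.conj z).toMonoidHom = J :=
    Subgroup.eq_of_le_of_card_ge (by rintro _ ⟨y, hy, rfl⟩; exact hsub y hy)
      (Subgroup.card_map_of_injective (MulAut.conj z).injective).ge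
  refine Subgroup.mem_normalizer_iff.2 fun y => ⟨hsub y, fun hy => ?_⟩
  rw [← heq'] at hy
  obtain ⟨y', hy', e'⟩ := hy
  rwa [← (MulAut.conj z).injective (show MulAut.conj z y' = MulAut.conj z y from e')]

end CfsgLib.AltNineRecog
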