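import Cfsg.Agent.SylowThreeNine.Values
import Mathlib.GroupTheory.Transfer

/-!
# A Sylow 3-subgroup of order nine with normaliser inverting it

All but one line of the Sylow subgroup consist of elements whose centraliser is that subgroup; the
remaining line is generated by `a`, whose centraliser then has a normal complement.
-/

set_option autoImplicit false
set_option linter.style.haveILetI false
set_option linter.unusedSectionVars false

namespace CfsgLib.AltNineRecog

universe u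

/-- The hypotheses. -/
structure NineTwo (X : Type u) [Group X] where
  S : Subgroup X
  card_eq : Nat.card S = 9
  exp : ∀ s ∈ S, s * s * s = 1
  comm : ∀ s ∈ S, ∀ t ∈ S, s * t = t * s
  not_dvd : ¬ 27 ∣ Nat.card X
  a : X
  a_mem : a ∈ S
  a_ne : a ≠ 1
  cent : ∀ s ∈ S, s ∉ Subgroup.zpowers a → Subgroup.centralizer ({s} : Set X) = S
  norm : ∀ g ∈ Subgroup.normalizer (S : Set X),
    (∀ s ∈ S, g * s * g⁻¹ = s) ∨ ∀ s ∈ S, g * s * g⁻¹ = s⁻¹
  inv_elt : ∃ n : X, ∀ s ∈ S, n * s * n⁻¹ = s⁻¹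

namespace NineTwo

variable {X : Type u} [Group X] [Finite X] (c : NineTwo X)

theorem pow_three {s : X} (hs : s ∈ c.S) : s ^ 3 = 1 := by
  rw [pow_succ, pow_two]; exact c.exp s hs

theorem isPGroup : IsPGroup 3 c.S := IsPGroup.of_card (n := 2) (by rw [c.card_eq]; norm_num)

theorem orderOf_eq {s : X} (hs : s ∈ c.S) (h1 : s ≠ 1) : orderOf s = 3 := by
  haveI : Fact (Nat.Prime 3) := ⟨Nat.prime_three⟩
  exact orderOf_eq_prime (c.pow_three hs) h1

theorem mem_zpowers_symm {s t : X} (hs : s ∈ c.S) (hs1 : s ≠ 1) (ht : t ∈ c.S) (ht1 : t ≠ 1)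
    (h : t ∈ Subgroup.zpowers s) : s ∈ Subgroup.zpowers t := by
  have := Subgroup.eq_of_le_of_card_ge (Subgroup.zpowers_le.2 h)
    (by rw [Nat.card_zpowers, Nat.card_zpowers, c.orderOf_eq hs hs1, c.orderOf_eq ht ht1])
  rw [this]; exact Subgroup.mem_zpowers s

theorem exists_outside : ∃ b ∈ c.S, b ∉ Subgroup.zpowers c.a :=
  SetLike.not_le_iff_exists.1 fun hle => by
    have := Subgroup.card_le_of_le hle
    rw [c.card_eq, Nat.card_zpowers, c.orderOf_eq c.a_mem c.a_ne] at this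
    omega

theorem centralizer_zpowers {u : X} (hu : u ∈ Subgroup.zpowers c.a) (hu1 : u ≠ 1) :
    Subgroup.centralizer ({u} : Set X) = Subgroup.centralizer ({c.a} : Set X) := by
  have hu' : u ∈ c.S := Subgroup.zpowers_le.2 c.a_mem hu
  have key : ∀ v w : X, w ∈ Subgroup.zpowers v →
      Subgroup.centralizer ({v} : Set X) ≤ Subgroup.centralizer ({w} : Set X) := by
    intro v w hw g hg
    obtain ⟨k, rfl⟩ := Subgroup.mem_zpowers_iff.1 hw
    exact Subgroup.mem_centralizer_singleton_iff.2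
      (Commute.zpow_right (Subgroup.mem_centralizer_singleton_iff.1 hg : Commute g v) k).eq
  exact le_antisymm (key _ _ (c.mem_zpowers_symm c.a_mem c.a_ne hu' hu1 hu)) (key _ _ hu)

theorem le_centralizer_a : c.S ≤ Subgroup.centralizer ({c.a} : Set X) := fun s hs =>
  Subgroup.mem_centralizer_singleton_iff.2 (c.comm s hs c.a c.a_mem)

theorem card_le (c : NineTwo X) {Q : Subgroup X} (hQ : IsPGroup 3 Q) : Nat.card Q ≤ 9 := by
  haveI : Fact (Nat.Prime 3) := ⟨Nat.prime_three⟩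
  obtain ⟨k, hk⟩ := IsPGroup.iff_card.1 hQ
  rw [hk]
  by_contra h
  have h3 : 3 ≤ k := by
    by_contra h3
    have := Nat.pow_le_pow_right (show 0 < 3 by norm_num) (show k ≤ 2 by omega)
    omega
  exact c.not_dvd ((pow_dvd_pow 3 h3).trans (hk ▸ Subgroup.card_subgroup_dvd_card Q))

/-- A `3`-subgroup through an element of a line outside `a` lies in `S`. -/
theorem le_of_mem {Q : Subgroup X} (hQ : IsPGroup 3 Q) {s : X} (hsQ : s ∈ Q) (hs : s ∈ c.S)
    (hsa : s ∉ Subgroup.zpowers c.a) : Q ≤ c.S := by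
  haveI : Fact (Nat.Prime 3) := ⟨Nat.prime_three⟩
  have hcomm : IsMulCommutative Q := by
    obtain ⟨k, hk⟩ := IsPGroup.iff_card.1 hQ
    have hle := c.card_le hQ
    rw [hk] at hle
    have hk2 : k ≤ 2 := by
      by_contra h
      have := Nat.pow_le_pow_right (show 0 < 3 by norm_num) (show 3 ≤ k by omega)
      omega
    interval_cases k
    · haveI : Subsingleton Q := (Nat.card_eq_one_iff_unique.1 (by rw [hk, pow_zero])).1
      exact ⟨⟨fun a b => Subsingleton.elim _ _⟩⟩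
    · rw [pow_one] at hk
      haveI := isCyclic_of_prime_card hk
      exact ⟨⟨fun a b => IsCyclic.commGroup.mul_comm a b⟩⟩
    · exact ⟨⟨IsPGroup.commutative_of_card_eq_prime_sq (p := 3) hk⟩⟩
  intro q hq
  rw [← c.cent s hs hsa]
  exact Subgroup.mem_centralizer_singleton_iff.2
    (congrArg Subtype.val (hcomm.is_comm.comm (⟨q, hq⟩ : Q) ⟨s, hsQ⟩))

/-- Fusion out of such a line is induced by the inverting element. -/
theorem eq_or_inv {s g : X} (hs : s ∈ c.S) (hsa : s ∉ Subgroup.zpowers c.a)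
    (hg : g * s * g⁻¹ ∈ c.S) : g * s * g⁻¹ = s ∨ g * s * g⁻¹ = s⁻¹ := by
  have hle : c.S.map (MulAut.conj g).toMonoidHom = c.S := by
    symm
    refine Subgroup.eq_of_le_of_card_ge (fun t ht => ?_)
      (Subgroup.card_map_of_injective (MulAut.conj g).injective).le
    refine ⟨g⁻¹ * t * g, ?_, by simp [mul_assoc]⟩
    rw [← c.cent s hs hsa]
    refine Subgroup.mem_centralizer_singleton_iff.2 ?_
    calc g⁻¹ * t * g * s = g⁻¹ * (t * (g * s * g⁻¹)) * g := by group
      _ = g⁻¹ * ((g * s * g⁻¹) * t) * g := by rw [c.comm t ht _ hg]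
      _ = s * (g⁻¹ * t * g) := by group
  have hgN : g ∈ Subgroup.normalizer (c.S : Set X) := by
    refine Subgroup.mem_normalizer_iff.2 fun y => ⟨fun hy => ?_, fun hy => ?_⟩
    · rw [← hle]; exact ⟨y, hy, rfl⟩
    · rw [← hle] at hy
      obtain ⟨z, hz, e⟩ := hy
      rwa [← (MulAut.conj g).injective (show MulAut.conj g z = MulAut.conj g y from e)]
  rcases c.norm g hgN with h | h
  exacts [Or.inl (h s hs), Or.inr (h s hs)]

theorem real {s : X} (hs : s ∈ c.S) : IsConj s s⁻¹ :=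
  let ⟨n, hn⟩ := c.inv_elt
  isConj_iff.2 ⟨n, hn s hs⟩

/-- A homomorphism of the centraliser of `a`, injective on `S`, with commutative image. -/
theorem exists_hom : ∃ (T : Type u) (_ : Group T)
    (φ : Subgroup.centralizer ({c.a} : Set X) →* T), (∀ u v : T, u * v = v * u) ∧
      ∀ x : Subgroup.centralizer ({c.a} : Set X), (x : X) ∈ c.S → φ x = 1 → x = 1 := by
  haveI : Fact (Nat.Prime 3) := ⟨Nat.prime_three⟩
  set C := Subgroup.centralizer ({c.a} : Set X)
  set Sc := c.S.subgroupOf C with hSc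
  have hp : IsPGroup 3 Sc :=
    c.isPGroup.of_equiv (Subgroup.subgroupOfEquivOfLe c.le_centralizer_a).symm
  have hmax : ∀ {Q : Subgroup C}, IsPGroup 3 Q → Sc ≤ Q → Q = Sc := fun {Q} hQ hle =>
    (Subgroup.eq_of_le_of_card_ge hle (by
      rw [Nat.card_congr (Subgroup.subgroupOfEquivOfLe c.le_centralizer_a).toEquiv, c.card_eq,
        ← Subgroup.card_map_of_injective C.subtype_injective]
      exact c.card_le (hQ.map _))).symm
  let P : Sylow 3 C := ⟨Sc, hp, hmax⟩
  have hnc : Subgroup.normalizer ((P : Subgroup C) : Set C) ≤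
      Subgroup.centralizer ((P : Subgroup C) : Set C) := by
    intro g hg
    have hgN : (g : X) ∈ Subgroup.normalizer (c.S : Set X) := by
      refine Subgroup.mem_normalizer_iff.2 fun y => ⟨fun hy => ?_, fun hy => ?_⟩
      · exact (Subgroup.mem_normalizer_iff.1 hg ⟨y, c.le_centralizer_a hy⟩).1 hy
      · have h' := c.le_centralizer_a hy
        have hy' : y ∈ C := by
          have := C.mul_mem (C.mul_mem (C.inv_mem g.2) h') g.2
          rwa [show (g : X)⁻¹ * ((g : X) * y * (g : X)⁻¹) * g = y by group] at this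
        exact (Subgroup.mem_normalizer_iff.1 hg ⟨y, hy'⟩).2 hy
    rcases c.norm _ hgN with h | h
    · refine Subgroup.mem_centralizer_iff.2 fun y hy => Subtype.ext ?_
      exact (mul_inv_eq_iff_eq_mul.1 (h (y : X) hy)).symm
    · exfalso
      have h1 := h c.a c.a_mem
      rw [Subgroup.mem_centralizer_singleton_iff.1 g.2, mul_inv_cancel_right] at h1
      have h2 : c.a * c.a = 1 := mul_eq_one_iff_eq_inv.2 h1
      exact c.a_ne (by simpa [h2] using c.exp c.a c.a_mem)
  refine ⟨_, inferInstance, MonoidHom.transferSylow P hnc, fun u v => Subtype.ext (Subtype.ext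
    (c.comm _ u.2 _ v.2)), fun x hx hx1 => ?_⟩
  exact Subgroup.disjoint_def.1 (MonoidHom.ker_transferSylow_isComplement' P hnc).disjoint hx1 hx

/-- An element of order three in the centraliser of `a` is conjugate there into `S`. -/
theorem exists_conj_mem : ∀ {y : Subgroup.centralizer ({c.a} : Set X)}, y ^ 3 = 1 →
    ∃ d, ((d * y * d⁻¹ : Subgroup.centralizer ({c.a} : Set X)) : X) ∈ c.S := by
  haveI : Fact (Nat.Prime 3) := ⟨Nat.prime_three⟩
  set C := Subgroup.centralizer ({c.a} : Set X)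
  have hp : IsPGroup 3 (c.S.subgroupOf C) :=
    c.isPGroup.of_equiv (Subgroup.subgroupOfEquivOfLe c.le_centralizer_a).symm
  have hmax : ∀ {Q : Subgroup C}, IsPGroup 3 Q → c.S.subgroupOf C ≤ Q → Q = c.S.subgroupOf C :=
    fun {Q} hQ hle => (Subgroup.eq_of_le_of_card_ge hle (by
      rw [Nat.card_congr (Subgroup.subgroupOfEquivOfLe c.le_centralizer_a).toEquiv, c.card_eq,
        ← Subgroup.card_map_of_injective C.subtype_injective]
      exact c.card_le (hQ.map _))).symm
  let P : Sylow 3 C := ⟨c.S.subgroupOf C, hp, hmax⟩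
  intro y hy
  have hyp : IsPGroup 3 (Subgroup.zpowers y) := by
    obtain ⟨i, -, hi⟩ := (Nat.dvd_prime_pow Nat.prime_three).1
      (show orderOf y ∣ 3 ^ 1 by rw [pow_one]; exact orderOf_dvd_of_pow_eq_one hy)
    exact IsPGroup.of_card (n := i) (by rw [Nat.card_zpowers, hi])
  obtain ⟨Q, hQ⟩ := hyp.exists_le_sylow
  obtain ⟨d, hd⟩ := MulAction.exists_smul_eq C Q P
  refine ⟨d, ?_⟩
  have h : d * y * d⁻¹ ∈ (P : Subgroup C) := by
    rw [← hd, Sylow.coe_subgroup_smul]
    exact ⟨y, hQ (Subgroup.mem_zpowers y), rfl⟩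
  exact h

/-- A translation subgroup of order divisible by three lies with both factors in the centraliser of
`a`. -/
theorem mem_centralizer_of_three_dvd {x y : X} (hx : x ∈ c.S) (hxa : x ∉ Subgroup.zpowers c.a)
    {A : Subgroup X} (hA : IsMulCommutative A)
    (hxA : ∀ w ∈ A, x * w * x⁻¹ ∈ A) (hyA : x * y ∈ A) (h3 : 3 ∣ Nat.card A) :
    y ∈ Subgroup.centralizer ({c.a} : Set X) := by
  haveI : Fact (Nat.Prime 3) := ⟨Nat.prime_three⟩
  have hx1 : x ≠ 1 := fun e => hxa (e ▸ one_mem _)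
  let A3 : Subgroup X :=
    { carrier := {w | w ∈ A ∧ w ^ 3 = 1}
      one_mem' := ⟨one_mem A, one_pow 3⟩
      mul_mem' := fun {v w} hv hw => ⟨mul_mem hv.1 hw.1, by
        have hc : v * w = w * v := congrArg Subtype.val (hA.is_comm.comm ⟨v, hv.1⟩ ⟨w, hw.1⟩)
        rw [Commute.mul_pow hc, hv.2, hw.2, one_mul]⟩
      inv_mem' := fun {v} hv => ⟨inv_mem hv.1, by rw [inv_pow, hv.2, inv_one]⟩ }
  have hA3 : IsPGroup 3 A3 := fun w => ⟨1, Subtype.ext (by rw [pow_one]; exact w.2.2)⟩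
  have hxN : x ∈ Subgroup.normalizer (A3 : Set X) := by
    refine Subgroup.mem_normalizer_iff.2 fun w => ?_
    have key : ∀ v ∈ A3, x * v * x⁻¹ ∈ A3 := fun v hv =>
      ⟨hxA v hv.1, by rw [conj_pow, hv.2, mul_one, mul_inv_cancel]⟩
    refine ⟨key w, fun hw => ?_⟩
    have h2 := key _ (key _ hw)
    rwa [show x * (x * (x * w * x⁻¹) * x⁻¹) * x⁻¹ = x * x * x * w * (x * x * x)⁻¹ by group,
      c.exp x hx, one_mul, inv_one, mul_one] at h2
  have hp : IsPGroup 3 (Subgroup.zpowers x) :=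
    IsPGroup.of_card (n := 1) (by rw [Nat.card_zpowers, pow_one, c.orderOf_eq hx hx1])
  have hle := c.le_of_mem (hp.to_sup_of_normal_right' hA3 (Subgroup.zpowers_le.2 hxN))
    (Subgroup.mem_sup_left (Subgroup.mem_zpowers x)) hx hxa
  obtain ⟨u, hu⟩ := exists_prime_orderOf_dvd_card' (G := A) 3 h3
  have hu3 : orderOf (u : X) = 3 := by rw [Subgroup.orderOf_coe, hu]
  have huS : (u : X) ∈ c.S := hle (Subgroup.mem_sup_right
    (show (u : X) ∈ A3 from ⟨u.2, by rw [← hu3, pow_orderOf_eq_one]⟩))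
  have hu1 : (u : X) ≠ 1 := fun e => by rw [e, orderOf_one] at hu3; omega
  have hxy : x * y ∈ Subgroup.centralizer ({(u : X)} : Set X) :=
    Subgroup.mem_centralizer_singleton_iff.2
      (congrArg Subtype.val (hA.is_comm.comm ⟨x * y, hyA⟩ u))
  have hxy' : x * y ∈ Subgroup.centralizer ({c.a} : Set X) := by
    by_cases hua : (u : X) ∈ Subgroup.zpowers c.a
    · rwa [← c.centralizer_zpowers hua hu1]
    · rw [c.cent _ huS hua] at hxy
      exact c.le_centralizer_a hxy
  have := mul_mem (inv_mem (c.le_centralizer_a hx)) hxy'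
  rwa [inv_mul_cancel_left] at this

/-- The factors of a product of two elements of order three. -/
theorem mem_or_isConj {x y : X} (hx : x ∈ c.S) (hxa : x ∉ Subgroup.zpowers c.a) (hy : y ^ 3 = 1)
    (hz : (y⁻¹ * x) ^ 3 = 1) :
    y ∈ Subgroup.centralizer ({c.a} : Set X) ∨ IsConj x⁻¹ y ∧ IsConj x⁻¹ (y⁻¹ * x) := by
  have cube : ∀ {w : X}, w ^ 3 = 1 → w * w * w = 1 := fun {w} h => by
    rw [← pow_two, ← pow_succ]; exact h
  obtain ⟨A, hA, hxA, hyA, hn⟩ :=
    SylowThreeNine.exists_translations (c.exp x hx) (cube hy) (cube hz)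
  have hxi : x⁻¹ ∈ c.S := inv_mem hx
  have hxia : x⁻¹ ∉ Subgroup.zpowers c.a := fun h => hxa (by simpa using inv_mem h)
  set z := y⁻¹ * x with hz'
  have hzi : z⁻¹ ^ 3 = 1 := by rw [inv_pow, hz, inv_one]
  obtain ⟨B, hB, hxB, hzB, hm⟩ := SylowThreeNine.exists_translations (c.exp _ hxi) (cube hzi)
    (show z⁻¹⁻¹ * x⁻¹ * (z⁻¹⁻¹ * x⁻¹) * (z⁻¹⁻¹ * x⁻¹) = 1 from cube (by
      rw [inv_inv, hz', mul_inv_cancel_right, inv_pow, hy, inv_one]))
  by_cases h3 : 3 ∣ Nat.card A
  · exact Or.inl (c.mem_centralizer_of_three_dvd hx hxa hA hxA hyA h3)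
  by_cases h3' : 3 ∣ Nat.card B
  · left
    have h := c.mem_centralizer_of_three_dvd hxi hxia hB hxB hzB h3'
    have h2 := mul_mem (c.le_centralizer_a hx) h
    rwa [hz', mul_inv_rev, inv_inv, mul_inv_cancel_left] at h2
  · refine Or.inr ⟨SylowThreeNine.isConj_inv_of_translation hA hxA h3 hyA hn, ?_⟩
    obtain ⟨g, hg⟩ := isConj_iff.1 (SylowThreeNine.isConj_inv_of_translation hB hxB h3' hzB hm)
    refine isConj_iff.2 ⟨g, ?_⟩
    rw [inv_inv] at hg
    have h := congrArg (·⁻¹) hg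
    simp only [inv_inv] at h
    rw [← h, conj_inv]

/-- No element of a second line is a product of two conjugates of an element of a first. -/
theorem no_factors {s t : X} (hs : s ∈ c.S) (hsa : s ∉ Subgroup.zpowers c.a) (ht : t ∈ c.S)
    (hta : t ∉ Subgroup.zpowers c.a) (hts : t ∉ Subgroup.zpowers s) {w : X}
    (hw : IsConj s w) (hw' : IsConj s (w⁻¹ * t)) : False := by
  have cube : ∀ {q : X}, IsConj s q → q ^ 3 = 1 := by
    intro q hq
    obtain ⟨g, rfl⟩ := isConj_iff.1 hq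
    rw [conj_pow, c.pow_three hs, mul_one, mul_inv_cancel]
  rcases c.mem_or_isConj ht hta (cube hw) (cube hw') with h | ⟨h, -⟩
  swap
  · obtain ⟨g, hg⟩ := isConj_iff.1 (hw.trans (h.symm.trans (c.real ht).symm))
    rcases c.eq_or_inv hs hsa (by rw [hg]; exact ht) with e | e
    · exact hts (by rw [← hg, e]; exact Subgroup.mem_zpowers s)
    · exact hts (by rw [← hg, e]; exact inv_mem (Subgroup.mem_zpowers s))
  obtain ⟨T, _, φ, hcomm, hinj⟩ := c.exists_hom
  let C := Subgroup.centralizer ({c.a} : Set X)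
  have htC := c.le_centralizer_a ht
  have hzC : w⁻¹ * t ∈ C := mul_mem (inv_mem h) htC
  have key : ∀ q (hq : q ∈ C), IsConj s q →
      ∃ p : C, (p : X) ∈ Subgroup.zpowers s ∧ φ p = φ ⟨q, hq⟩ := by
    intro q hq hsq
    obtain ⟨d, hd⟩ := c.exists_conj_mem (y := ⟨q, hq⟩) (Subtype.ext (by simpa using cube hsq))
    obtain ⟨g, hg⟩ := isConj_iff.1 hsq
    refine ⟨d * ⟨q, hq⟩ * d⁻¹, ?_, by
      rw [map_mul, map_mul, map_inv, hcomm (φ d), mul_inv_cancel_right]⟩
    have he : ((d : X) * g) * s * ((d : X) * g)⁻¹ = ((d * ⟨q, hq⟩ * d⁻¹ : C) : X) := by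
      simp only [Subgroup.coe_mul, Subgroup.coe_inv, ← hg]
      group
    rcases c.eq_or_inv hs hsa (g := (d : X) * g) (by rw [he]; exact hd) with e | e
    · rw [← he, e]; exact Subgroup.mem_zpowers s
    · rw [← he, e]; exact inv_mem (Subgroup.mem_zpowers s)
  obtain ⟨p, hp, ep⟩ := key w h hw
  obtain ⟨q, hq, eq⟩ := key _ hzC hw'
  have hsS : Subgroup.zpowers s ≤ c.S := Subgroup.zpowers_le.2 hs
  have h1 : (⟨t, htC⟩ : C)⁻¹ * (p * q) = 1 := by
    refine hinj ((⟨t, htC⟩ : C)⁻¹ * (p * q)) (mul_mem (inv_mem ht) (mul_mem (hsS hp) (hsS hq))) ?_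
    rw [map_mul, map_inv, map_mul, ep, eq, ← map_mul,
      show (⟨w, h⟩ * ⟨w⁻¹ * t, hzC⟩ : C) = ⟨t, htC⟩ from Subtype.ext (mul_inv_cancel_left w t),
      inv_mul_cancel]
  refine hts ?_
  have h2 := congrArg Subtype.val (inv_mul_eq_one.1 h1)
  change t = ((p * q : C) : X) at h2
  rw [h2]
  exact mul_mem hp hq

end NineTwo

end CfsgLib.AltNineRecog
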