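import Cfsg.Agent.AltNineRecog.NineTwoBasic
import Cfsg.Agent.SylowThreeNine.Inequality
import Cfsg.Agent.PrincipalBlock.Kernel

/-!
# The group with normaliser inverting the Sylow subgroup of order nine is not simple
-/

set_option autoImplicit false
set_option linter.style.haveILetI false
set_option linter.unusedSectionVars false

namespace CfsgLib.AltNineRecog

open CfsgLib.PrincipalBlock
open scoped ComplexConjugate

universe u

/-- At an element of order three the sum of the degree and the two values is a multiple of three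
by a natural number. -/
theorem exists_nat_of_real {G : Type u} [Group G] [Finite G] (χ : Cfsg.IrrCharacter G) {x : G}
    (hx : x ^ 3 = 1) (hinv : IsConj x x⁻¹) {f : ℕ} (hf : (χ : G → ℂ) 1 = f) {D : ℤ}
    (hD : (χ : G → ℂ) x = D) : ∃ k : ℕ, k ≤ f ∧ (f : ℤ) + 2 * D = 3 * k := by
  classical
  have hx2 : (χ : G → ℂ) (x ^ 2) = D := by
    rw [show x ^ 2 = x⁻¹ from eq_inv_of_mul_eq_one_left (by rw [← pow_succ]; exact hx),
      ← Characters.classFunction_isConj (Characters.isClassFunction_of_isIrr χ.2) hinv, hD]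
  obtain ⟨n, ρ, hρ, hρc⟩ := χ.2
  obtain ⟨μ, hμ, hj, -⟩ := Characters.exists_eigenvalues ρ x
  have h0 := hj 0
  have h1 := hj 1
  have h2 := hj 2
  rw [hρc] at h0 h1 h2
  rw [pow_zero, hf] at h0
  rw [pow_one, hD] at h1
  rw [hx2] at h2
  refine ⟨(Finset.univ.filter fun i => μ i = 1).card, ?_, ?_⟩
  · have hfn : (f : ℂ) = (Fintype.card (Fin (Module.finrank ℂ (Fin n → ℂ))) : ℕ) := by simpa using h0
    exact (Finset.card_le_univ _).trans_eq (by exact_mod_cast hfn.symm)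
  have key : ∀ i, μ i ^ 0 + μ i ^ 1 + μ i ^ 2 = if μ i = 1 then 3 else 0 := by
    intro i
    split_ifs with h
    · rw [h]; norm_num
    · have h3 : μ i ^ 3 = 1 := by
        obtain ⟨k, hk⟩ := orderOf_dvd_of_pow_eq_one hx
        rw [hk, pow_mul, hμ i, one_pow]
      have : (μ i - 1) * (μ i ^ 0 + μ i ^ 1 + μ i ^ 2) = 0 := by linear_combination h3
      exact (mul_eq_zero.1 this).resolve_left (sub_ne_zero.2 h)
  have hs : (f : ℂ) + (D : ℂ) + (D : ℂ) =
      ((3 * (Finset.univ.filter fun i => μ i = 1).card : ℕ) : ℂ) := by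
    rw [h0, Nat.cast_mul, Nat.cast_ofNat]
    conv_lhs => rw [h1]; arg 2; rw [← h1, h2]
    rw [← Finset.sum_add_distrib, ← Finset.sum_add_distrib, Finset.sum_congr rfl fun i _ => key i,
      Finset.sum_ite, Finset.sum_const_zero, add_zero, Finset.sum_const, nsmul_eq_mul, mul_comm]
  have hs' : (((f : ℤ) + D + D : ℤ) : ℂ) =
      (((3 * (Finset.univ.filter fun i => μ i = 1).card : ℕ) : ℤ) : ℂ) := by
    push_cast at hs ⊢
    exact hs
  have := Int.cast_inj.1 hs'
  push_cast at this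
  omega

namespace NineTwo

variable {X : Type u} [Group X] [Fintype X] (c : NineTwo X)

include c in
theorem not_simple [IsSimpleGroup X] (hX : ¬ IsMulCommutative X) : False := by
  classical
  obtain ⟨x, hx, hxa⟩ := c.exists_outside
  haveI : Fact (Nat.Prime 3) := ⟨Nat.prime_three⟩
  have ha := c.a_mem
  have aord := c.orderOf_eq ha c.a_ne
  have haZ : c.a ∈ Subgroup.zpowers c.a := Subgroup.mem_zpowers _
  have hy : c.a * x ∈ c.S := mul_mem ha hx
  have hz : c.a * (c.a * x) ∈ c.S := mul_mem ha hy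
  have hya : c.a * x ∉ Subgroup.zpowers c.a := fun h =>
    hxa ((Subgroup.mul_mem_cancel_left _ haZ).1 h)
  have hza : c.a * (c.a * x) ∉ Subgroup.zpowers c.a := fun h =>
    hya ((Subgroup.mul_mem_cancel_left _ haZ).1 h)
  have hx1 : x ≠ 1 := fun e => hxa (e ▸ one_mem _)
  have hy1 : c.a * x ≠ 1 := fun e => hya (e ▸ one_mem _)
  have hz1 : c.a * (c.a * x) ≠ 1 := fun e => hza (e ▸ one_mem _)
  have line : ∀ {s t : X}, s ∈ c.S → s ∉ Subgroup.zpowers c.a → t ∈ c.S →
      t ∈ Subgroup.zpowers s → t ∈ Subgroup.zpowers c.a → t = 1 := fun {s t} hs hsa ht h1 h2 =>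
    Classical.byContradiction fun ht1 => hsa ((Subgroup.zpowers_le.2 h2)
      (c.mem_zpowers_symm hs (fun e => hsa (e ▸ one_mem _)) ht ht1 h1))
  have a2 : c.a * c.a ≠ 1 := fun e => c.a_ne (by simpa [e] using c.exp c.a ha)
  have nyx : c.a * x ∉ Subgroup.zpowers x := fun h => c.a_ne (line hx hxa ha
    ((Subgroup.mul_mem_cancel_right _ (Subgroup.mem_zpowers x)).1 h) haZ)
  have nzx : c.a * (c.a * x) ∉ Subgroup.zpowers x := fun h => a2 (line hx hxa (mul_mem ha ha)
    ((Subgroup.mul_mem_cancel_right _ (Subgroup.mem_zpowers x)).1 (by rwa [mul_assoc]))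
    (mul_mem haZ haZ))
  have nzy : c.a * (c.a * x) ∉ Subgroup.zpowers (c.a * x) := fun h => c.a_ne (line hy hya ha
    ((Subgroup.mul_mem_cancel_right _ (Subgroup.mem_zpowers (c.a * x))).1 h) haZ)
  have notconj : ∀ {s t : X}, s ∈ c.S → s ∉ Subgroup.zpowers c.a → t ∈ c.S →
      t ∉ Subgroup.zpowers s → ¬ IsConj s t := by
    intro s t hs hsa ht hts h
    obtain ⟨g, rfl⟩ := isConj_iff.1 h
    rcases c.eq_or_inv hs hsa ht with e | e <;> rw [e] at hts
    exacts [hts (Subgroup.mem_zpowers s), hts (inv_mem (Subgroup.mem_zpowers s))]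
  choose f hf0 hf using fun χ : Cfsg.IrrCharacter X => Characters.exists_degree_pos χ.2
  choose A hA hA3 using fun χ : Cfsg.IrrCharacter X =>
    SylowThreeNine.exists_value (c.exp x hx) hx1 (c.real hx) χ (hf χ)
  choose B hB hB3 using fun χ : Cfsg.IrrCharacter X =>
    SylowThreeNine.exists_value (c.exp _ hy) hy1 (c.real hy) χ (hf χ)
  choose C' hC' hC3 using fun χ : Cfsg.IrrCharacter X =>
    SylowThreeNine.exists_value (c.exp _ hz) hz1 (c.real hz) χ (hf χ)
  choose D hD hD3 using fun χ : Cfsg.IrrCharacter X =>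
    SylowThreeNine.exists_value (c.exp _ ha) c.a_ne (c.real ha) χ (hf χ)
  have hcard : ∀ {s : X}, s ∈ c.S → s ∉ Subgroup.zpowers c.a →
      Nat.card (Subgroup.centralizer ({s} : Set X)) = 9 := fun hs hsa => by
    rw [c.cent _ hs hsa, c.card_eq]
  have nA := SylowThreeNine.sum_value_sq hA (hcard hx hxa)
  have nB := SylowThreeNine.sum_value_sq hB (hcard hy hya)
  have nC := SylowThreeNine.sum_value_sq hC' (hcard hz hza)
  have oAB := SylowThreeNine.sum_value_mul (notconj hx hxa hy nyx) hA hB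
  have oAC := SylowThreeNine.sum_value_mul (notconj hx hxa hz nzx) hA hC'
  have oBC := SylowThreeNine.sum_value_mul (notconj hy hya hz nzy) hB hC'
  set i₀ := trivChar X with hi₀
  have hone : ∀ {g : X} {V : Cfsg.IrrCharacter X → ℤ}, (∀ χ, (χ.1 : X → ℂ) g = V χ) → V i₀ = 1 := by
    intro g V hV
    have h := (hV i₀).symm.trans (trivChar_apply g)
    exact_mod_cast h
  have a0 := hone hA
  have b0 := hone hB
  have c0 := hone hC'
  have hf01 : f i₀ = 1 := by
    have h := (hf i₀).symm.trans (trivChar_apply (1 : X))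
    exact_mod_cast h
  have m3 : ∀ {V W : Cfsg.IrrCharacter X → ℤ}, (∀ χ, (3 : ℤ) ∣ (f χ : ℤ) - V χ) →
      (∀ χ, (3 : ℤ) ∣ (f χ : ℤ) - W χ) → ∀ χ, (3 : ℤ) ∣ V χ - W χ := fun {V W} hV hW χ => by
    have h1 := hV χ
    have h2 := hW χ
    omega
  have pAB := SylowThreeNine.pair_values A B nA nB oAB (m3 hA3 hB3) a0 b0
  have pAC := SylowThreeNine.pair_values A C' nA nC oAC (m3 hA3 hC3) a0 c0
  have pBC := SylowThreeNine.pair_values B C' nB nC oBC (m3 hB3 hC3) b0 c0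
  have hker : ∀ {g : X} {V : Cfsg.IrrCharacter X → ℤ}, g ≠ 1 → (∀ χ, (χ.1 : X → ℂ) g = V χ) →
      ∀ χ, χ ≠ i₀ → V χ ≠ (f χ : ℤ) := by
    intro g V hg hV χ hχ e
    refine hχ (eq_trivChar_of_charKer_eq_top ((charKer_normal χ).eq_bot_or_eq_top.resolve_left
      fun hb => hg ?_))
    have h : g ∈ charKer χ := mem_charKer.2 (by rw [hV χ, hf χ, e]; push_cast; ring)
    rwa [hb] at h
  -- the sum over the subgroup
  have hS : ∀ χ, (9 : ℤ) ∣ (f χ : ℤ) + 2 * (A χ + B χ + C' χ + D χ) := by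
    intro χ
    haveI : Fintype c.S := Fintype.ofFinite _
    obtain ⟨m, hm⟩ := SylowThreeNine.exists_sum_eq χ c.S
    have hinv : ∀ {s : X}, s ∈ c.S → (χ : X → ℂ) s⁻¹ = (χ : X → ℂ) s := fun {s} hs =>
      (Characters.classFunction_isConj (Characters.isClassFunction_of_isIrr χ.2) (c.real hs)).symm
    have hmem : ∀ p : Fin 3 × Fin 3, c.a ^ (p.1 : ℕ) * x ^ (p.2 : ℕ) ∈ c.S :=
      fun p => mul_mem (pow_mem ha _) (pow_mem hx _)
    have hbij : Function.Bijective fun p : Fin 3 × Fin 3 => (⟨_, hmem p⟩ : c.S) := by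
      refine (Nat.bijective_iff_injective_and_card _).2 ⟨fun p q e => ?_, by
        rw [Nat.card_prod, Nat.card_eq_fintype_card (α := Fin 3), c.card_eq, Fintype.card_fin]⟩
      have e' : c.a ^ (p.1 : ℕ) * x ^ (p.2 : ℕ) = c.a ^ (q.1 : ℕ) * x ^ (q.2 : ℕ) :=
        congrArg Subtype.val e
      have e2 : x ^ (p.2 : ℕ) * (x ^ (q.2 : ℕ))⁻¹ =
          (c.a ^ (p.1 : ℕ))⁻¹ * c.a ^ (q.1 : ℕ) := by
        rw [eq_inv_mul_iff_mul_eq, ← mul_assoc, e', mul_inv_cancel_right]
      have e3 := line hx hxa (mul_mem (pow_mem hx _) (inv_mem (pow_mem hx _)))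
        (mul_mem (pow_mem (Subgroup.mem_zpowers x) _) (inv_mem (pow_mem (Subgroup.mem_zpowers x) _)))
        (e2 ▸ mul_mem (inv_mem (pow_mem haZ _)) (pow_mem haZ _))
      have e4 : x ^ (p.2 : ℕ) = x ^ (q.2 : ℕ) := mul_inv_eq_one.1 e3
      rw [e4, mul_left_inj, pow_inj_mod, aord, Nat.mod_eq_of_lt p.1.2, Nat.mod_eq_of_lt q.1.2] at e'
      rw [pow_inj_mod, c.orderOf_eq hx hx1, Nat.mod_eq_of_lt p.2.2, Nat.mod_eq_of_lt q.2.2] at e4
      exact Prod.ext (Fin.ext e') (Fin.ext e4)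
    rw [← hbij.sum_comp (fun h : c.S => (χ : X → ℂ) h), Fintype.sum_prod_type, c.card_eq] at hm
    simp only [Fin.sum_univ_three, Fin.val_zero, Fin.val_one, Fin.val_two, pow_zero, pow_one,
      one_mul, mul_one] at hm
    have haa : c.a ^ 2 = c.a⁻¹ := by rw [pow_two]; exact eq_inv_of_mul_eq_one_left (c.exp _ ha)
    have hxx : x ^ 2 = x⁻¹ := by rw [pow_two]; exact eq_inv_of_mul_eq_one_left (c.exp _ hx)
    have e1 : (χ : X → ℂ) (x ^ 2) = A χ := by rw [hxx, hinv hx, hA]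
    have e2 : (χ : X → ℂ) (c.a ^ 2) = D χ := by rw [haa, hinv ha, hD]
    have e5 : (χ : X → ℂ) (c.a ^ 2 * x) = C' χ := by rw [pow_two, mul_assoc, hC']
    have e4 : (χ : X → ℂ) (c.a * x ^ 2) = C' χ := by
      rw [← hinv (mul_mem ha (pow_mem hx 2)), ← e5]
      congr 1
      rw [mul_inv_rev, hxx, inv_inv, haa, c.comm x hx _ (inv_mem ha)]
    have e6 : (χ : X → ℂ) (c.a ^ 2 * x ^ 2) = B χ := by
      rw [← hinv (mul_mem (pow_mem ha 2) (pow_mem hx 2)), ← hB χ]
      congr 1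
      rw [mul_inv_rev, hxx, haa, inv_inv, inv_inv, c.comm x hx _ ha]
    rw [hf, hA, hB, hD, e1, e2, e4, e5, e6] at hm
    refine ⟨m, ?_⟩
    have h' : (((f χ : ℤ) + 2 * (A χ + B χ + C' χ + D χ) : ℤ) : ℂ) = ((9 * m : ℤ) : ℂ) := by
      push_cast
      linear_combination hm
    exact_mod_cast h'
  have hsmall : ∀ χ, χ ≠ i₀ → A χ = -1 → B χ = -1 → f χ < 8 → f χ = 5 ∧ C' χ ≠ A χ := by
    intro χ hχ ea eb h8
    have h3 := hA3 χ
    have h9 := hS χ
    rw [ea, eb] at h9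
    obtain ⟨k, hk, hk'⟩ := exists_nat_of_real χ (c.pow_three ha) (c.real ha) (hf χ) (hD χ)
    have hDne := hker c.a_ne hD χ hχ
    have hD3' := hD3 χ
    have hC : C' χ = -1 ∨ C' χ = 2 := by
      rcases pAC χ with ⟨e, -, -⟩ | ⟨e, -⟩ <;> rw [ea] at e <;> omega
    have hCne := hker hz1 hC' χ hχ
    rw [ea] at h3 ⊢
    have hfz := hf0 χ
    rcases hC with e | e <;> rw [e] at h9 hCne ⊢ <;> omega
  have hdiff : ∀ χ, A χ ≠ B χ → A χ + B χ = 1 → 5 ≤ f χ := by
    intro χ hne hs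
    have hab : (A χ = 2 ∧ B χ = -1) ∨ (A χ = -1 ∧ B χ = 2) := by
      rcases pAB χ with ⟨e, -, -⟩ | ⟨hp, -⟩
      · exact absurd e hne
      have hb : B χ = 1 - A χ := by omega
      rw [hb] at hp
      have : (A χ - 2) * (A χ + 1) = 0 := by linarith
      rcases mul_eq_zero.1 this with e | e
      · exact Or.inl ⟨by omega, by omega⟩
      · exact Or.inr ⟨by omega, by omega⟩
    have hχ : χ ≠ i₀ := fun e => hne (by rw [e, a0, b0])
    have hfz := hf0 χ
    have h3 := hA3 χ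
    have kA := hker hx1 hA χ hχ
    have kB := hker hy1 hB χ hχ
    omega
  -- the bound
  let f' : Cfsg.IrrCharacter X → ℕ := fun χ =>
    if χ ≠ i₀ ∧ A χ = -1 ∧ B χ = -1 then max 8 (f χ) else f χ
  have hbound := SylowThreeNine.triple_bound A B f'
    (fun χ => by simp only [f']; split_ifs <;> [positivity; exact hf0 χ]) nA nB oAB (m3 hA3 hB3)
    a0 b0 (by simp [f', hf01]) (fun χ hχ ea eb => by simp [f', hχ, ea, eb])
    (fun χ hne hs => (hdiff χ hne hs).trans (by simp only [f']; split_ifs <;> omega))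
  let e : Cfsg.IrrCharacter X → ℚ := fun χ => if C' χ ≠ A χ then 1 else 0
  have hdefect : ∀ χ, ((A χ * B χ * (A χ + B χ) : ℤ) : ℚ) / (f' χ : ℚ) - 3 / 20 * e χ ≤
      ((A χ * B χ * (A χ + B χ) : ℤ) : ℚ) / (f χ : ℚ) := by
    intro χ
    have he : 0 ≤ e χ := by simp only [e]; split_ifs <;> norm_num
    by_cases hc : (χ ≠ i₀ ∧ A χ = -1 ∧ B χ = -1) ∧ f χ < 8
    · obtain ⟨⟨h1, h2, h3⟩, h8⟩ := hc
      obtain ⟨h5, hCA⟩ := hsmall χ h1 h2 h3 h8
      have hf8 : f' χ = 8 := by simp [f', h1, h2, h3, h5]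
      simp only [e, if_pos hCA, hf8, h5, h2, h3]
      norm_num
    · have : f' χ = f χ := by
        simp only [f']
        split_ifs with h
        · exact max_eq_right (not_lt.1 fun h' => hc ⟨h, h'⟩)
        · rfl
      rw [this]; linarith
  have hecard : ∑ χ, e χ ≤ 2 := by
    simp only [e, Finset.sum_boole]
    have hd : ∑ χ, (C' χ - A χ) ^ 2 = 18 := by
      have e' : ∀ χ, (C' χ - A χ) ^ 2 = C' χ * C' χ + A χ * A χ - 2 * (A χ * C' χ) := fun χ => by ring
      simp only [e', Finset.sum_sub_distrib, Finset.sum_add_distrib, ← Finset.mul_sum, nA, nC, oAC]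
      norm_num
    set T := Finset.univ.filter fun χ => C' χ ≠ A χ
    have hnine : ∀ χ ∈ T, 9 ≤ (C' χ - A χ) ^ 2 := by
      intro χ hχ
      obtain ⟨k, hk⟩ := m3 hC3 hA3 χ
      have hk0 : k ≠ 0 := fun e' => (Finset.mem_filter.1 hχ).2 (by rw [e'] at hk; linarith)
      rw [hk]
      nlinarith [Int.one_le_abs hk0, sq_abs k]
    have h2 := Finset.card_nsmul_le_sum T (fun χ => (C' χ - A χ) ^ 2) 9 hnine
    rw [nsmul_eq_mul] at h2
    have h3 : ∑ χ ∈ T, (C' χ - A χ) ^ 2 ≤ 18 := hd ▸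
      Finset.sum_le_sum_of_subset_of_nonneg (Finset.subset_univ T) fun χ _ _ => sq_nonneg _
    have : T.card ≤ 2 := by
      have : (T.card : ℤ) * 9 ≤ 18 := h2.trans h3
      omega
    exact_mod_cast this
  -- the structure constants vanish
  have hzero : ∀ {s t : X}, s ∈ c.S → s ∉ Subgroup.zpowers c.a → t ∈ c.S →
      t ∉ Subgroup.zpowers c.a → t ∉ Subgroup.zpowers s →
      ∀ {P Q : Cfsg.IrrCharacter X → ℤ}, (∀ χ, (χ.1 : X → ℂ) s = P χ) →
      (∀ χ, (χ.1 : X → ℂ) t = Q χ) →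
      ∑ χ, ((Q χ * (P χ * P χ) : ℤ) : ℚ) / (f χ : ℚ) = 0 := by
    intro s t hs hsa ht hta hts P Q hP hQ
    haveI : IsEmpty {w : X // IsConj s w ∧ IsConj s (w⁻¹ * t)} :=
      ⟨fun w => c.no_factors hs hsa ht hta hts w.2.1 w.2.2⟩
    have h := SylowThreeNine.pairs_eq s s t
    rw [Nat.card_of_isEmpty (α := {w : X // IsConj s w ∧ IsConj s (w⁻¹ * t)}), Nat.cast_zero,
      mul_zero, eq_comm, mul_eq_zero] at h
    have h' := h.resolve_left (Nat.cast_ne_zero.2 Nat.card_pos.ne')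
    simp only [hP, hQ, hf, map_intCast] at h'
    have h'' : ((∑ χ, ((Q χ * (P χ * P χ) : ℤ) : ℚ) / (f χ : ℚ) : ℚ) : ℂ) = ((0 : ℚ) : ℂ) := by
      push_cast
      rw [← h']
      exact Finset.sum_congr rfl fun χ _ => by ring
    exact_mod_cast h''
  have hxy : x ∉ Subgroup.zpowers (c.a * x) := fun h =>
    nyx (c.mem_zpowers_symm hy hy1 hx hx1 h)
  have h1 := hzero hx hxa hy hya nyx hA hB
  have h2 := hzero hy hya hx hxa hxy hB hA
  have hsum : ∑ χ, ((A χ * B χ * (A χ + B χ) : ℤ) : ℚ) / (f χ : ℚ) = 0 := by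
    rw [← add_zero (0 : ℚ)]
    conv_rhs => arg 1; rw [← h1]
    conv_rhs => arg 2; rw [← h2]
    rw [← Finset.sum_add_distrib]
    refine Finset.sum_congr rfl fun χ _ => ?_
    push_cast
    ring
  have h3 := Finset.sum_le_sum fun χ (_ : χ ∈ Finset.univ) => hdefect χ
  rw [Finset.sum_sub_distrib, ← Finset.mul_sum, hsum] at h3
  linarith

end NineTwo

end CfsgLib.AltNineRecog
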